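import Cfsg.Agent.Lib.CoxTorus.Diag
import Cfsg.Agent.Lib.LocalEven.Zsigmondy
import Cfsg.Agent.Lib.Lie.TwField
import Mathlib.FieldTheory.Finite.Extension

/-! A cyclic self-centralising torus whose order is the value of a cyclotomic polynomial. -/

set_option autoImplicit false

namespace Cfsg.Agent.CoxTorus

open Cfsg.Lie Cfsg.Agent.Chev Cfsg.Agent.Chev.Tab Cfsg.Agent.ChevAut Polynomial

variable {T : Tab}

theorem exists_range_of_fixed {F E : Type*} [Field F] [Field E] [Fintype F] (φ : F →+* E) {e : E}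
    (h : e ^ Fintype.card F = e) : ∃ t, φ t = e := by
  classical
  by_contra hne
  push Not at hne
  have h1 : 1 < Fintype.card F := Fintype.one_lt_card
  have hp0 : (X ^ Fintype.card F - X : E[X]) ≠ 0 := FiniteField.X_pow_card_sub_X_ne_zero E h1
  have hsub : (insert e (Finset.univ.image φ)).val ⊆ (X ^ Fintype.card F - X : E[X]).roots := by
    intro x hx
    rw [mem_roots hp0, IsRoot.def, eval_sub, eval_pow, eval_X, sub_eq_zero]
    rcases Finset.mem_insert.1 hx with rfl | hx
    · exact h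
    · obtain ⟨t, -, rfl⟩ := Finset.mem_image.1 hx
      rw [← map_pow, FiniteField.pow_card]
  have hcard := card_le_degree_of_subset_roots hsub
  rw [Finset.card_insert_of_notMem (by simpa using hne), Finset.card_image_of_injective _ φ.injective,
    Finset.card_univ, FiniteField.X_pow_card_sub_X_natDegree_eq E h1] at hcard
  omega

theorem wt_pow {E : Type*} [Field E] (c : ℕ → Eˣ) (k s : ℕ) : wt T E (c ^ k) s = wt T E c s ^ k := by
  induction k with
  | zero => simp [wt]
  | succ k ih => rw [pow_succ, wt_mul, ih, pow_succ]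

theorem avec_ne_zero (g : T.Good) {s : ℕ} (hs : s < T.n) : avec T s ≠ 0 := by
  intro h
  have h2 := (g.sign' hs).2.1
  rw [Finset.sum_eq_zero fun j hj => ?_] at h2
  · omega
  · rw [show T.A j s = 0 from congrFun h ⟨j, Finset.mem_range.1 hj⟩, mul_zero]

theorem krylov_col_root (g : T.Good) {L : List ℕ} (hL : T.Wd L) {s : ℕ} (hs : s < T.n)
    (k : Fin T.l) : ∃ t < T.n, (fun i => krylov (wmat T L) (avec T s) i k) = avec T t :=
  ⟨T.rw' (rep k L) s, rw'_lt g (rep_wd hL k) hs, by
    rw [← wmat_avec g (rep_wd hL k) hs, wmat_rep]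
    rfl⟩

theorem exists_torus (g : T.GoodA) {M : List (List ℤ)} (hM : checkDual T 1 M = true)
    (hcomb : checkComb T M = true) {d : ℕ} (hd : 2 < d) (hd6 : d ≠ 6) (hl : T.l = Nat.totient d)
    {C : TorCert} {steps : List (ℕ × List Rep)} {degs : List ℕ} (hC : T.checkTor C = true)
    (hC0 : C.k = 0) (hS : T.checkChain [] steps = true) (hP : T.checkPoly steps degs = true)
    (hdeg : d ∈ degs) {B : ℕ}
    (hdet : ∀ K : Matrix (Fin T.l) (Fin T.l) ℤ, (∀ k, ∃ s < T.n, (fun i => K i k) = avec T s) →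
      K.det.natAbs ≤ B)
    (hsmall : ∀ r : ℕ, r.Prime → d ∣ r - 1 → B < r ∧ ¬ r ∣ Nat.card (wG g.toGood))
    {F : Type*} [Field F] [Fintype F] {q : ℕ} (hF : Fintype.card F = q) {N : ℕ}
    (hN : (cyclotomic d ℤ).eval (q : ℤ) = N)
    (hv : ∀ L, T.Wd L → aeval (wmat T L) (cyclotomic d ℤ) = 0 →
      ∃ s < T.n, IsCoprime (krylov (wmat T L) (avec T s)).det (N : ℤ)) :
    ∃ H : Subgroup ↥(T.D.group F), IsCyclic ↥H ∧ Nat.card ↥H = N ∧
      Subgroup.centralizer (H : Set ↥(T.D.group F)) = H := by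
  classical
  have hg := g.toGood
  have hq : IsPrimePow q := hF ▸ FiniteField.isPrimePow_card F
  have hq2 : 2 ≤ q := hq.one_lt
  obtain ⟨r, hr, hrd, hprim⟩ := LEZsig.zsigmondy q d (by omega) (by omega)
    (fun h => hd6 h.2) (fun h => by omega)
  haveI : Fact r.Prime := ⟨hr⟩
  have hrq : ¬ r ∣ q := fun h => by
    have h1 : r ∣ q ^ d - (q ^ d - 1) := Nat.dvd_sub (dvd_pow h (by omega)) hrd
    rw [Nat.sub_sub_self (Nat.one_le_pow _ _ (by omega))] at h1
    exact hr.one_lt.ne' (Nat.dvd_one.1 h1)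
  have hroot : IsPrimitiveRoot (((q : ℕ) : ℤ) : ZMod r) d := by
    rw [Int.cast_natCast]
    have hcast : ∀ k, (r ∣ q ^ k - 1 ↔ ((q : ℕ) : ZMod r) ^ k = 1) := fun k => by
      rw [← ZMod.natCast_eq_zero_iff, Nat.cast_sub (Nat.one_le_pow _ _ (by omega)), Nat.cast_pow,
        Nat.cast_one, sub_eq_zero]
    exact (IsPrimitiveRoot.iff (by omega)).2
      ⟨(hcast d).1 hrd, fun k hk hkd h => hprim k hk hkd ((hcast k).2 h)⟩
  have hd1 : d ∣ r - 1 := hroot.dvd_of_pow_eq_one _ (ZMod.pow_card_sub_one_eq_one (by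
    rw [Int.cast_natCast, Ne, ZMod.natCast_eq_zero_iff]
    exact hrq))
  obtain ⟨hBr, hWr⟩ := hsmall r hr hd1
  -- the element of order `r`
  have hrG : r ∣ Nat.card (T.D.group F) := by
    have h := card_group_formula (F := F) g hF hC hS hP
    rw [hC0, pow_zero, one_mul] at h
    rw [h]
    exact dvd_mul_of_dvd_right (hrd.trans (List.dvd_prod (List.mem_map.2 ⟨d, hdeg, rfl⟩))) _
  haveI : Finite F := Finite.of_fintype F
  obtain ⟨x, hx⟩ := exists_prime_orderOf_dvd_card' r hrG
  -- the extension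
  obtain ⟨p, hp⟩ := CharP.exists F
  haveI : Fact p.Prime := ⟨CharP.char_is_prime F p⟩
  haveI : NeZero d := ⟨by omega⟩
  let E := FiniteField.Extension F p d
  haveI : Fintype E := Fintype.ofFinite E
  have hcE : Fintype.card E = q ^ d := by
    rw [← Nat.card_eq_fintype_card, FiniteField.natCard_extension, Nat.card_eq_fintype_card, hF]
  obtain ⟨σ, hσ⟩ := TwField.exists_powHom (K := E) hq hcE
  let φ : F →+* E := algebraMap F E
  have hφ : ∀ t, σ (φ t) = φ t := fun t => by rw [hσ, ← map_pow, ← hF, FiniteField.pow_card]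
  have hrange : ∀ t : E, σ t = t ↔ ∃ s, φ s = t := fun t =>
    ⟨fun h => exists_range_of_fixed φ (by rw [hF, ← hσ, h]), fun ⟨s, hs⟩ => hs ▸ hφ s⟩
  let ι : ↥(T.D.group F) →* GL T.D.Idx E := (fieldMap T φ).comp (T.D.group F).subtype
  have hιinj : Function.Injective ι :=
    (Units.map_injective (Matrix.map_injective φ.injective)).comp Subtype.val_injective
  have hιG : ∀ z, ι z ∈ T.D.group E := by
    rintro ⟨z, hz⟩
    show fieldMap T φ z ∈ _
    induction hz using Subgroup.closure_induction with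
    | mem y hy =>
      obtain ⟨s, t, ht⟩ := hy
      rw [show y = xg hg s t from eq_xg hg (by rw [ht, ChevalleyDatum.x, dif_pos s.2]), fieldMap_xg]
      exact xg_mem_group _ _ _
    | one => simp [one_mem]
    | mul a b _ _ ha hb => rw [map_mul]; exact mul_mem ha hb
    | inv a _ ha => rw [map_inv]; exact inv_mem ha
  have hιfix : ∀ z, entryHom T σ (ι z) = ι z := fun z => Units.ext (Matrix.ext fun a b => hφ _)
  -- diagonalisation
  have hQ : r ∣ Fintype.card E - 1 := by rw [hcE]; exact hrd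
  obtain ⟨h, hh, c, hcr, hc⟩ := exists_conj_tor g hM hr hQ hWr (hιG x)
    (by rw [← map_pow, ← hx, pow_orderOf_eq_one, map_one])
  have hσtor : ∀ e : ℕ → Eˣ, entryHom T σ (tor T E e) = tor T E (e ^ q) := fun e => by
    rw [entryHom_tor]
    congr 1
    funext j
    exact Units.ext (by simp [hσ])
  set m := entryHom T σ h * h⁻¹ with hm
  have hmG : m ∈ T.D.group E := mul_mem (entryHom_group hg σ hh) (inv_mem hh)
  have hmc : ∀ (z) (e : ℕ → Eˣ), h * ι z * h⁻¹ = tor T E e →
      m * tor T E e * m⁻¹ = tor T E (e ^ q) := fun z e he => by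
    rw [← hσtor, ← he, map_mul, map_mul, hιfix, map_inv, hm]
    group
  obtain ⟨L, hL, hn⟩ := exists_word_of_conj g hmG (hmc x c hc)
  set X' := wmat T L.reverse with hX'
  have hWL : T.Wd L.reverse := hL.reverse
  have htwist : ∀ e : ℕ → Eˣ,
      nWd hg E L * tor T E e * (nWd hg E L)⁻¹ = tor T E (e ^ q) ↔
        Twist (fun j : Fin T.l => e j) X' q := by
    intro e
    constructor
    · intro he
      refine twist_of_roots hg hM fun s hs => ?_
      have h1 := wt_of_conj hg hL he (rw'_lt hg hWL hs)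
      rw [wt_pow, rw'_rev' hg hL hs] at h1
      rw [hX', wmat_avec hg hWL hs, ← wt_eq_chi, ← wt_eq_chi, h1]
    · intro he
      refine conj_of_wt hg hL fun s hs => ?_
      have h1 := he (avec T (T.rw' L s))
      rw [hX', wmat_avec hg hWL (rw'_lt hg hL hs), rw'_rev hg hL hs, ← wt_eq_chi, ← wt_eq_chi] at h1
      rw [wt_pow, h1]
  have hcT := (htwist c).1 hn
  have hone : ∃ j < T.l, c j ≠ 1 := by
    by_contra hcon
    push Not at hcon
    rw [tor_congr hg (d := 1) hcon, map_one, conj_eq_one_iff] at hc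
    have : x = 1 := hιinj (by rw [hc, map_one])
    rw [this, orderOf_one] at hx
    exact hr.one_lt.ne hx
  obtain ⟨j₀, hj₀, hne₀⟩ := hone
  have hord : orderOf (c j₀) = r := orderOf_eq_prime (hcr j₀ hj₀) hne₀
  have hΦ : aeval X' (cyclotomic d ℤ) = 0 :=
    aeval_cyclotomic_eq_zero hl (by omega) Nat.card_pos hWr
      (wmat_pow_card hg ⟨1, one_pos, hM⟩ hWL) hroot hcT
      (j := ⟨j₀, hj₀⟩) hord
  -- regularity
  have hreg : ∀ s < T.n, wt T E c s ≠ 1 := by
    intro s hs h1
    rw [wt_eq_chi] at h1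
    have hdet0 := krylov_det_ne_zero hl (by omega) hΦ (avec_ne_zero hg hs)
    have h2 := orderOf_dvd_iff_zpow_eq_one.2 (hcT.coord_pow_det h1 ⟨j₀, hj₀⟩)
    rw [hord, Int.natCast_dvd] at h2
    have h3 := Nat.le_of_dvd (Int.natAbs_pos.2 hdet0) h2
    have h4 := hdet _ (krylov_col_root hg hWL hs)
    rw [← hX'] at h4
    omega
  have hstab := fun (L' : List ℕ) (hL' : T.Wd L')
      (hfix : ∀ s < T.n, wt T E c (T.rw' L' s) = wt T E c s) =>
    stab_trivial hg ⟨1, one_pos, hM⟩ hcomb hr hWr hcr (hord ▸ IsPrimitiveRoot.orderOf (c j₀)) hreg hL' hfix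
  have hcent : ∀ {y : GL T.D.Idx E}, y ∈ T.D.group E → Commute (tor T E c) y →
      ∃ e, y = tor T E e := fun hy hcomm =>
    G2Torus.exists_tor_of_commute' g hstab hreg hy hcomm
  have hNW : nWd hg E L ∈ T.D.group E :=
    monomial_le_group hg ((mem_monomial_iff hg).2 ⟨L, hL, 1, by rw [map_one, one_mul]⟩)
  obtain ⟨t, ht⟩ := hcent (y := (nWd hg E L)⁻¹ * m) (mul_mem (inv_mem hNW) hmG) (by
    have h1 : m * tor T E c * m⁻¹ = nWd hg E L * tor T E c * (nWd hg E L)⁻¹ :=
      (hmc x c hc).trans hn.symm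
    show tor T E c * ((nWd hg E L)⁻¹ * m) = (nWd hg E L)⁻¹ * m * tor T E c
    calc _ = (nWd hg E L)⁻¹ * (nWd hg E L * tor T E c * (nWd hg E L)⁻¹) * m := by group
      _ = _ := by rw [← h1]; group)
  have hmn : ∀ e, m * tor T E e * m⁻¹ = nWd hg E L * tor T E e * (nWd hg E L)⁻¹ := by
    intro e
    have hm' : m = nWd hg E L * tor T E t := by rw [← ht]; group
    rw [hm', show ∀ a b y : GL T.D.Idx E, a * b * y * (a * b)⁻¹ = a * (b * y * b⁻¹) * a⁻¹ from
      fun a b y => by group, ← map_inv, ← map_mul, ← map_mul, mul_right_comm, mul_inv_cancel,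
      one_mul]
  -- the torus
  let S := twistGroup T.l Eˣ X' q
  let θ : ↥S →* GL T.D.Idx E :=
    (MulAut.conj h⁻¹).toMonoidHom.comp ((tor T E).comp ((extC T E).comp S.subtype))
  have hθ : ∀ s : ↥S, θ s = h⁻¹ * tor T E (extC T E s.1) * h := fun s => by
    simp [θ, MulAut.conj_apply]
  have hext : ∀ (u : Fin T.l → Eˣ) (j : Fin T.l), extC T E u j = u j := fun u j => by
    simp [extC, j.2]
  have hθinj : Function.Injective θ := by
    intro a b hab
    simp only [hθ, mul_left_inj, mul_right_inj] at hab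
    exact Subtype.ext (funext fun j => by
      have := tor_inj hg hM hab j.2
      rwa [hext, hext] at this)
  let H : Subgroup ↥(T.D.group F) := θ.range.comap ι
  have hsub : θ.range ≤ ι.range := by
    rintro _ ⟨s, rfl⟩
    have hG : θ s ∈ T.D.group E := by
      rw [hθ]; exact mul_mem (mul_mem (inv_mem hh) (tor_mem_group hg _)) hh
    have hfix : entryHom T σ (θ s) = θ s := by
      have hs : Twist (fun j : Fin T.l => extC T E s.1 j) X' q := by
        simp only [hext]; exact s.2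
      have h2 : entryHom T σ h = m * h := by rw [hm]; group
      rw [hθ, map_mul, map_mul, map_inv, h2, hσtor, ← ((htwist _).2 hs), ← hmn]
      group
    have hmem := fixed_eq_fixElem g hM (fun a b e => by simpa using e) hG hfix
    refine (Subgroup.closure_le (K := ι.range)).2 ?_ hmem
    rintro _ ⟨k, t₀, ht₀, rfl⟩
    obtain ⟨t₁, rfl⟩ := (hrange t₀).1 ht₀
    exact ⟨⟨xg hg k t₁, xg_mem_group _ _ _⟩, fieldMap_xg hg φ k t₁⟩
  have hmap : H.map ι = θ.range := Subgroup.map_comap_eq_self hsub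
  let e₀ : ↥H ≃* ↥S := ((H.equivMapOfInjective ι hιinj).trans (MulEquiv.subgroupCongr hmap)).trans
    (MonoidHom.ofInjective hθinj).symm
  have hNE : N ∣ Nat.card Eˣ := by
    rw [Nat.card_units, Nat.card_eq_fintype_card, hcE, ← Int.natCast_dvd_natCast, ← hN,
      Nat.cast_sub (Nat.one_le_pow _ _ (by omega)), Nat.cast_pow, Nat.cast_one]
    have := eval_dvd (x := (q : ℤ)) (cyclotomic.dvd_X_pow_sub_one d ℤ)
    simpa using this
  obtain ⟨s₁, hs₁, hcop⟩ := hv L.reverse hWL hΦ
  obtain ⟨hcyc, hcard⟩ := twistGroup_cyclic (A := Eˣ) hl (by omega) hΦ hN hNE hcop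
  haveI := hcyc
  haveI hHc : IsCyclic ↥H := e₀.isCyclic.2 hcyc
  have hmemS : ∀ z e, h * ι z * h⁻¹ = tor T E e → z ∈ H := fun z e he => by
    have hs : Twist (fun j : Fin T.l => e j) X' q :=
      (htwist e).1 (by rw [← hmn]; exact hmc z e he)
    refine ⟨⟨_, hs⟩, ?_⟩
    rw [hθ, tor_congr hg (c := extC T E fun j : Fin T.l => e j) (d := e)
      (fun j hj => hext _ ⟨j, hj⟩), ← he]
    group
  refine ⟨H, hHc, (Nat.card_congr e₀.toEquiv).trans hcard, le_antisymm ?_ ?_⟩
  · intro z hz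
    have hzx := Subgroup.mem_centralizer_iff.1 hz x (hmemS x c hc)
    obtain ⟨e, he⟩ := hcent (y := h * ι z * h⁻¹) (mul_mem (mul_mem hh (hιG z)) (inv_mem hh)) (by
      rw [← hc]
      show h * ι x * h⁻¹ * (h * ι z * h⁻¹) = h * ι z * h⁻¹ * (h * ι x * h⁻¹)
      calc _ = h * ι (x * z) * h⁻¹ := by rw [map_mul]; group
        _ = _ := by rw [hzx, map_mul]; group)
    exact hmemS z e he
  · intro z hz
    refine Subgroup.mem_centralizer_iff.2 fun y hy => ?_
    letI := IsCyclic.commGroup (α := ↥H)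
    exact congrArg Subtype.val (mul_comm (⟨y, hy⟩ : ↥H) ⟨z, hz⟩)

end Cfsg.Agent.CoxTorus
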