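import Mathlib

/-! Hadamard's bound for a positive quadratic form. -/

set_option autoImplicit false

namespace Cfsg.Agent.CoxTorus

open Matrix

theorem det_le_pow_of_posSemidef {n : ℕ} {S : Matrix (Fin n) (Fin n) ℝ} (hS : S.PosSemidef) {b : ℝ}
    (hb : ∀ i, S i i ≤ b) : S.det ≤ b ^ n := by
  classical
  rcases Nat.eq_zero_or_pos n with rfl | hn
  · simp
  set ev := hS.1.eigenvalues with hev
  have hdet : S.det = ∏ i, ev i := by simpa using hS.1.det_eq_prod_eigenvalues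
  have htr : S.trace = ∑ i, ev i := by simpa using hS.1.trace_eq_sum_eigenvalues
  have h0 : ∀ i, 0 ≤ ev i := fun i => hS.eigenvalues_nonneg i
  have hn' : (0 : ℝ) < n := by exact_mod_cast hn
  have hprod : (0 : ℝ) ≤ ∏ i, ev i := Finset.prod_nonneg fun i _ => h0 i
  have h := Real.geom_mean_le_arith_mean Finset.univ (fun _ => (1 : ℝ)) ev (fun _ _ => zero_le_one)
    (by simpa using hn') (fun i _ => h0 i)
  simp only [Real.rpow_one, one_mul, Finset.sum_const, Finset.card_univ, Fintype.card_fin,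
    nsmul_eq_mul, mul_one] at h
  have h2 : (∑ i, ev i) / n ≤ b := by
    rw [div_le_iff₀ hn', ← htr, Matrix.trace, mul_comm]
    calc ∑ i, S.diag i ≤ ∑ _i : Fin n, b := Finset.sum_le_sum fun i _ => hb i
      _ = _ := by simp
  have h3 : ((∏ i, ev i) ^ ((n : ℝ)⁻¹)) ^ n ≤ b ^ n :=
    pow_le_pow_left₀ (Real.rpow_nonneg hprod _) (h.trans h2) n
  rw [Real.rpow_inv_natCast_pow hprod hn.ne'] at h3
  rwa [hdet]

theorem det_sq_mul_le {n : ℕ} (G U : Matrix (Fin n) (Fin n) ℤ) (w : Fin n → ℤ) {k : ℤ} (hk : 0 < k)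
    (hw : ∀ i, 0 ≤ w i) (hG : k • G = Uᵀ * diagonal w * U) (K : Matrix (Fin n) (Fin n) ℤ) {b : ℤ}
    (hb : ∀ j, (fun i => K i j) ⬝ᵥ (G *ᵥ fun i => K i j) ≤ b) :
    K.det ^ 2 * G.det ≤ b ^ n := by
  set P := U * K with hP
  have hS : k • (Kᵀ * G * K) = Pᵀ * diagonal w * P := by
    rw [← Matrix.smul_mul, ← Matrix.mul_smul, hG, hP, transpose_mul]
    simp only [Matrix.mul_assoc]
  let f := Int.castRingHom ℝ
  have hpsd : ((k • (Kᵀ * G * K)).map f).PosSemidef := by
    have h := (PosSemidef.diagonal (d := fun i => (w i : ℝ)) (fun i => by simpa using hw i)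
      ).conjTranspose_mul_mul_same (P.map f)
    rw [hS, Matrix.map_mul, Matrix.map_mul, transpose_map, diagonal_map (map_zero f)]
    rw [conjTranspose_eq_transpose_of_trivial] at h
    exact h
  have hdiag : ∀ j, (k • (Kᵀ * G * K)).map f j j ≤ ((k * b : ℤ) : ℝ) := by
    intro j
    have e : (Kᵀ * G * K) j j = (fun i => K i j) ⬝ᵥ (G *ᵥ fun i => K i j) := by
      rw [Matrix.mul_assoc, mul_apply]
      simp only [transpose_apply, mul_apply, dotProduct, mulVec]
    rw [map_apply, Matrix.smul_apply, smul_eq_mul, e]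
    simp only [f, eq_intCast, Int.cast_le]
    exact mul_le_mul_of_nonneg_left (hb j) hk.le
  have h := det_le_pow_of_posSemidef hpsd hdiag
  rw [← RingHom.mapMatrix_apply, ← RingHom.map_det, det_smul, Fintype.card_fin, det_mul, det_mul,
    det_transpose] at h
  have h' : k ^ n * (K.det * G.det * K.det) ≤ (k * b) ^ n := by
    simp only [f, eq_intCast] at h
    exact_mod_cast h
  rw [mul_pow] at h'
  have := le_of_mul_le_mul_left h' (pow_pos hk n)
  rw [pow_two]
  linarith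

theorem natAbs_det_le {n : ℕ} (G U : Matrix (Fin n) (Fin n) ℤ) (w : Fin n → ℤ) {k : ℤ} (hk : 0 < k)
    (hw : ∀ i, 0 ≤ w i) (hG : k • G = Uᵀ * diagonal w * U) {b : ℤ} {B : ℕ}
    (hB : b ^ n < ((B : ℤ) + 1) ^ 2 * G.det) (K : Matrix (Fin n) (Fin n) ℤ)
    (hb : ∀ j, (fun i => K i j) ⬝ᵥ (G *ᵥ fun i => K i j) ≤ b) (hd : 0 < G.det) :
    K.det.natAbs ≤ B := by
  by_contra hc
  have h1 : ((B : ℤ) + 1) ^ 2 ≤ K.det ^ 2 := by
    rw [← Int.natAbs_sq K.det]
    gcongr
    omega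
  have h2 := det_sq_mul_le G U w hk hw hG K hb
  have h3 := mul_le_mul_of_nonneg_right h1 hd.le
  linarith

end Cfsg.Agent.CoxTorus
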