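import Cfsg.Agent.Lib.CoxTorus.Main
import Cfsg.Agent.Lib.CoxTorus.Bound

/-! Certificates for the bound on determinants of roots. -/

set_option autoImplicit false

namespace Cfsg.Agent.CoxTorus

open Cfsg.Lie Cfsg.Agent.Chev Cfsg.Agent.Chev.Tab Matrix

/-- A matrix given by its rows. -/
def lmat (n : ℕ) (M : List (List ℤ)) : Matrix (Fin n) (Fin n) ℤ :=
  Matrix.of fun i j => (M.getD (i : ℕ) []).getD (j : ℕ) 0

/-- The square lengths of the roots are bounded. -/
def checkNorm (T : Tab) (G : List (List ℤ)) (b : ℤ) : Bool :=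
  allBelow (fun s => decide (sumBelow (fun a =>
    T.A a s * sumBelow (fun c => (G.getD a []).getD c 0 * T.A c s) T.l) T.l ≤ b)) T.n

theorem det_of_cert {n : ℕ} {G U : Matrix (Fin n) (Fin n) ℤ} {w : Fin n → ℤ} {k : ℤ}
    (hG : k • G = Uᵀ * diagonal w * U) (hU : ∀ i j : Fin n, j < i → U i j = 0) :
    k ^ n * G.det = (∏ i, U i i) ^ 2 * ∏ i, w i := by
  have h := congrArg Matrix.det hG
  rw [det_smul, Fintype.card_fin, det_mul, det_mul, det_transpose, det_diagonal,
    det_of_isUpperTriangular (fun i j hij => hU i j hij)] at h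
  rw [h]; ring

theorem det_bound {T : Tab} {G U : List (List ℤ)} {w : List ℤ} {k b dG : ℤ} {B : ℕ}
    (hnorm : checkNorm T G b = true) (hk : 0 < k) (hw : ∀ i : Fin T.l, 0 ≤ w.getD (i : ℕ) 0)
    (hG : k • lmat T.l G =
      (lmat T.l U)ᵀ * diagonal (fun i : Fin T.l => w.getD (i : ℕ) 0) * lmat T.l U)
    (hU : ∀ i j : Fin T.l, j < i → lmat T.l U i j = 0)
    (hdG : k ^ T.l * dG = (∏ i, lmat T.l U i i) ^ 2 * ∏ i : Fin T.l, w.getD (i : ℕ) 0)
    (hpos : 0 < dG) (hB : b ^ T.l < ((B : ℤ) + 1) ^ 2 * dG)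
    (K : Matrix (Fin T.l) (Fin T.l) ℤ) (hK : ∀ k, ∃ s < T.n, (fun i => K i k) = avec T s) :
    K.det.natAbs ≤ B := by
  have hdet : (lmat T.l G).det = dG :=
    mul_left_cancel₀ (pow_ne_zero _ hk.ne') ((det_of_cert hG hU).trans hdG.symm)
  refine natAbs_det_le (lmat T.l G) (lmat T.l U) _ hk hw hG (by rw [hdet]; exact hB) K
    (fun j => ?_) (by rw [hdet]; exact hpos)
  obtain ⟨s, hs, e⟩ := hK j
  have h := allBelow_eq_true.1 hnorm s hs
  simp only [decide_eq_true_eq, sumBelow_eq_sum] at h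
  rw [Finset.sum_range] at h
  rw [e]
  refine le_trans (le_of_eq ?_) h
  simp only [dotProduct, mulVec, avec, lmat, Matrix.of_apply]
  exact Finset.sum_congr rfl fun a _ => by rw [Finset.sum_range]

end Cfsg.Agent.CoxTorus
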