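import Cfsg.Agent.Lib.CoxTorus.Weyl
import Cfsg.Agent.Lib.Lie.ChevOrder
import Cfsg.Agent.Lib.Lie.TwGraph
import Cfsg.Agent.Lib.G2Torus.Regular

/-! Elements of prime order dividing `|E| - 1` are diagonalisable; transporters between torus elements. -/

set_option autoImplicit false

namespace Cfsg.Agent.CoxTorus

open Cfsg.Lie Cfsg.Agent.Chev Cfsg.Agent.Chev.Tab Cfsg.Agent.ChevAut

variable {T : Tab} {E : Type*} [Field E]

theorem card_wG (g : T.Good) {steps : List (ℕ × List Rep)} (hS : T.checkChain [] steps = true) :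
    (Nat.card ↥(wG g) : ℤ) = (steps.map fun e => evalL (1 : ℤ) (lenPoly e.2)).prod := by
  classical
  haveI : Fintype ↥(wG g) := Fintype.ofFinite _
  obtain ⟨Jt, hJt, e⟩ := checkChain_spec g 1 steps [] hS
  rw [poinc_nil, Nat.cast_one, mul_one, ← poinc_top g hJt 1] at e
  simpa [Nat.card_eq_fintype_card] using e

theorem tor_inj (g : T.Good) {M : List (List ℤ)} (hM : checkDual T 1 M = true) {c d : ℕ → Eˣ}
    (h : tor T E c = tor T E d) {j : ℕ} (hj : j < T.l) : c j = d j := by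
  have h1 : ∀ i < T.l, wt T E (c / d) (T.smp i) = 1 := (tor_eq_iff_wt g).1 h
  have h2 := pow_coord hM (c / d) hj
  rw [pow_one, Finset.prod_eq_one (fun i hi => by
    rw [h1 i (Finset.mem_range.1 hi), _root_.one_zpow])] at h2
  exact div_eq_one.1 h2

theorem exists_conj_tor' (g : T.GoodA) [Fintype E]
    {r : ℕ} (hr : r.Prime) (hQ : r ∣ Fintype.card E - 1) (hW : ¬ r ∣ Nat.card (wG g.toGood))
    {y : GL T.D.Idx E} (hy : y ∈ T.D.group E) (hyr : y ^ r = 1) :
    ∃ h ∈ T.D.group E, ∃ c, h * y * h⁻¹ = tor T E c := by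
  classical
  haveI : Fact r.Prime := ⟨hr⟩
  have hg := g.toGood
  haveI : Finite E := Finite.of_fintype E
  let G := T.D.group E
  have hDG : T.D.diagonalSubgroup E ≤ G := by
    rw [diagonalSubgroup_eq hg]
    rintro _ ⟨c, rfl⟩
    exact tor_mem_group hg c
  let D : Subgroup G := (T.D.diagonalSubgroup E).subgroupOf G
  have hcD : Nat.card D = Nat.card (T.D.diagonalSubgroup E) :=
    Nat.card_congr (Subgroup.subgroupOfEquivOfLe hDG).toEquiv
  haveI : Fintype ↥(wG hg) := Fintype.ofFinite _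
  have hidx : ¬ r ∣ D.index := by
    have h1 := D.card_mul_index
    rw [hcD, card_group_eq g, card_borel g, mul_comm (Fintype.card E ^ T.N), mul_assoc] at h1
    rw [Nat.eq_of_mul_eq_mul_left Nat.card_pos h1, ← ZMod.natCast_eq_zero_iff]
    have hQ1 : (Fintype.card E : ZMod r) = 1 := by
      have := (ZMod.natCast_eq_zero_iff (Fintype.card E - 1) r).2 hQ
      rwa [Nat.cast_sub Fintype.card_pos, Nat.cast_one, sub_eq_zero] at this
    simp only [Nat.cast_mul, Nat.cast_pow, hQ1, one_pow, one_mul, Nat.cast_sum, Finset.sum_const,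
      Finset.card_univ, nsmul_eq_mul, mul_one]
    rw [ZMod.natCast_eq_zero_iff]
    convert hW using 2
    convert Nat.card_eq_fintype_card.symm
  let P₀ : Sylow r D := default
  have hPidx : ¬ r ∣ ((P₀ : Subgroup D).map D.subtype).index := by
    rw [Subgroup.index_map_subtype]
    intro h
    rcases hr.dvd_mul.1 h with h | h
    · exact P₀.not_dvd_index' (fun h0 => Subgroup.index_ne_zero_of_finite h0) h
    · exact hidx h
  let P : Sylow r G := (P₀.isPGroup'.map D.subtype).toSylow hPidx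
  have hzp : IsPGroup r (Subgroup.zpowers (⟨y, hy⟩ : G)) := by
    intro z
    obtain ⟨k, hk⟩ := Subgroup.mem_zpowers_iff.1 z.2
    refine ⟨1, Subtype.ext ?_⟩
    have : ((⟨y, hy⟩ : G)) ^ r = 1 := Subtype.ext hyr
    rw [pow_one, SubmonoidClass.coe_pow, ← hk, ← zpow_natCast, ← zpow_mul, mul_comm, zpow_mul,
      zpow_natCast, this, one_zpow]
    rfl
  obtain ⟨Q, hQ'⟩ := hzp.exists_le_sylow
  obtain ⟨h, hh⟩ := MulAction.exists_smul_eq G Q P
  have hmem : h * ⟨y, hy⟩ * h⁻¹ ∈ (P : Subgroup G) := by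
    rw [← hh, Sylow.smul_def, Sylow.pointwise_smul_def]
    exact ⟨_, hQ' (Subgroup.mem_zpowers _), rfl⟩
  obtain ⟨z, -, hz⟩ : h * ⟨y, hy⟩ * h⁻¹ ∈ (P₀ : Subgroup D).map D.subtype := hmem
  have hzD := z.2
  rw [Subgroup.mem_subgroupOf, diagonalSubgroup_eq hg] at hzD
  obtain ⟨c, hc⟩ := hzD
  have hc' : (h : GL T.D.Idx E) * y * (h : GL T.D.Idx E)⁻¹ = tor T E c := by
    rw [hc]
    exact (congrArg Subtype.val hz).symm
  exact ⟨h, h.2, c, hc'⟩

theorem exists_conj_tor (g : T.GoodA) [Fintype E] {M : List (List ℤ)} (hM : checkDual T 1 M = true)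
    {r : ℕ} (hr : r.Prime) (hQ : r ∣ Fintype.card E - 1) (hW : ¬ r ∣ Nat.card (wG g.toGood))
    {y : GL T.D.Idx E} (hy : y ∈ T.D.group E) (hyr : y ^ r = 1) :
    ∃ h ∈ T.D.group E, ∃ c, (∀ j < T.l, c j ^ r = 1) ∧ h * y * h⁻¹ = tor T E c := by
  obtain ⟨h, hh, c, hc⟩ := exists_conj_tor' g hr hQ hW hy hyr
  refine ⟨h, hh, c, fun j hj => ?_, hc⟩
  have h1 : tor T E (c ^ r) = tor T E 1 := by
    rw [map_pow, ← hc, conj_pow, hyr, map_one]
    group
  exact tor_inj g.toGood hM h1 hj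

theorem wt_of_conj (g : T.Good) {L : List ℕ} (hL : T.Wd L) {c c' : ℕ → Eˣ}
    (h : nWd g E L * tor T E c * (nWd g E L)⁻¹ = tor T E c') {s : ℕ} (hs : s < T.n) :
    wt T E c' (T.rw' L s) = wt T E c s := by
  obtain ⟨ε, -, hconj⟩ := nWd_conj (F := E) g hL hs
  have e : nWd g E L * (tor T E c * xg g s 1 * (tor T E c)⁻¹) * (nWd g E L)⁻¹ =
      tor T E c' * (nWd g E L * xg g s 1 * (nWd g E L)⁻¹) * (tor T E c')⁻¹ := by
    rw [← h]; group
  rw [tor_xg g c hs, mul_one, (hconj _).1, (hconj _).1, mul_one, tor_xg g c' (rw'_lt g hL hs)] at e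
  refine (Units.ext ?_)
  have := xg_injective g (rw'_lt g hL hs) e
  rw [mul_comm] at this
  exact (mul_right_cancel₀ ε.ne_zero this).symm

theorem conj_of_wt (g : T.Good) {L : List ℕ} (hL : T.Wd L) {c c' : ℕ → Eˣ}
    (h : ∀ s < T.n, wt T E c' (T.rw' L s) = wt T E c s) :
    nWd g E L * tor T E c * (nWd g E L)⁻¹ = tor T E c' := by
  obtain ⟨e, he⟩ := wSub_conj_torus g (nWd_mem_wSub (F := E) g hL) c
  rw [he, tor_eq_iff_wt g]
  intro i hi
  have hs := rw'_lt g hL.reverse (g.smp_lt hi)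
  have h1 := wt_of_conj g hL he hs
  have h2 := h _ hs
  rw [rw'_rev' g hL (g.smp_lt hi)] at h1 h2
  have h3 : wt T E (e / c') (T.smp i) * wt T E c' (T.smp i) = wt T E e (T.smp i) := by
    rw [← wt_mul, div_mul_cancel]
  rw [h2, ← h1] at h3
  exact mul_eq_right.1 h3

/-- Two conjugate torus elements are conjugate by a Weyl word. -/
theorem exists_word_of_conj (g : T.GoodA) {c c' : ℕ → Eˣ} {m : GL T.D.Idx E}
    (hm : m ∈ T.D.group E) (h : m * tor T E c * m⁻¹ = tor T E c') :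
    ∃ L, T.Wd L ∧ nWd g.toGood E L * tor T E c * (nWd g.toGood E L)⁻¹ = tor T E c' := by
  have hg := g.toGood
  obtain ⟨b, hb, n, hn, L, hL, ⟨a, ha⟩, u, hu, hm'⟩ := bruhat_exists g hm
  refine ⟨L, hL, ?_⟩
  obtain ⟨e, he⟩ := wSub_conj_torus hg (nWd_mem_wSub (F := E) hg hL) c
  rw [he]
  have hn' : n * tor T E c * n⁻¹ = tor T E e := by
    rw [ha, show ∀ a b x : GL T.D.Idx E, a * b * x * (a * b)⁻¹ = a * (b * x * b⁻¹) * a⁻¹ from
      fun a b x => by group, he, ← map_inv, ← map_mul, ← map_mul, mul_right_comm, mul_inv_cancel,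
      one_mul]
  have hu' : (tor T E c)⁻¹ * u * tor T E c ∈ uMinus hg E L := by
    have := (Subgroup.mem_normalizer_iff.1 (inv_mem (tor_normalizes (F := E) hg
      (fun r hr => hr.2.1) c)) u).1 hu
    rwa [inv_inv] at this
  have hx : b * tor T E e * n * ((tor T E c)⁻¹ * u * tor T E c) = tor T E c' * b * n * u := by
    calc _ = b * n * u * tor T E c := by rw [← hn']; group
      _ = tor T E c' * (b * n * u) := by rw [← hm', ← h]; group
      _ = _ := by group
  obtain ⟨hbb, -⟩ := (bruhat_unique g (mul_mem hb (torus_le_borel hg e))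
    (mul_mem (torus_le_borel hg c') hb) hn hn hL ha hu' hu hx).2 rfl rfl
  obtain ⟨v, hv, d, rfl⟩ := (mem_borel_iff hg).1 hb
  have hv' : tor T E c' * v * (tor T E c')⁻¹ ∈ genS hg E (Set.Ico T.N T.n) :=
    (Subgroup.mem_normalizer_iff.1 (tor_normalizes hg (fun r hr => hr.2) c') v).1 hv
  have hsplit : v * tor T E (d * e) = tor T E c' * v * (tor T E c')⁻¹ * tor T E (c' * d) := by
    rw [map_mul, map_mul, ← mul_assoc v]
    calc _ = tor T E c' * (v * tor T E d) := hbb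
      _ = _ := by group
  have hz : (tor T E c' * v * (tor T E c')⁻¹)⁻¹ * v = tor T E (c' * d) * (tor T E (d * e))⁻¹ := by
    rw [eq_mul_inv_iff_mul_eq, mul_assoc, hsplit, inv_mul_cancel_left]
  have h1 : (tor T E c' * v * (tor T E c')⁻¹)⁻¹ * v = 1 :=
    pos_inf_torus hg (mul_mem (inv_mem hv') hv) (by
      rw [hz, ← map_inv, ← map_mul, diagonalSubgroup_eq hg]
      exact ⟨_, rfl⟩)
  rw [h1] at hz
  have h2 := eq_mul_inv_iff_mul_eq.1 hz
  rw [one_mul, map_mul, map_mul, ← map_mul, mul_comm d e, map_mul] at h2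
  exact mul_right_cancel h2

end Cfsg.Agent.CoxTorus
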