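import Cfsg.Agent.Lib.CoxTorus.SixAlg

/-! Regularity of the twisted characters in rank six. -/

set_option autoImplicit false

namespace Cfsg.Agent.CoxTorus

open Matrix Polynomial

variable {G A : Matrix (Fin 6) (Fin 6) ℤ}

theorem pow_twelve (hA : aeval A sixPoly = 0) : A ^ 12 = 1 := by
  have h := congrArg (aeval A) (show (X : ℤ[X]) ^ 12 - 1 = (X ^ 2 - X + 1) * (X ^ 4 - 1) * sixPoly by
    rw [sixPoly]; ring)
  rw [map_sub, map_pow, aeval_X, map_one, map_mul (aeval A) _ sixPoly, hA, mul_zero, sub_eq_zero] at h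
  exact h

theorem norm_sq_eq_zero (hdef : ∀ x, x ⬝ᵥ (G *ᵥ x) = 0 → x = 0) {x : Fin 6 → ℤ}
    (h : x ⬝ᵥ (G *ᵥ x) = 0) : x = 0 := hdef x h

/-- The sum of three iterates vanishes when the third returns. -/
theorem sum_three_eq_zero (hiso : ∀ x y, (A *ᵥ x) ⬝ᵥ (G *ᵥ (A *ᵥ y)) = x ⬝ᵥ (G *ᵥ y))
    (hcomm : ∀ x y, x ⬝ᵥ (G *ᵥ y) = y ⬝ᵥ (G *ᵥ x)) (hdef : ∀ x, x ⬝ᵥ (G *ᵥ x) = 0 → x = 0)
    {v : Fin 6 → ℤ} (h0 : gseq G A v 0 = 6) (h1 : gseq G A v 1 = -3) (h2 : gseq G A v 2 = -3) :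
    v + A *ᵥ v + A ^ 2 *ᵥ v = 0 := by
  refine hdef _ ?_
  have e : v + A *ᵥ v + A ^ 2 *ᵥ v = A ^ 0 *ᵥ v + A ^ 1 *ᵥ v + A ^ 2 *ᵥ v := by simp
  rw [e]
  simp only [mulVec_add, dotProduct_add, add_dotProduct, gram_eq hiso hcomm]
  norm_num [h0, h1, h2]

theorem regular_six (hiso : ∀ x y, (A *ᵥ x) ⬝ᵥ (G *ᵥ (A *ᵥ y)) = x ⬝ᵥ (G *ᵥ y))
    (hcomm : ∀ x y, x ⬝ᵥ (G *ᵥ y) = y ⬝ᵥ (G *ᵥ x)) (hdef : ∀ x, x ⬝ᵥ (G *ᵥ x) = 0 → x = 0)
    (hGdet : G.det = 243) (hA : aeval A sixPoly = 0) (hchar : A.charpoly = sixPoly)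
    {H : Type*} [CommGroup H] {c : Fin 6 → H} {q r : ℕ} (hq : 1 ≤ q) (hr : r.Prime) (hr3 : 3 < r)
    (hrq : ¬ r ∣ q ^ 6 - 1) (hc : Twist c A q) (hcr : ∀ j, c j ^ r = 1) {j₀ : Fin 6}
    (hj₀ : orderOf (c j₀) = r) {v : Fin 6 → ℤ} (h0 : gseq G A v 0 = 6)
    (hvals : ∀ k, gseq G A v k ∈ ([6, 3, 0, -3, -6] : List ℤ))
    (hno : A ^ 3 *ᵥ v ≠ v) (hv : chi c v = 1) : False := by
  set g := gseq G A v with hg
  obtain ⟨e23, e4, e5, e6⟩ := gseq_relations hiso hcomm (v := v) (by rw [hA, zero_mulVec])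
  rw [← hg, h0] at e23 e4 e5
  rw [← hg] at e6
  have v1 := hvals 1
  have v2 := hvals 2
  have v3 := hvals 3
  have v5 := hvals 5
  have v6 := hvals 6
  simp only [List.mem_cons, List.not_mem_nil, or_false, ← hg] at v1 v2 v3 v5 v6
  have hndvd : ∀ a b : ℕ, ¬ r ∣ 3 ^ a * 2 ^ b := fun a b h => by
    rcases hr.dvd_mul.1 h with h | h
    · have := (Nat.prime_dvd_prime_iff_eq hr Nat.prime_three).1 (hr.dvd_of_dvd_pow h); omega
    · have := (Nat.prime_dvd_prime_iff_eq hr Nat.prime_two).1 (hr.dvd_of_dvd_pow h); omega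
  rcases (by omega : g 2 = 3 ∨ g 2 = 0 ∨ g 2 = -3) with hg2 | hg2 | hg2
  · -- the anti-invariant case
    have hg3 : g 3 = 0 := by omega
    have hg4 : g 4 = -3 := by omega
    have hg6 : g 6 = -6 := by omega
    have hanti : A ^ 6 *ᵥ v = -v := by
      refine eq_neg_of_add_eq_zero_left (hdef _ ?_)
      have e : A ^ 6 *ᵥ v + v = A ^ 6 *ᵥ v + A ^ 0 *ᵥ v := by simp
      rw [e]
      simp only [mulVec_add, dotProduct_add, add_dotProduct, gram_eq hiso hcomm, ← hg]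
      norm_num [h0, hg6]
    have hrec : A ^ 4 *ᵥ v = A ^ 2 *ᵥ v - v := by
      refine eq_of_sub_eq_zero (hdef _ ?_)
      have e : A ^ 4 *ᵥ v - (A ^ 2 *ᵥ v - v) = A ^ 4 *ᵥ v - A ^ 2 *ᵥ v + A ^ 0 *ᵥ v := by
        rw [pow_zero, one_mulVec]; abel
      rw [e]
      simp only [mulVec_add, mulVec_sub, dotProduct_add, dotProduct_sub, add_dotProduct, sub_dotProduct,
        gram_eq hiso hcomm, ← hg]
      norm_num [h0, hg2, hg4]
    set S : Matrix (Fin 6) (Fin 4) ℤ := Matrix.of fun i k => (A ^ (k : ℕ) *ᵥ v) i with hS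
    set Γ := Sᵀ * G * S with hΓ
    have hΓeq : Γ = Matrix.of fun i j : Fin 4 => g ((i : ℕ) - j + ((j : ℕ) - i)) := by
      ext i j
      rw [hΓ, Matrix.mul_assoc, Matrix.of_apply, hg, ← gram_eq hiso hcomm]
      simp only [mul_apply, transpose_apply, hS, Matrix.of_apply, dotProduct, mulVec]
    have hD := gram_det_four g h0 hg2 hg3 (by simp only [List.mem_cons, List.not_mem_nil, or_false]; exact v1)
    rw [← hΓeq] at hD
    have hDr : ¬ (r : ℤ) ∣ Γ.det := by
      simp only [List.mem_cons, List.not_mem_nil, or_false] at hD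
      rcases hD with e | e | e <;> rw [e, Int.natCast_dvd] <;> intro h
      · exact hndvd 4 0 h
      · exact hndvd 4 2 h
      · exact hndvd 6 0 h
    have hvk : ∀ k : ℕ, chi c (A ^ k *ᵥ v) = 1 := fun k => by
      have e := hc.aeval (X ^ k) v
      rw [map_pow, aeval_X] at e
      rw [e, hv, _root_.one_zpow]
    obtain ⟨u₀, hu₀⟩ : ∃ x, A ^ 6 *ᵥ x ≠ -x := by
      by_contra hcon
      push Not at hcon
      have h6 : A ^ 6 = -1 := ext_of_mulVec_single fun i => by rw [hcon, neg_mulVec, one_mulVec]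
      have hω := Complex.isPrimitiveRoot_exp 3 (by norm_num)
      set ω := Complex.exp (2 * Real.pi * Complex.I / (3 : ℕ))
      have hroot : (A.charpoly.map (Int.castRingHom ℂ)).eval ω = 0 := by
        have h3 : (cyclotomic 3 ℂ).eval ω = 0 := hω.isRoot_cyclotomic (by norm_num)
        rw [cyclotomic_three] at h3
        simp only [eval_add, eval_pow, eval_X, eval_one] at h3
        rw [hchar, sixPoly_factor]
        simp [h3]
      have h := eigen_eval hroot (p := X ^ 6 + 1) (by rw [map_add, map_pow, aeval_X, map_one, h6, neg_add_cancel])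
      simp only [Polynomial.map_add, Polynomial.map_pow, map_X, Polynomial.map_one, eval_add, eval_pow,
        eval_X, eval_one] at h
      rw [show (6 : ℕ) = 3 * 2 from rfl, pow_mul, hω.pow_eq_one] at h
      norm_num at h
    set u := u₀ + A ^ 6 *ᵥ u₀ with hu
    have hu0 : u ≠ 0 := fun h => hu₀ (eq_neg_of_add_eq_zero_left (by rw [add_comm]; exact h))
    have h12 := pow_twelve hA
    have hufix : A ^ 6 *ᵥ u = u := by
      rw [hu, mulVec_add, mulVec_mulVec, ← pow_add, h12, one_mulVec, add_comm]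
    have hcomm6 : ∀ p : ℤ[X], aeval A p * A ^ 6 = A ^ 6 * aeval A p := fun p => by
      conv_lhs => rw [show A ^ 6 = aeval A (X ^ 6 : ℤ[X]) by simp, ← map_mul, mul_comm, map_mul]
      simp
    have hsplit : ∀ p : ℤ[X], aeval A p *ᵥ (v + u) = 0 → aeval A p *ᵥ v = 0 ∧ aeval A p *ᵥ u = 0 := by
      intro p hp
      have h1 := congrArg (A ^ 6 *ᵥ ·) hp
      simp only [mulVec_mulVec, ← hcomm6, mulVec_zero] at h1
      rw [← mulVec_mulVec, mulVec_add, hanti, hufix, mulVec_add, mulVec_neg] at h1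
      rw [mulVec_add] at hp
      have hvz : aeval A p *ᵥ v = 0 := by
        funext i
        have a1 := congrFun h1 i
        have a2 := congrFun hp i
        simp only [Pi.add_apply, Pi.neg_apply, Pi.zero_apply] at a1 a2 ⊢
        omega
      exact ⟨hvz, by rwa [hvz, zero_add] at hp⟩
    have hv12 : aeval A (X ^ 4 - X ^ 2 + 1 : ℤ[X]) *ᵥ v = 0 := by
      simp only [map_add, map_sub, map_pow, aeval_X, map_one, add_mulVec, sub_mulVec, one_mulVec, hrec]
      abel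
    have hv0 : v ≠ 0 := fun h => by
      rw [hg, gseq, h, zero_dotProduct] at h0
      norm_num at h0
    have hK : (krylov A (v + u)).det ≠ 0 := by
      refine krylov_det_ne_zero_six hA (fun h => ?_) (fun h => ?_)
      · refine hv0 (eq_zero_of_coprime (A := A) (p := X ^ 2 + X + 1) (r := X ^ 4 - X ^ 2 + 1) ?_
          (hsplit _ h).1 hv12)
        rw [← cyclotomic_twelve, ← cyclotomic_three, map_cyclotomic_int, map_cyclotomic_int]
        exact cyclotomic.isCoprime_rat (by norm_num)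
      · have h1 := (hsplit _ h).2
        refine hu0 ?_
        have h2 := congrArg (fun f : ℤ[X] => aeval A f *ᵥ u)
          (show (X : ℤ[X]) ^ 6 + 1 = (X ^ 2 + 1) * (X ^ 4 - X ^ 2 + 1) by ring)
        simp only [map_mul, ← mulVec_mulVec, h1, mulVec_zero] at h2
        simp only [map_add, map_pow, aeval_X, map_one, add_mulVec, one_mulVec, hufix] at h2
        funext i
        have := congrFun h2 i
        simp only [Pi.add_apply, Pi.zero_apply] at this ⊢
        omega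
    have hxfix : ∀ x : Fin 6 → ℤ,
        A ^ 6 *ᵥ (Γ.det • x - S *ᵥ (Γ.adjugate *ᵥ (Sᵀ *ᵥ (G *ᵥ x)))) =
          Γ.det • x - S *ᵥ (Γ.adjugate *ᵥ (Sᵀ *ᵥ (G *ᵥ x))) := by
      intro x
      set x' := Γ.det • x - S *ᵥ (Γ.adjugate *ᵥ (Sᵀ *ᵥ (G *ᵥ x))) with hx'
      have horth : ∀ k : Fin 4, (A ^ (k : ℕ) *ᵥ v) ⬝ᵥ (G *ᵥ x') = 0 := by
        intro k
        have e : Sᵀ *ᵥ (G *ᵥ x') = 0 := by
          have hΓz : ∀ z, Sᵀ *ᵥ (G *ᵥ (S *ᵥ z)) = Γ *ᵥ z := fun z => by
            rw [hΓ, ← mulVec_mulVec, ← mulVec_mulVec]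
          rw [hx', mulVec_sub, mulVec_sub, mulVec_smul, mulVec_smul, hΓz, mulVec_mulVec _ Γ,
            mul_adjugate, smul_mulVec, one_mulVec]
          exact sub_self _
        exact congrFun e k
      set y := x' - A ^ 6 *ᵥ x' with hy
      have hyanti : A ^ 6 *ᵥ y = -y := by
        rw [hy, mulVec_sub, mulVec_mulVec, ← pow_add, h12, one_mulVec]; abel
      have hyv : ∀ k : ℕ, k < 6 → (A ^ k *ᵥ v) ⬝ᵥ (G *ᵥ y) = 0 := by
        have hbase : ∀ k : Fin 4, (A ^ (k : ℕ) *ᵥ v) ⬝ᵥ (G *ᵥ y) = 0 := by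
          intro k
          rw [hy, mulVec_sub, dotProduct_sub, horth, zero_sub, neg_eq_zero]
          have h2 := iso_pow hiso 6 (A ^ (k : ℕ) *ᵥ v) x'
          rw [mulVec_mulVec v (A ^ 6) (A ^ (k : ℕ)), ← pow_add, add_comm, pow_add, ← mulVec_mulVec,
            hanti, mulVec_neg, neg_dotProduct, horth, neg_eq_zero] at h2
          exact h2
        intro k hk
        have r4 : A ^ 4 *ᵥ v = A ^ 2 *ᵥ v - A ^ 0 *ᵥ v := by rw [hrec, pow_zero, one_mulVec]
        have r5 : A ^ 5 *ᵥ v = A ^ 3 *ᵥ v - A ^ 1 *ᵥ v := by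
          rw [pow_succ' A 4, ← mulVec_mulVec, hrec, mulVec_sub, mulVec_mulVec, ← pow_succ', pow_one]
        interval_cases k
        · exact hbase 0
        · exact hbase 1
        · exact hbase 2
        · exact hbase 3
        · rw [r4, sub_dotProduct, show (A ^ 2 *ᵥ v) ⬝ᵥ (G *ᵥ y) = 0 from hbase 2,
            show (A ^ 0 *ᵥ v) ⬝ᵥ (G *ᵥ y) = 0 from hbase 0, sub_zero]
        · rw [r5, sub_dotProduct, show (A ^ 3 *ᵥ v) ⬝ᵥ (G *ᵥ y) = 0 from hbase 3,
            show (A ^ 1 *ᵥ v) ⬝ᵥ (G *ᵥ y) = 0 from hbase 1, sub_zero]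
      have hyu : ∀ k : ℕ, (A ^ k *ᵥ u) ⬝ᵥ (G *ᵥ y) = 0 := fun k => by
        have h2 := iso_pow hiso 6 (A ^ k *ᵥ u) y
        rw [hyanti, mulVec_mulVec, ← pow_add, add_comm, pow_add, ← mulVec_mulVec, hufix, mulVec_neg,
          dotProduct_neg] at h2
        omega
      have hKy : (krylov A (v + u))ᵀ *ᵥ (G *ᵥ y) = 0 := by
        funext k
        show (A ^ (k : ℕ) *ᵥ (v + u)) ⬝ᵥ (G *ᵥ y) = 0
        rw [mulVec_add, add_dotProduct, hyv k k.2, hyu, add_zero]
      have hGy : G *ᵥ y = 0 := by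
        by_contra hne
        exact hK (by rw [← det_transpose]; exact exists_mulVec_eq_zero_iff.1 ⟨_, hne, hKy⟩)
      exact (eq_of_sub_eq_zero (hdef y (by rw [hGy, dotProduct_zero]))).symm
    refine hDr ?_
    rw [← hj₀]
    refine orderOf_dvd_iff_zpow_eq_one.2 ?_
    set e : Fin 6 → ℤ := Pi.single j₀ 1 with he
    set w := Γ.adjugate *ᵥ (Sᵀ *ᵥ (G *ᵥ e)) with hw
    have hSw : chi c (S *ᵥ w) = 1 := by
      have : S *ᵥ w = ∑ k : Fin 4, w k • (A ^ (k : ℕ) *ᵥ v) := by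
        funext i
        simp [hS, mulVec, dotProduct, Finset.sum_apply, mul_comm]
      rw [this, chi_sum]
      exact Finset.prod_eq_one fun k _ => by rw [chi_smul, hvk, _root_.one_zpow]
    have h1 := hc.aeval (X ^ 6) (Γ.det • e - S *ᵥ w)
    rw [map_pow, aeval_X, hxfix, eval_pow, eval_X] at h1
    set z := chi c (Γ.det • e - S *ᵥ w) with hz
    have hz' : z = c j₀ ^ Γ.det := by
      have h2 : chi c (Γ.det • e - S *ᵥ w) * chi c (S *ᵥ w) = chi c (Γ.det • e) := by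
        rw [← chi_add, sub_add_cancel]
      rwa [hSw, mul_one, chi_smul, he, chi_single] at h2
    rw [← hz']
    have hzr : z ^ r = 1 := by
      rw [hz', ← zpow_natCast, ← _root_.zpow_mul, mul_comm, _root_.zpow_mul, zpow_natCast, hcr,
        _root_.one_zpow]
    have hzq : z ^ (q ^ 6 - 1) = 1 := by
      refine mul_right_cancel (b := z) ?_
      rw [← pow_succ, Nat.sub_add_cancel (Nat.one_le_pow _ _ hq), one_mul]
      conv_rhs => rw [h1]
      rw [← zpow_natCast]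
      push_cast
      rfl
    exact orderOf_eq_one_iff.1 (Nat.eq_one_of_dvd_coprimes (hr.coprime_iff_not_dvd.2 hrq)
      (orderOf_dvd_of_pow_eq_one hzr) (orderOf_dvd_of_pow_eq_one hzq))
  · -- the mixed case
    have hg3 : g 3 = 3 := by omega
    have hg4 : g 4 = -3 := by omega
    have hdet := (gram_det_six g).2 ⟨h0, hg2, hg3, hg4, by omega⟩
    rw [hg, ← krylov_gram hiso hcomm, det_mul, det_mul, det_transpose, hGdet] at hdet
    have h1 := Twist.coord_pow_det hc hv j₀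
    have h2 := orderOf_dvd_iff_zpow_eq_one.2 h1
    rw [hj₀] at h2
    set D := (krylov A v).det
    simp only [List.mem_cons, List.not_mem_nil, or_false] at hdet
    have h3 : (r : ℤ) ∣ D * D := dvd_mul_of_dvd_left h2 _
    rcases hdet with e | e
    · have : D * D = 9 := by linarith
      rw [this, Int.natCast_dvd] at h3
      exact hndvd 2 0 h3
    · have : D * D = 81 := by linarith
      rw [this, Int.natCast_dvd] at h3
      exact hndvd 4 0 h3
  · -- the invariant case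
    have hg3 : g 3 = 6 := by omega
    refine hno (eq_of_sub_eq_zero (hdef _ ?_))
    have e : A ^ 3 *ᵥ v - v = A ^ 3 *ᵥ v - A ^ 0 *ᵥ v := by simp
    rw [e]
    simp only [mulVec_sub, dotProduct_sub, sub_dotProduct, gram_eq hiso hcomm, ← hg]
    norm_num [h0, hg3]

end Cfsg.Agent.CoxTorus
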