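import Cfsg.Agent.Lib.CoxTorus.SCMain
import Cfsg.Agent.Lib.CoxTorus.Cert
import Cfsg.Agent.Lib.CoxTorus.SixRegular
import Cfsg.Agent.Lib.Lie.OrderE6

/-! The torus of order `Φ₁₂(q) Φ₃(q) / gcd (3, q - 1)` in type E6. -/

set_option autoImplicit false
set_option maxRecDepth 20000

namespace Cfsg.Agent.CoxTorus.E6

open Cfsg.Lie Cfsg.Agent.Chev Cfsg.Agent.Chev.Tab Cfsg.Agent.ChevAut Matrix Polynomial

/-- three times the inverse Cartan matrix -/
def dual : List (List ℤ) :=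
  [[4, 3, 5, 6, 4, 2], [3, 6, 6, 9, 6, 3], [5, 6, 10, 12, 8, 4], [6, 9, 12, 18, 12, 6], [4, 6, 8, 12, 10, 5],
   [2, 3, 4, 6, 5, 4]]

/-- the triangular factor -/
def upper : List (List ℤ) :=
  [[4, 3, 5, 6, 4, 2], [0, 5, 3, 6, 4, 2], [0, 0, 4, 3, 2, 1], [0, 0, 0, 3, 2, 1], [0, 0, 0, 0, 2, 1],
   [0, 0, 0, 0, 0, 1]]

/-- inverse Cartan matrix of type E8 -/
def dual8 : List (List ℤ) :=
  [[4, 5, 7, 10, 8, 6, 4, 2], [5, 8, 10, 15, 12, 9, 6, 3], [7, 10, 14, 20, 16, 12, 8, 4],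
   [10, 15, 20, 30, 24, 18, 12, 6], [8, 12, 16, 24, 20, 15, 10, 5], [6, 9, 12, 18, 15, 12, 8, 4],
   [4, 6, 8, 12, 10, 8, 6, 3], [2, 3, 4, 6, 5, 4, 3, 2]]

/-- the orbit of the first fundamental weight -/
def weights : List (List ℤ) :=
  [[1, 1, 0, -1, 0, 0], [1, 0, 0, 0, 0, 0], [1, 0, -1, 1, -1, 0], [1, 0, -1, 0, 1, -1], [1, 0, -1, 0, 0, 1], [1, -1, 0, 0, 0, 0], [0, 1, 0, 0, 0, -1], [0, 1, 0, 0, -1, 1], [0, 1, 0, -1, 1, 0], [0, 1, -1, 0, 0, 0], [0, 0, 1, 0, -1, 0], [0, 0, 1, -1, 1, -1], [0, 0, 1, -1, 0, 1], [0, 0, 0, 0, 0, -1], [0, 0, 0, 0, -1, 1], [0, 0, 0, -1, 1, 0], [0, 0, -1, 1, 0, 0], [0, -1, 0, 1, 0, -1], [0, -1, 0, 1, -1, 1], [0, -1, 0, 0, 1, 0], [0, -1, -1, 1, 0, 0], [-1, 1, 1, -1, 0, 0], [-1, 0, 1, 0, 0, 0], [-1, 0, 0, 1, -1, 0], [-1, 0, 0, 0, 1, -1], [-1, 0, 0, 0, 0, 1], [-1, -1, 1, 0, 0, 0]]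

/-- six independent weights, as columns -/
def wBasis : List (List ℤ) := [[1, 1, 1, 1, 1, 1], [1, 0, 0, 0, 0, -1], [0, 0, -1, -1, -1, 0], [-1, 0, 1, 0, 0, 0], [0, 0, -1, 1, 0, 0], [0, 0, 0, -1, 1, 0]]

/-- three times their inverse -/
def wCobasis : List (List ℤ) := [[0, 0, -1, -3, -2, -1], [3, 3, 5, 6, 4, 2], [0, 0, -1, 0, -2, -1], [0, 0, -1, 0, 1, -1], [0, 0, -1, 0, 1, 2], [0, -3, -1, -3, -2, -1]]

/-- small orbits of the maximal parabolic subgroups -/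
def pSets : ℕ → List (List ℤ)
  | 0 => [[0, 1, -1, 0, 0, 0], [0, 0, 0, 0, 0, -1], [0, 0, 0, 0, -1, 1], [0, 0, 0, -1, 1, 0], [0, -1, -1, 1, 0, 0], [-1, 1, 1, -1, 0, 0], [-1, 0, 0, 1, -1, 0], [-1, 0, 0, 0, 1, -1], [-1, 0, 0, 0, 0, 1], [-1, -1, 1, 0, 0, 0]]
  | 1 => [[1, 0, 0, 0, 0, 0], [0, 1, 0, 0, 0, -1], [0, 1, 0, 0, -1, 1], [0, 1, 0, -1, 1, 0], [0, 0, -1, 1, 0, 0], [-1, 0, 1, 0, 0, 0]]
  | 2 => [[1, 1, 0, -1, 0, 0], [1, 0, -1, 1, -1, 0], [1, 0, -1, 0, 1, -1], [1, 0, -1, 0, 0, 1], [1, -1, 0, 0, 0, 0], [-1, 1, 1, -1, 0, 0], [-1, 0, 0, 1, -1, 0], [-1, 0, 0, 0, 1, -1], [-1, 0, 0, 0, 0, 1], [-1, -1, 1, 0, 0, 0]]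
  | 3 => [[1, 0, 0, 0, 0, 0], [0, 0, -1, 1, 0, 0], [-1, 0, 1, 0, 0, 0], [0, 1, 0, 0, 0, -1], [0, 1, 0, 0, -1, 1], [0, 1, 0, -1, 1, 0], [0, -1, 0, 1, 0, -1], [0, -1, 0, 1, -1, 1], [0, -1, 0, 0, 1, 0]]
  | 4 => [[1, 0, -1, 0, 1, -1], [1, 0, -1, 0, 0, 1], [0, 1, 0, 0, 0, -1], [0, 1, 0, 0, -1, 1], [0, 0, 1, -1, 1, -1], [0, 0, 1, -1, 0, 1], [0, -1, 0, 1, 0, -1], [0, -1, 0, 1, -1, 1], [-1, 0, 0, 0, 1, -1], [-1, 0, 0, 0, 0, 1]]
  | 5 => [[1, 0, 0, 0, 0, 0], [1, 0, -1, 0, 0, 1], [0, 1, 0, 0, -1, 1], [0, 1, 0, -1, 1, 0], [0, 0, 1, -1, 0, 1], [0, 0, -1, 1, 0, 0], [0, -1, 0, 1, -1, 1], [0, -1, 0, 0, 1, 0], [-1, 0, 1, 0, 0, 0], [-1, 0, 0, 0, 0, 1]]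
  | _ => []

/-- independent vectors in the orbits, as columns -/
def pBasis : ℕ → List (List ℤ)
  | 0 => [[0, 0, 0, 0, 0, -1], [1, 0, 0, 0, -1, 1], [-1, 0, 0, 0, -1, 1], [0, 0, 0, -1, 1, -1], [0, 0, -1, 1, 0, 0], [0, -1, 1, 0, 0, 0]]
  | 1 => [[1, 0, 0, 0, 0, -1], [0, 1, 1, 1, 0, 0], [0, 0, 0, 0, -1, 1], [0, 0, 0, -1, 1, 0], [0, 0, -1, 1, 0, 0], [0, -1, 1, 0, 0, 0]]
  | 2 => [[1, 1, 1, 1, 1, -1], [1, 0, 0, 0, -1, 1], [0, -1, -1, -1, 0, 1], [-1, 1, 0, 0, 0, -1], [0, -1, 1, 0, 0, 0], [0, 0, -1, 1, 0, 0]]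
  | 3 => [[1, 0, -1, 0, 0, 0], [0, 0, 0, 1, 1, 1], [0, -1, 1, 0, 0, 0], [0, 1, 0, 0, 0, -1], [0, 0, 0, 0, -1, 1], [0, 0, 0, -1, 1, 0]]
  | 4 => [[1, 1, 0, 0, 0, -1], [0, 0, 1, 0, -1, 0], [-1, -1, 0, 1, 0, 0], [0, 0, 0, -1, 1, 0], [1, 0, 0, 1, 0, 1], [-1, 1, -1, -1, -1, -1]]
  | 5 => [[1, 1, 0, 0, 0, 0], [0, 0, 1, 1, 0, 0], [0, -1, 0, 0, 1, -1], [0, 0, 0, -1, -1, 1], [0, 0, -1, 1, 0, 0], [0, 1, 1, 0, 1, 0]]
  | _ => []

/-- multiples of their inverses -/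
def pCobasis : ℕ → List (List ℤ)
  | 0 => [[0, 1, -1, 0, 0, 0], [0, -1, -1, -2, -2, -2], [0, -1, -1, -2, -2, 0], [0, -1, -1, -2, 0, 0], [-2, -1, -1, 0, 0, 0], [-2, 0, 0, 0, 0, 0]]
  | 1 => [[3, 1, 3, 3, 2, 1], [0, 1, 0, 0, -1, -2], [0, 1, 0, 0, -1, 1], [0, 1, 0, 0, 2, 1], [0, 1, 0, 3, 2, 1], [0, 1, 3, 3, 2, 1]]
  | 2 => [[2, 2, 3, 3, 2, 1], [-1, -1, -2, -2, -2, -1], [-1, -1, -2, -2, -1, -1], [-1, -1, -2, -2, -1, 0], [-1, -2, -2, -3, -2, -1], [-3, -3, -5, -6, -4, -2]]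
  | 3 => [[3, 1, 3, 3, 2, 1], [0, 1, 0, 3, 2, 1], [0, 1, 3, 3, 2, 1], [0, 1, 0, 0, -1, -2], [0, 1, 0, 0, -1, 1], [0, 1, 0, 0, 2, 1]]
  | 4 => [[-1, -2, -3, -4, -3, -2], [2, 3, 4, 6, 5, 3], [1, 2, 2, 3, 2, 1], [1, 1, 2, 2, 2, 1], [1, 1, 2, 3, 2, 1], [0, 1, 1, 2, 2, 1]]
  | 5 => [[2, 1, 2, 2, 1, 0], [0, -1, -2, -2, -1, 0], [0, 1, 0, 0, -1, 0], [0, 1, 0, 0, 1, 0], [0, 0, 2, 2, 2, 2], [0, 1, 2, 4, 3, 2]]
  | _ => []

/-- the multipliers -/
def pScale : ℕ → ℤ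
  | 0 => 2
  | 1 => 3
  | 2 => 1
  | 3 => 3
  | 4 => 1
  | 5 => 2
  | _ => 1

theorem dualOK : checkDual E6Data.tab 3 dual = true := by decide +kernel

theorem dual8OK : checkDual E8Data.tab 1 dual8 = true := by decide +kernel

theorem combOK : checkComb E6Data.tab dual = true := by decide +kernel

theorem gW : E6Data.tab.GoodW
    [[4, 3, 5, 6, 4, 2], [3, 6, 6, 9, 6, 3], [5, 6, 10, 12, 8, 4], [6, 9, 12, 18, 12, 6], [4, 6, 8, 12, 10, 5], [2, 3, 4, 6, 5, 4]]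
    [(16, 66, 0), (1, 71, 0), (5, 69, 0), (2, 70, 0), (3, 69, 0), (4, 68, 0)] :=
  ⟨⟨⟨E6Data.good, by decide +kernel⟩, by decide +kernel⟩, by decide +kernel⟩

theorem hasDual : HasDual E6Data.tab dual := ⟨3, by norm_num, dualOK⟩

theorem hl : E6Data.tab.l = 6 := rfl

/-- the scaled form -/
abbrev gram : Matrix (Fin E6Data.tab.l) (Fin E6Data.tab.l) ℤ := lmat E6Data.tab.l dual

theorem upperDet : (∏ i, lmat E6Data.tab.l upper i i) ≠ 0 := by decide +kernel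

theorem upperTri : ∀ i j : Fin E6Data.tab.l, j < i → lmat E6Data.tab.l upper i j = 0 := fun i j h =>
  (if_pos (c := (j : ℕ) < i) h).symm.trans ((show ∀ i j : Fin 6, (if (j : ℕ) < i then
    lmat 6 upper i j else 0) = 0 by decide +kernel) i j)

theorem gramCert : (20 : ℤ) • gram = (lmat E6Data.tab.l upper)ᵀ *
    diagonal (fun i : Fin E6Data.tab.l => ([5, 3, 3, 5, 10, 30] : List ℤ).getD (i : ℕ) 0) *
      lmat E6Data.tab.l upper :=
  Matrix.ext (by decide +kernel)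

theorem gram_det : gram.det = 243 := by
  have h := det_of_cert gramCert upperTri
  rw [show ((∏ i, lmat E6Data.tab.l upper i i) ^ 2 * ∏ i : Fin E6Data.tab.l,
    ([5, 3, 3, 5, 10, 30] : List ℤ).getD (i : ℕ) 0) = (20 : ℤ) ^ 6 * 243 by decide +kernel] at h
  exact mul_left_cancel₀ (pow_ne_zero _ (by norm_num)) h

theorem isoOK : ∀ i : Fin E6Data.tab.l, (rmat E6Data.tab i)ᵀ * gram * rmat E6Data.tab i = gram := fun i =>
  Matrix.ext fun a b =>
    (show ∀ (i a b : Fin E6Data.tab.l),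
      (if (i : ℕ) < 6 then ((rmat E6Data.tab i)ᵀ * gram * rmat E6Data.tab i) a b - gram a b else 0) = 0 by decide +kernel) i a b
      |> fun h => by rw [if_pos (show (i : ℕ) < 6 from i.2)] at h; exact sub_eq_zero.1 h

theorem simpleOK (i j : Fin E6Data.tab.l) :
    (avec E6Data.tab (E6Data.tab.smp i) ᵥ* gram) j = if i = j then (3 : ℤ) else 0 := by
  have h := (show ∀ (i j : Fin E6Data.tab.l),
    (avec E6Data.tab (E6Data.tab.smp i) ᵥ* gram) j - (if i = j then (3 : ℤ) else 0) = 0 by decide +kernel) i j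
  exact sub_eq_zero.1 h

theorem form : Form E6Data.tab gram 3 where
  symm := Matrix.ext fun a b => sub_eq_zero.1
    ((show ∀ a b : Fin E6Data.tab.l, gramᵀ a b - gram a b = 0 by decide +kernel) a b)
  iso := fun i hi => isoOK ⟨i, hi⟩
  simple := simpleOK
  definite := fun x hx => definite_of_cert gram (lmat _ upper) _ (k := 20) (by decide +kernel) gramCert
    (by rw [det_of_isUpperTriangular fun i j hij => upperTri i j hij]; exact upperDet) x hx
  pos := by norm_num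

theorem parabolic : ParabolicCert E6Data.tab 11 pSets pBasis pCobasis pScale where
  small := by decide +kernel
  closed := by decide +kernel
  mem := by decide +kernel
  inv := fun i hi => Matrix.ext fun a b => by
    have h := (show ∀ i : Fin 6, ∀ a b : Fin 6, ((lmat 6 (pBasis i) * lmat 6 (pCobasis i)) a b -
      (pScale i • (1 : Matrix (Fin 6) (Fin 6) ℤ)) a b) = 0 by decide +kernel) ⟨i, hi⟩ a b
    exact sub_eq_zero.1 h
  scale_ne := by decide +kernel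

theorem no_fixed {L : List ℕ} (hL : E6Data.tab.Wd L) {u : Fin E6Data.tab.l → ℤ} (hu : u ≠ 0)
    (hfix : wmat E6Data.tab L *ᵥ u = u) {y : Fin E6Data.tab.l → ℤ}
    (hy : aeval (wmat E6Data.tab L) (cyclotomic 12 ℤ) *ᵥ y = 0) : y = 0 :=
  no_fixed_vector gW.toGood hasDual combOK form parabolic (by norm_num) hL hu hfix hy

theorem cardW : Nat.card (wG gW.toGood) = 51840 := by
  have h := card_wG gW.toGood E6Data.chainOK
  rw [show ((E6Data.steps.map fun e => evalL (1 : ℤ) (lenPoly e.2)).prod) = (51840 : ℤ) by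
    decide +kernel] at h
  exact_mod_cast h

theorem glueOK : ∀ s < E6Data.tab.n,
    (∑ j ∈ Finset.range E6Data.tab.l, ([1, 0, 2, 0, 1, 2] : List ℤ).getD j 0 * E6Data.tab.A j s) %
      ((3 : ℕ) : ℤ) = 0 := by
  decide +kernel

theorem charpoly_eq {L : List ℕ} (hL : E6Data.tab.Wd L) {y : Fin E6Data.tab.l → ℤ} (hy0 : y ≠ 0)
    (hy : aeval (wmat E6Data.tab L) (cyclotomic 12 ℤ) *ᵥ y = 0) : (wmat E6Data.tab L).charpoly = sixPoly := by
  set A := wmat E6Data.tab L with hA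
  have hmon := charpoly_monic A
  have hdvd : cyclotomic 12 ℤ ∣ A.charpoly := by
    refine (Polynomial.map_dvd_map (Int.castRingHom ℚ) Int.cast_injective (cyclotomic.monic 12 ℤ)).1 ?_
    by_contra hc
    refine hy0 (eq_zero_of_coprime (A := A) ?_ hy (by rw [aeval_self_charpoly, zero_mulVec]))
    have hirr : Irreducible (cyclotomic 12 ℚ) := cyclotomic.irreducible_rat (by norm_num)
    rw [map_cyclotomic_int] at hc ⊢
    exact hirr.coprime_iff_not_dvd.2 hc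
  obtain ⟨ψ, hψ⟩ := hdvd
  have hψmon : ψ.Monic := Monic.of_mul_monic_left (cyclotomic.monic 12 ℤ) (hψ ▸ hmon)
  have hψdeg : ψ.natDegree = 2 := by
    have h3 := congrArg natDegree hψ
    rw [charpoly_natDegree_eq_dim, natDegree_mul (cyclotomic_ne_zero 12 ℤ) hψmon.ne_zero,
      natDegree_cyclotomic, Fintype.card_fin, hl, show Nat.totient 12 = 4 by decide] at h3
    omega
  have heval : A.charpoly.eval 1 = ψ.eval 1 := by
    rw [hψ, eval_mul, cyclotomic_twelve]; simp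
  have h1 : ψ.eval 1 ≠ 0 := by
    rw [← heval, eval_charpoly]
    intro h0
    obtain ⟨u, hu, he⟩ := exists_mulVec_eq_zero_iff.2 h0
    refine hy0 (no_fixed hL hu ?_ hy)
    rw [sub_mulVec, sub_eq_zero, map_one, one_mulVec] at he
    exact he.symm
  have h3 : (3 : ℤ) ∣ ψ.eval 1 := by
    rw [← heval, eval_charpoly, map_one]
    refine (ZMod.intCast_zmod_eq_zero_iff_dvd _ 3).1 ?_
    rw [← eq_intCast (Int.castRingHom (ZMod 3)), RingHom.map_det]
    set z : Fin E6Data.tab.l → ZMod 3 :=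
      fun j => ((([1, 0, 2, 0, 1, 2] : List ℤ).getD (j : ℕ) 0 : ℤ) : ZMod 3) with hz
    refine exists_vecMul_eq_zero_iff.1 ⟨z, ?_, ?_⟩
    · intro h0
      exact absurd (congrFun h0 ⟨0, by decide⟩) (by decide)
    · have hfix : ∀ L' : List ℕ, E6Data.tab.Wd L' →
          z ᵥ* (Int.castRingHom (ZMod 3)).mapMatrix (wmat E6Data.tab L') = z := by
        intro L' hL'
        induction L' with
        | nil => simp
        | cons i L' ih =>
          obtain ⟨hi, hL''⟩ := Wd.cons_iff.1 hL'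
          rw [wmat_cons, map_mul, ← vecMul_vecMul,
            show z ᵥ* (Int.castRingHom (ZMod 3)).mapMatrix (rmat E6Data.tab i) = z from ?_, ih hL'']
          have h := (show ∀ i : Fin E6Data.tab.l, ∀ b : Fin E6Data.tab.l,
            ((∑ a : Fin E6Data.tab.l, ([1, 0, 2, 0, 1, 2] : List ℤ).getD (a : ℕ) 0 * rmat E6Data.tab i a b) -
              ([1, 0, 2, 0, 1, 2] : List ℤ).getD (b : ℕ) 0) % 3 = 0 by decide +kernel) ⟨i, hi⟩
          funext b
          have hb := (ZMod.intCast_zmod_eq_zero_iff_dvd _ 3).2 (Int.dvd_of_emod_eq_zero (h b))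
          rw [Int.cast_sub, Int.cast_sum, sub_eq_zero] at hb
          rw [hz]
          simp only [vecMul, dotProduct, RingHom.mapMatrix_apply, Matrix.map_apply, eq_intCast]
          rw [← hb]
          simp
      rw [map_sub, map_one, vecMul_sub, vecMul_one, hA, hfix L hL, sub_self]
  have hAe := wmat_pow_card gW.toGood hasDual hL
  have hq := quadratic_eq Nat.card_pos hAe hψmon hψdeg (Dvd.intro_left _ hψ.symm) h3 h1
  rw [hψ, hq, cyclotomic_twelve, sixPoly_factor]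

theorem root_vals : ∀ s < E6Data.tab.n, ∀ t < E6Data.tab.n,
    avec E6Data.tab s ⬝ᵥ (gram *ᵥ avec E6Data.tab t) ∈ ([6, 3, 0, -3, -6] : List ℤ) := by
  have hA : ∀ i < E6Data.tab.l, ∀ t < E6Data.tab.n,
      3 * E6Data.tab.A i t ∈ ([6, 3, 0, -3, -6] : List ℤ) := by decide +kernel
  refine root_induction gW.toGood ?_ ?_
  · intro i hi t ht
    rw [form.simple_dot (avec E6Data.tab t) ⟨i, hi⟩]
    exact hA i hi t ht
  · intro i hi s hs ih t ht
    have hiW : E6Data.tab.Wd [i] := by simp [Wd, hi]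
    have h := form.invariant hiW (avec E6Data.tab s) (avec E6Data.tab (E6Data.tab.ref i t))
    have ht' := gW.toGood.ref_lt hi ht
    rw [wmat_cons, wmat_nil, mul_one, rmat_avec gW.toGood hi hs, rmat_avec gW.toGood hi ht',
      gW.toGood.ref_ref hi ht] at h
    rw [h]
    exact ih _ ht'

theorem root_norm {s : ℕ} (hs : s < E6Data.tab.n) : avec E6Data.tab s ⬝ᵥ (gram *ᵥ avec E6Data.tab s) = 6 := by
  have h : ∀ s < E6Data.tab.n, avec E6Data.tab s ⬝ᵥ (gram *ᵥ avec E6Data.tab s) = 6 := by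
    refine root_induction gW.toGood ?_ ?_
    · intro i hi
      rw [form.simple_dot (avec E6Data.tab (E6Data.tab.smp i)) ⟨i, hi⟩]
      show 3 * E6Data.tab.A i (E6Data.tab.smp i) = 6
      rw [A_smp_self gW.toGood hi]
      norm_num
    · intro i hi s hs ih
      have hiW : E6Data.tab.Wd [i] := by simp [Wd, hi]
      have h := form.invariant hiW (avec E6Data.tab s) (avec E6Data.tab s)
      rw [wmat_cons, wmat_nil, mul_one, rmat_avec gW.toGood hi hs] at h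
      rw [h, ih]
  exact h s hs

theorem pow_avec {L : List ℕ} (hL : E6Data.tab.Wd L) (k : ℕ) {s : ℕ} (hs : s < E6Data.tab.n) :
    ∃ t < E6Data.tab.n, wmat E6Data.tab L ^ k *ᵥ avec E6Data.tab s = avec E6Data.tab t :=
  ⟨_, rw'_lt gW.toGood (rep_wd hL k) hs, by rw [← wmat_rep, wmat_avec gW.toGood (rep_wd hL k) hs]⟩

theorem root_gseq_zero (L : List ℕ) {s : ℕ} (hs : s < E6Data.tab.n) :
    gseq gram (wmat E6Data.tab L) (avec E6Data.tab s) 0 = 6 := by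
  rw [gseq, pow_zero, one_mulVec, root_norm hs]

theorem root_gseq_vals {L : List ℕ} (hL : E6Data.tab.Wd L) {s : ℕ} (hs : s < E6Data.tab.n) (k : ℕ) :
    gseq gram (wmat E6Data.tab L) (avec E6Data.tab s) k ∈ ([6, 3, 0, -3, -6] : List ℤ) := by
  obtain ⟨t, ht, e⟩ := pow_avec hL k hs
  rw [gseq, e]
  exact root_vals s hs t ht

theorem no_periodic_root {L : List ℕ} (hL : E6Data.tab.Wd L) {y : Fin E6Data.tab.l → ℤ} (hy0 : y ≠ 0)
    (hy : aeval (wmat E6Data.tab L) (cyclotomic 12 ℤ) *ᵥ y = 0) (hA : aeval (wmat E6Data.tab L) sixPoly = 0) {s : ℕ}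
    (hs : s < E6Data.tab.n) : wmat E6Data.tab L ^ 3 *ᵥ avec E6Data.tab s ≠ avec E6Data.tab s := by
  intro hfix
  set A := wmat E6Data.tab L with hAdef
  set v := avec E6Data.tab s with hv
  have hiso : ∀ x y, (A *ᵥ x) ⬝ᵥ (gram *ᵥ (A *ᵥ y)) = x ⬝ᵥ (gram *ᵥ y) := form.invariant hL
  have h0 : gseq gram A v 0 = 6 := by
    rw [gseq, pow_zero, one_mulVec, hv, root_norm hs]
  have hvals : ∀ k, gseq gram A v k ∈ ([6, 3, 0, -3, -6] : List ℤ) := fun k => by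
    obtain ⟨t, ht, e⟩ := pow_avec hL k hs
    rw [gseq, hv, hAdef, e]
    exact root_vals s hs t ht
  obtain ⟨e23, e4, -, -⟩ := gseq_relations hiso form.comm (v := v) (by rw [hA, zero_mulVec])
  have hg3 : gseq gram A v 3 = 6 := by
    have : A ^ 3 *ᵥ v = v := hfix
    rw [gseq, this, hv, root_norm hs]
  have hg4 : gseq gram A v 4 = gseq gram A v 1 := by
    rw [gseq, gseq, show 4 = 1 + 3 from rfl, pow_add, ← mulVec_mulVec, show A ^ 3 *ᵥ v = v from hfix]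
  have h1 : gseq gram A v 1 = -3 := by omega
  have h2 : gseq gram A v 2 = -3 := by omega
  have hsum := sum_three_eq_zero hiso form.comm form.definite h0 h1 h2
  obtain ⟨t, ht, e2⟩ := pow_avec hL 2 hs
  obtain ⟨S1, hS1, hS1x⟩ := form.exists_reflection gW.toGood hasDual hs
  obtain ⟨S2, hS2, hS2x⟩ := form.exists_reflection gW.toGood hasDual ht
  rw [← hAdef, ← hv] at e2
  have hW : E6Data.tab.Wd (S1 ++ S2 ++ L) := Wd.append_iff.2 ⟨Wd.append_iff.2 ⟨hS1, hS2⟩, hL⟩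
  set A' := wmat E6Data.tab (S1 ++ S2 ++ L) with hA'
  have hA'v : ∀ x, A' *ᵥ x = wmat E6Data.tab S1 *ᵥ (wmat E6Data.tab S2 *ᵥ (A *ᵥ x)) := fun x => by
    rw [hA', wmat_append, wmat_append, ← mulVec_mulVec, ← mulVec_mulVec]
  have hv0 : v ≠ 0 := avec_ne_zero gW.toGood hs
  have h21 : (A ^ 2 *ᵥ v) ⬝ᵥ (gram *ᵥ (A *ᵥ v)) = -3 := by
    have h := gram_eq (v := v) hiso form.comm 2 1
    rw [pow_one] at h
    rw [h]
    exact h1
  have hfixv : A' *ᵥ v = v := by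
    have e : wmat E6Data.tab S2 *ᵥ (A *ᵥ v) = -v := by
      refine smul_right_injective (Fin E6Data.tab.l → ℤ) (show (3 : ℤ) ≠ 0 by norm_num) ?_
      show (3 : ℤ) • (wmat E6Data.tab S2 *ᵥ (A *ᵥ v)) = (3 : ℤ) • (-v)
      rw [hS2x, ← e2, h21]
      funext i
      have : v i + (A *ᵥ v) i + (A ^ 2 *ᵥ v) i = 0 := congrFun hsum i
      simp only [Pi.sub_apply, Pi.smul_apply, smul_eq_mul, Pi.neg_apply]
      omega
    rw [hA'v, e, mulVec_neg]
    refine smul_right_injective (Fin E6Data.tab.l → ℤ) (show (3 : ℤ) ≠ 0 by norm_num) ?_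
    show (3 : ℤ) • (-(wmat E6Data.tab S1 *ᵥ v)) = (3 : ℤ) • v
    rw [smul_neg, hS1x, ← hv, root_norm hs]
    funext i
    simp only [Pi.sub_apply, Pi.smul_apply, smul_eq_mul, Pi.neg_apply]
    ring
  have hyanti : A ^ 6 *ᵥ y = -y := by
    have e := congrArg (fun f : ℤ[X] => aeval A f *ᵥ y)
      (show (X : ℤ[X]) ^ 6 + 1 = (X ^ 2 + 1) * (X ^ 4 - X ^ 2 + 1) by ring)
    rw [cyclotomic_twelve] at hy
    simp only [map_mul, ← mulVec_mulVec, hy, mulVec_zero] at e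
    simp only [map_add, map_pow, aeval_X, map_one, add_mulVec, one_mulVec] at e
    exact eq_neg_of_add_eq_zero_left e
  have hker : ∀ k : ℕ, aeval A (cyclotomic 12 ℤ) *ᵥ (A ^ k *ᵥ y) = 0 := fun k => by
    rw [mulVec_mulVec, show aeval A (cyclotomic 12 ℤ) * A ^ k = A ^ k * aeval A (cyclotomic 12 ℤ) by
      conv_lhs => rw [show A ^ k = aeval A (X ^ k : ℤ[X]) by simp, ← map_mul, mul_comm, map_mul]
      simp, ← mulVec_mulVec, hy, mulVec_zero]
  have horth : ∀ a k : ℕ, (A ^ a *ᵥ v) ⬝ᵥ (gram *ᵥ (A ^ k *ᵥ y)) = 0 := fun a k => by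
    have h6 : A ^ 6 *ᵥ v = v := by
      rw [show 6 = 3 + 3 from rfl, pow_add, ← mulVec_mulVec, show A ^ 3 *ᵥ v = v from hfix]
      exact hfix
    have h := iso_pow hiso 6 (A ^ a *ᵥ v) (A ^ k *ᵥ y)
    rw [mulVec_mulVec v, ← pow_add, add_comm, pow_add, ← mulVec_mulVec, h6, mulVec_mulVec y, ← pow_add,
      add_comm, pow_add, ← mulVec_mulVec, hyanti, mulVec_neg, mulVec_neg, dotProduct_neg] at h
    omega
  have hpow : ∀ k : ℕ, A' ^ k *ᵥ y = A ^ k *ᵥ y := by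
    intro k
    induction k with
    | zero => simp
    | succ k ih =>
      have e : wmat E6Data.tab S2 *ᵥ (A ^ (k + 1) *ᵥ y) = A ^ (k + 1) *ᵥ y := by
        refine smul_right_injective (Fin E6Data.tab.l → ℤ) (show (3 : ℤ) ≠ 0 by norm_num) ?_
        show (3 : ℤ) • (wmat E6Data.tab S2 *ᵥ (A ^ (k + 1) *ᵥ y)) = (3 : ℤ) • (A ^ (k + 1) *ᵥ y)
        rw [hS2x, ← e2, horth, zero_smul, sub_zero]
      have e' : wmat E6Data.tab S1 *ᵥ (A ^ (k + 1) *ᵥ y) = A ^ (k + 1) *ᵥ y := by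
        refine smul_right_injective (Fin E6Data.tab.l → ℤ) (show (3 : ℤ) ≠ 0 by norm_num) ?_
        show (3 : ℤ) • (wmat E6Data.tab S1 *ᵥ (A ^ (k + 1) *ᵥ y)) = (3 : ℤ) • (A ^ (k + 1) *ᵥ y)
        have h := horth 0 (k + 1)
        rw [pow_zero, one_mulVec] at h
        rw [hS1x, ← hv, h, zero_smul, sub_zero]
      rw [pow_succ', ← mulVec_mulVec, ih, hA'v, mulVec_mulVec y A, ← pow_succ', e, e']
  refine hy0 (no_fixed hW hv0 hfixv ?_)
  rw [← hA']
  rw [cyclotomic_twelve] at hy ⊢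
  simp only [map_add, map_sub, map_pow, aeval_X, map_one, add_mulVec, sub_mulVec, one_mulVec,
    hpow] at hy ⊢
  exact hy

theorem weights_closed : ∀ i < E6Data.tab.l, ∀ v ∈ weights, (List.ofFn fun a : Fin E6Data.tab.l =>
    (rmat E6Data.tab i *ᵥ fun b : Fin E6Data.tab.l => v.getD (b : ℕ) 0) a) ∈ weights := by
  decide +kernel

theorem weights_vals : ∀ v ∈ weights, ∀ w ∈ weights,
    (fun b : Fin E6Data.tab.l => v.getD (b : ℕ) 0) ⬝ᵥ
      (gram *ᵥ fun b : Fin E6Data.tab.l => w.getD (b : ℕ) 0) ∈ ([4, 1, -2] : List ℤ) := by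
  decide +kernel

theorem weights_norm : ∀ v ∈ weights, (fun b : Fin E6Data.tab.l => v.getD (b : ℕ) 0) ⬝ᵥ
    (gram *ᵥ fun b : Fin E6Data.tab.l => v.getD (b : ℕ) 0) = 4 := by
  decide +kernel

theorem weights_basis : ∀ k : Fin E6Data.tab.l,
    (List.ofFn fun a : Fin E6Data.tab.l => (wBasis.getD (a : ℕ) []).getD (k : ℕ) 0) ∈ weights := by
  decide +kernel

theorem weights_inv : lmat E6Data.tab.l wBasis * lmat E6Data.tab.l wCobasis =
    (3 : ℤ) • (1 : Matrix (Fin E6Data.tab.l) (Fin E6Data.tab.l) ℤ) :=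
  Matrix.ext (by decide +kernel)

theorem weight_det {L : List ℕ} (hL : E6Data.tab.Wd L) (hchar : (wmat E6Data.tab L).charpoly = sixPoly) :
    ∃ v, IsUnit (krylov (wmat E6Data.tab L) v).det := by
  set A := wmat E6Data.tab L with hAdef
  have hA : aeval A sixPoly = 0 := by rw [← hchar, aeval_self_charpoly]
  have hiso : ∀ x y, (A *ᵥ x) ⬝ᵥ (gram *ᵥ (A *ᵥ y)) = x ⬝ᵥ (gram *ᵥ y) := form.invariant hL
  set toV : List ℤ → Fin E6Data.tab.l → ℤ := fun v b => v.getD (b : ℕ) 0 with htoV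
  have hiter : ∀ v ∈ weights, ∀ k : ℕ, ∃ w ∈ weights, toV w = A ^ k *ᵥ toV v := by
    intro v hv k
    rw [hAdef, ← wmat_rep]
    have hW := rep_wd (T := E6Data.tab) hL k
    revert hW
    generalize rep k L = L'
    intro hW
    induction L' with
    | nil => exact ⟨v, hv, by simp⟩
    | cons i L' ih =>
      obtain ⟨hi, hL''⟩ := Wd.cons_iff.1 hW
      obtain ⟨w, hw, e⟩ := ih hL''
      refine ⟨_, weights_closed i hi w hw, ?_⟩
      rw [wmat_cons, ← mulVec_mulVec, ← e]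
      funext b
      simp [htoV]
  obtain ⟨v₀, hv₀, hne⟩ : ∃ v ∈ weights, A ^ 3 *ᵥ toV v ≠ toV v := by
    by_contra hc
    push Not at hc
    have h1 : (A ^ 3 - 1) * lmat E6Data.tab.l wBasis = 0 := by
      refine ext_of_mulVec_single fun k => ?_
      rw [← mulVec_mulVec, mulVec_single_one, zero_mulVec]
      have e := hc _ (weights_basis k)
      have e' : toV (List.ofFn fun a : Fin E6Data.tab.l => (wBasis.getD (a : ℕ) []).getD (k : ℕ) 0) =
          (lmat E6Data.tab.l wBasis).col k := by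
        funext a
        simp [htoV, lmat]
      rw [e'] at e
      rw [sub_mulVec, one_mulVec, e, sub_self]
    have h2 := congrArg (· * lmat E6Data.tab.l wCobasis) h1
    simp only [mul_assoc, weights_inv, mul_smul_comm, mul_one, zero_mul] at h2
    have h3 : A ^ 3 - 1 = 0 := (smul_eq_zero.1 h2).resolve_left (by norm_num)
    have hζ := Complex.isPrimitiveRoot_exp 12 (by norm_num)
    set ζ := Complex.exp (2 * Real.pi * Complex.I / (12 : ℕ))
    have hroot : (A.charpoly.map (Int.castRingHom ℂ)).eval ζ = 0 := by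
      have h12 : (cyclotomic 12 ℂ).eval ζ = 0 := hζ.isRoot_cyclotomic (by norm_num)
      rw [hchar, sixPoly_factor, ← cyclotomic_twelve, Polynomial.map_mul, map_cyclotomic_int, eval_mul,
        h12, zero_mul]
    have h4 := eigen_eval hroot (p := X ^ 3 - 1) (by rw [map_sub, map_pow, aeval_X, map_one, h3])
    simp only [Polynomial.map_sub, Polynomial.map_pow, map_X, Polynomial.map_one, eval_sub, eval_pow,
      eval_X, eval_one, sub_eq_zero] at h4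
    exact hζ.pow_ne_one_of_pos_of_lt (by norm_num) (by norm_num) h4
  refine ⟨toV v₀, ?_⟩
  set v := toV v₀ with hvdef
  have h0 : gseq gram A v 0 = 4 := by
    rw [gseq, pow_zero, one_mulVec]; exact weights_norm v₀ hv₀
  have hvals : ∀ k, gseq gram A v k ∈ ([4, 1, -2] : List ℤ) := fun k => by
    obtain ⟨w, hw, e⟩ := hiter v₀ hv₀ k
    rw [gseq, ← e]
    exact weights_vals v₀ hv₀ w hw
  obtain ⟨e23, e4, e5, e6⟩ := gseq_relations hiso form.comm (v := v) (by rw [hA, zero_mulVec])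
  have hn3 : gseq gram A v 3 ≠ 4 := fun h3 => by
    refine hne (eq_of_sub_eq_zero (form.definite _ ?_))
    have e : A ^ 3 *ᵥ v - v = A ^ 3 *ᵥ v - A ^ 0 *ᵥ v := by simp
    rw [e]
    simp only [mulVec_sub, dotProduct_sub, sub_dotProduct, gram_eq hiso form.comm]
    norm_num [h0, h3]
  have v1 := hvals 1
  have v3 := hvals 3
  have v5 := hvals 5
  have v6 := hvals 6
  simp only [List.mem_cons, List.not_mem_nil, or_false] at v1 v3 v5 v6
  have h := (gram_det_six (gseq gram A v)).1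
    ⟨h0, by omega, by omega, by omega, by omega⟩
  have hk := krylov_gram (v := v) hiso form.comm
  have h' : (krylov A v).det * (krylov A v).det = 1 := by
    have e : ((krylov A v)ᵀ * gram * krylov A v).det = 243 := by rw [hk]; exact h
    rw [det_mul, det_mul, det_transpose, gram_det] at e
    linarith
  exact IsUnit.of_mul_eq_one _ h'

theorem poly_eval (q : ℕ) : sixPoly.eval (q : ℤ) =
    (((q ^ 4 - q ^ 2 + 1) * (q ^ 2 + q + 1) : ℕ) : ℤ) := by
  have h : q ^ 2 ≤ q ^ 4 := by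
    rcases Nat.eq_zero_or_pos q with rfl | h
    · simp
    · exact Nat.pow_le_pow_right h (by norm_num)
  push_cast [Nat.cast_sub h]
  rw [sixPoly]
  simp
  ring

theorem main {F : Type*} [Field F] [Fintype F] (q : ℕ) (hF : Fintype.card F = q) :
    ∃ H : Subgroup ↥(chevE6.group F), IsCyclic ↥H ∧
      Nat.card ↥H = (q ^ 4 - q ^ 2 + 1) * (q ^ 2 + q + 1) / Nat.gcd 3 (q - 1) ∧
      Subgroup.centralizer (H : Set ↥(chevE6.group F)) = H := by
  have hq2 : 2 ≤ q := hF ▸ Fintype.one_lt_card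
  refine exists_torus_sc (T := E6Data.tab) (U := E8Data.tab) (P := embE6) gW e6_data.big e6_data.emb
    dual8OK (dd := 3) (by norm_num) dualOK combOK (z := [1, 0, 2, 0, 1, 2]) glueOK
    ⟨0, by decide, by decide⟩ (d := 12) (by norm_num) (by norm_num) E6Data.torOK rfl E6Data.chainOK
    E6Data.polyOK (by decide) ?_ hF (N := (q ^ 4 - q ^ 2 + 1) * (q ^ 2 + q + 1)) ?_ ?_
  · intro r hr hd
    have h12 : 12 ≤ r - 1 := Nat.le_of_dvd (by have := hr.two_le; omega) hd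
    refine ⟨fun h => by have := Nat.le_of_dvd (by norm_num) h; omega, fun h => ?_⟩
    rw [cardW, show (51840 : ℕ) = 2 ^ 7 * 3 ^ 4 * 5 by norm_num] at h
    rcases hr.dvd_mul.1 h with h | h
    · rcases hr.dvd_mul.1 h with h | h
      · have := (Nat.prime_dvd_prime_iff_eq hr Nat.prime_two).1 (hr.dvd_of_dvd_pow h); omega
      · have := (Nat.prime_dvd_prime_iff_eq hr Nat.prime_three).1 (hr.dvd_of_dvd_pow h); omega
    · have := Nat.le_of_dvd (by norm_num) h; omega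
  · rw [← Int.natCast_dvd_natCast, ← poly_eval, Nat.cast_sub (Nat.one_le_pow _ _ (by omega)),
      Nat.cast_pow, Nat.cast_one]
    have e : (X : ℤ[X]) ^ 12 - 1 = sixPoly * ((X ^ 2 - X + 1) * (X ^ 4 - 1)) := by rw [sixPoly]; ring
    have := eval_dvd (x := (q : ℤ)) (Dvd.intro _ e.symm)
    simpa using this
  · intro A _ L c r hL hr hd hWr hroot hc hcr hex
    obtain ⟨j₀, hj₀⟩ := hex
    haveI : Fact r.Prime := ⟨hr⟩
    have h12 : 12 ≤ r - 1 := Nat.le_of_dvd (by have := hr.two_le; omega) hd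
    obtain ⟨y, hy0, hy⟩ := exists_cyclotomic_vec Nat.card_pos hWr
      (wmat_pow_card gW.toGood hasDual hL) hroot hc hj₀
    have hchar := charpoly_eq hL hy0 hy
    have hΦ : aeval (wmat E6Data.tab L) sixPoly = 0 := by rw [← hchar, aeval_self_charpoly]
    obtain ⟨v, hv⟩ := weight_det hL hchar
    refine ⟨fun s hs h1 => ?_, sixPoly, v, sixPoly_monic, by rw [sixPoly_natDegree]; exact hl.symm,
      by decide, hΦ, poly_eval q, ?_⟩
    swap
    · rcases Int.isUnit_iff.1 hv with e | e <;> rw [e]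
      · exact isCoprime_one_left
      · exact isCoprime_one_left.neg_left
    have hrq : ¬ r ∣ q ^ 6 - 1 := by
      intro h
      refine hroot.pow_ne_one_of_pos_of_lt (by norm_num : (6 : ℕ) ≠ 0) (by norm_num) ?_
      have h0 := (ZMod.natCast_eq_zero_iff (q ^ 6 - 1) r).2 h
      rw [Nat.cast_sub (Nat.one_le_pow _ _ (by omega)), Nat.cast_pow, Nat.cast_one, sub_eq_zero] at h0
      rw [Int.cast_natCast]
      exact h0
    exact regular_six (G := gram) (form.invariant hL) form.comm form.definite gram_det hΦ hchar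
      (by omega) hr (by omega) hrq hc hcr hj₀ (v := avec E6Data.tab s)
      (root_gseq_zero L hs) (root_gseq_vals hL hs)
      (no_periodic_root hL hy0 hy hΦ hs) h1

end Cfsg.Agent.CoxTorus.E6
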