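import Cfsg.Agent.Lib.CoxTorus.E6
import Mathlib.GroupTheory.Perm.Cycle.Type

/-! The weights of type E6 under an element with characteristic polynomial `Φ₁₂Φ₃`. -/

set_option autoImplicit false
set_option maxRecDepth 20000

namespace Cfsg.Agent.CoxTorus.E6

open Cfsg.Lie Cfsg.Agent.Chev Cfsg.Agent.Chev.Tab Cfsg.Agent.ChevAut Matrix Polynomial

local notation "T" => E6Data.tab

/-- A list as a vector. -/
def toV (v : List ℤ) : Fin (T).l → ℤ := fun b => v.getD (b : ℕ) 0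

/-- A weight of the orbit. -/
def IsWeight (u : Fin (T).l → ℤ) : Prop := ∃ v ∈ weights, toV v = u

theorem IsWeight.mulVec {u : Fin (T).l → ℤ} (h : IsWeight u) {L : List ℕ} (hL : (T).Wd L) :
    IsWeight (wmat T L *ᵥ u) := by
  induction L with
  | nil => simpa using h
  | cons i L ih =>
    obtain ⟨hi, hL'⟩ := Wd.cons_iff.1 hL
    obtain ⟨w, hw, e⟩ := ih hL'
    refine ⟨_, weights_closed i hi w hw, ?_⟩
    rw [wmat_cons, ← mulVec_mulVec, ← e]
    funext b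
    simp [toV]
    rfl

theorem IsWeight.pow {u : Fin (T).l → ℤ} (h : IsWeight u) {L : List ℕ} (hL : (T).Wd L) (k : ℕ) :
    IsWeight (wmat T L ^ k *ᵥ u) := by
  rw [← wmat_rep]
  exact h.mulVec (rep_wd hL k)

theorem weight_dot {u u' : Fin (T).l → ℤ} (h : IsWeight u) (h' : IsWeight u') :
    u ⬝ᵥ (gram *ᵥ u') ∈ ([4, 1, -2] : List ℤ) := by
  obtain ⟨v, hv, rfl⟩ := h
  obtain ⟨v', hv', rfl⟩ := h'
  exact weights_vals v hv v' hv'

theorem weight_norm {u : Fin (T).l → ℤ} (h : IsWeight u) : u ⬝ᵥ (gram *ᵥ u) = 4 := by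
  obtain ⟨v, hv, rfl⟩ := h
  exact weights_norm v hv

theorem eq_of_dot_four {u u' : Fin (T).l → ℤ} (h : IsWeight u) (h' : IsWeight u')
    (e : u ⬝ᵥ (gram *ᵥ u') = 4) : u = u' := by
  refine eq_of_sub_eq_zero (form.definite _ ?_)
  simp only [mulVec_sub, dotProduct_sub, sub_dotProduct, weight_norm h, weight_norm h', form.comm u' u, e]
  norm_num

theorem exists_span {n : ℕ} (hn : n = 6) {A : Matrix (Fin n) (Fin n) ℤ} {v : Fin n → ℤ}
    (hK : IsUnit (krylov A v).det) (hsix : aeval A sixPoly *ᵥ v = 0) :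
    ∃ u₀ : Fin n → ℤ, A ^ 2 *ᵥ u₀ = -u₀ - A *ᵥ u₀ ∧
      ∀ z, z + A *ᵥ z + A ^ 2 *ᵥ z = 0 → ∃ a b : ℤ, z = a • u₀ + b • (A *ᵥ u₀) := by
  subst hn
  set u₀ := A ^ 4 *ᵥ v - A ^ 2 *ᵥ v + v with hu₀
  have hu2 : A ^ 2 *ᵥ u₀ = -u₀ - A *ᵥ u₀ := by
    simp only [sixPoly, map_add, map_sub, map_pow, aeval_X, map_one, add_mulVec, sub_mulVec,
      one_mulVec] at hsix
    simp only [hu₀, mulVec_add, mulVec_sub, mulVec_mulVec, ← pow_add, ← pow_succ']
    norm_num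
    linear_combination (norm := module) hsix
  have e3 : A ^ 3 *ᵥ u₀ = u₀ := by
    rw [pow_succ', ← mulVec_mulVec, hu2, mulVec_sub, mulVec_neg, mulVec_mulVec u₀ A A, ← pow_two, hu2]
    abel
  refine ⟨u₀, hu2, fun z hz => ?_⟩
  set p : Fin 6 → ℤ := (krylov A v)⁻¹ *ᵥ z with hp
  have hKp : krylov A v *ᵥ p = z := by
    rw [hp, mulVec_mulVec, mul_nonsing_inv _ hK, one_mulVec]
  have hexp : ∀ b : Fin 6 → ℤ, krylov A v *ᵥ b =
      b 0 • v + b 1 • (A *ᵥ v) + b 2 • (A ^ 2 *ᵥ v) + b 3 • (A ^ 3 *ᵥ v) + b 4 • (A ^ 4 *ᵥ v) +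
        b 5 • (A ^ 5 *ᵥ v) := by
    intro b
    rw [krylov_mulVec]
    simp only [Fin.sum_univ_six, map_add, map_mul, map_pow, aeval_C, aeval_X,
      Algebra.algebraMap_eq_smul_one, Matrix.smul_mul, Matrix.one_mul, add_mulVec, smul_mulVec,
      show ((0 : Fin 6) : ℕ) = 0 from rfl, show ((1 : Fin 6) : ℕ) = 1 from rfl,
      show ((2 : Fin 6) : ℕ) = 2 from rfl, show ((3 : Fin 6) : ℕ) = 3 from rfl,
      show ((4 : Fin 6) : ℕ) = 4 from rfl, show ((5 : Fin 6) : ℕ) = 5 from rfl, pow_zero, pow_one, map_one,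
      one_mulVec]
  obtain ⟨r₀, r₁, r₂, r₃, hr0, hr1, hr2, hr3⟩ : ∃ r₀ r₁ r₂ r₃ : ℤ, r₀ = p 0 - p 4 ∧ r₁ = p 1 - p 5 ∧
      r₂ = p 2 + p 4 ∧ r₃ = p 3 + p 5 := ⟨_, _, _, _, rfl, rfl, rfl, rfl⟩
  set d : Fin 6 → ℤ := r₀ • v + r₁ • (A *ᵥ v) + r₂ • (A ^ 2 *ᵥ v) + r₃ • (A ^ 3 *ᵥ v) with hd
  have hz' : z = d + (p 4 • u₀ + p 5 • (A *ᵥ u₀)) := by
    rw [← hKp, hexp, hd, hr0, hr1, hr2, hr3, hu₀]
    simp only [mulVec_add, mulVec_sub, mulVec_mulVec, ← pow_succ']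
    module
  have hd0 : d + A *ᵥ d + A ^ 2 *ᵥ d = 0 := by
    have e : p 4 • u₀ + p 5 • (A *ᵥ u₀) + A *ᵥ (p 4 • u₀ + p 5 • (A *ᵥ u₀)) +
        A ^ 2 *ᵥ (p 4 • u₀ + p 5 • (A *ᵥ u₀)) = 0 := by
      simp only [mulVec_add, mulVec_smul, mulVec_mulVec u₀ A A, mulVec_mulVec u₀ (A ^ 2) A, ← pow_two,
        ← pow_succ, hu2, e3]
      module
    rw [hz'] at hz
    simp only [mulVec_add] at hz e ⊢
    linear_combination (norm := module) hz - e
  have hb : krylov A v *ᵥ ![r₀, r₀ + r₁, r₀ + r₁ + r₂, r₁ + r₂ + r₃, r₂ + r₃, r₃] = 0 := by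
    rw [hexp, ← hd0, hd]
    simp only [mulVec_add, mulVec_smul, mulVec_mulVec, ← pow_succ', ← pow_add, Matrix.cons_val_zero,
      Matrix.cons_val_one, Matrix.cons_val]
    simp only [← pow_two, ← pow_succ]
    module
  have h0 := congrArg ((krylov A v)⁻¹ *ᵥ ·) hb
  simp only [mulVec_mulVec, nonsing_inv_mul _ hK, one_mulVec, mulVec_zero] at h0
  have q0 : r₀ = 0 := congrFun h0 0
  have q1 : r₀ + r₁ = 0 := congrFun h0 1
  have q4 : r₂ + r₃ = 0 := congrFun h0 4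
  have q5 : r₃ = 0 := congrFun h0 5
  refine ⟨p 4, p 5, ?_⟩
  rw [hz', hd, q0, q5, show r₁ = 0 by omega, show r₂ = 0 by omega]
  simp

variable {L : List ℕ} (hL : (T).Wd L) (hchar : (wmat T L).charpoly = sixPoly)
include hL hchar

theorem aeval_six : aeval (wmat T L) sixPoly = 0 := by rw [← hchar, aeval_self_charpoly]

theorem pow_twelve' : wmat T L ^ 12 = 1 := pow_twelve (aeval_six hL hchar)

theorem exists_not_periodic : ∃ u, IsWeight u ∧ wmat T L ^ 3 *ᵥ u ≠ u := by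
  by_contra hc
  push Not at hc
  have h1 : (wmat T L ^ 3 - 1) * lmat (T).l wBasis = 0 := by
    refine ext_of_mulVec_single fun k => ?_
    rw [← mulVec_mulVec, mulVec_single_one, zero_mulVec]
    have e := hc _ ⟨_, weights_basis k, rfl⟩
    have e' : toV (List.ofFn fun a : Fin (T).l => (wBasis.getD (a : ℕ) []).getD (k : ℕ) 0) =
        (lmat (T).l wBasis).col k := by
      funext a
      simp [toV, lmat]
    rw [e'] at e
    rw [sub_mulVec, one_mulVec, e, sub_self]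
  have h2 := congrArg (· * lmat (T).l wCobasis) h1
  simp only [mul_assoc, weights_inv, mul_smul_comm, mul_one, zero_mul] at h2
  have h3 : wmat T L ^ 3 - 1 = 0 := (smul_eq_zero.1 h2).resolve_left (by norm_num)
  have hζ := Complex.isPrimitiveRoot_exp 12 (by norm_num)
  set ζ := Complex.exp (2 * Real.pi * Complex.I / (12 : ℕ))
  have hroot : ((wmat T L).charpoly.map (Int.castRingHom ℂ)).eval ζ = 0 := by
    have h12 : (cyclotomic 12 ℂ).eval ζ = 0 := hζ.isRoot_cyclotomic (by norm_num)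
    rw [hchar, sixPoly_factor, ← cyclotomic_twelve, Polynomial.map_mul, map_cyclotomic_int, eval_mul,
      h12, zero_mul]
  have h4 := eigen_eval hroot (p := X ^ 3 - 1) (by rw [map_sub, map_pow, aeval_X, map_one, h3])
  simp only [Polynomial.map_sub, Polynomial.map_pow, map_X, Polynomial.map_one, eval_sub, eval_pow,
    eval_X, eval_one, sub_eq_zero] at h4
  exact hζ.pow_ne_one_of_pos_of_lt (by norm_num) (by norm_num) h4

theorem weight_seq {u : Fin (T).l → ℤ} (hu : IsWeight u) (hne : wmat T L ^ 3 *ᵥ u ≠ u) :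
    gseq gram (wmat T L) u 0 = 4 ∧ (gseq gram (wmat T L) u 1 = 1 ∨ gseq gram (wmat T L) u 1 = -2) ∧
      gseq gram (wmat T L) u 2 = 1 ∧ gseq gram (wmat T L) u 3 = 1 ∧
      IsUnit (krylov (wmat T L) u).det := by
  have hiso : ∀ x y, (wmat T L *ᵥ x) ⬝ᵥ (gram *ᵥ (wmat T L *ᵥ y)) = x ⬝ᵥ (gram *ᵥ y) := form.invariant hL
  have h0 : gseq gram (wmat T L) u 0 = 4 := by
    rw [gseq, pow_zero, one_mulVec]; exact weight_norm hu
  have hvals : ∀ k, gseq gram (wmat T L) u k ∈ ([4, 1, -2] : List ℤ) := fun k =>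
    weight_dot hu (hu.pow hL k)
  obtain ⟨e23, e4, e5, e6⟩ := gseq_relations hiso form.comm (v := u)
    (by rw [aeval_six hL hchar, zero_mulVec])
  have hn3 : gseq gram (wmat T L) u 3 ≠ 4 := fun h3 =>
    hne (eq_of_dot_four hu (hu.pow hL 3) h3).symm
  have v1 := hvals 1
  have v3 := hvals 3
  have v5 := hvals 5
  have v6 := hvals 6
  simp only [List.mem_cons, List.not_mem_nil, or_false] at v1 v3 v5 v6
  refine ⟨h0, by omega, by omega, by omega, ?_⟩
  have h := (gram_det_six (gseq gram (wmat T L) u)).1 ⟨h0, by omega, by omega, by omega, by omega⟩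
  have hk := krylov_gram (v := u) hiso form.comm
  have h' : (krylov (wmat T L) u).det * (krylov (wmat T L) u).det = 1 := by
    have e : ((krylov (wmat T L) u)ᵀ * gram * krylov (wmat T L) u).det = 243 := by rw [hk]; exact h
    rw [det_mul, det_mul, det_transpose, gram_det] at e
    linarith
  exact IsUnit.of_mul_eq_one _ h'

variable {y : Fin (T).l → ℤ} (hy0 : y ≠ 0) (hy : aeval (wmat T L) (cyclotomic 12 ℤ) *ᵥ y = 0)
include hy0 hy

theorem eq_zero_of_fixed {x : Fin (T).l → ℤ} (hx : wmat T L *ᵥ x = x) : x = 0 := by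
  by_contra hne
  exact hy0 (no_fixed hL hne hx hy)

theorem sum_periodic {x : Fin (T).l → ℤ} (hx : wmat T L ^ 3 *ᵥ x = x) :
    x + wmat T L *ᵥ x + wmat T L ^ 2 *ᵥ x = 0 := by
  refine eq_zero_of_fixed hL hchar hy0 hy ?_
  rw [mulVec_add, mulVec_add, mulVec_mulVec x, mulVec_mulVec x, ← pow_two, ← pow_succ', hx]
  abel

theorem exists_periodic : ∃ w, IsWeight w ∧ wmat T L ^ 3 *ᵥ w = w := by
  classical
  let S := {u : Fin (T).l → ℤ // u ∈ (weights.map toV).toFinset}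
  have hmem : ∀ u, IsWeight u → u ∈ (weights.map toV).toFinset := by
    rintro u ⟨v, hv, rfl⟩
    exact List.mem_toFinset.2 (List.mem_map.2 ⟨v, hv, rfl⟩)
  have hIs : ∀ u : S, IsWeight u.1 := fun u => by
    obtain ⟨v, hv, e⟩ := List.mem_map.1 (List.mem_toFinset.1 u.2)
    exact ⟨v, hv, e⟩
  have h12 : ∀ u : Fin (T).l → ℤ, ∀ a b : ℕ, a + b = 12 →
      wmat T L ^ a *ᵥ (wmat T L ^ b *ᵥ u) = u := fun u a b hab => by
    rw [mulVec_mulVec, ← pow_add, hab, pow_twelve' hL hchar, one_mulVec]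
  let σ : Equiv.Perm S :=
    { toFun := fun u => ⟨wmat T L ^ 3 *ᵥ u.1, hmem _ ((hIs u).pow hL 3)⟩
      invFun := fun u => ⟨wmat T L ^ 9 *ᵥ u.1, hmem _ ((hIs u).pow hL 9)⟩
      left_inv := fun u => Subtype.ext (h12 u.1 9 3 rfl)
      right_inv := fun u => Subtype.ext (h12 u.1 3 9 rfl) }
  have hσ : ∀ k : ℕ, ∀ u : S, ((σ ^ k) u).1 = wmat T L ^ (3 * k) *ᵥ u.1 := by
    intro k
    induction k with
    | zero => simp
    | succ k ih =>
      intro u
      rw [pow_succ', Equiv.Perm.mul_apply]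
      show wmat T L ^ 3 *ᵥ ((σ ^ k) u).1 = _
      rw [ih, mulVec_mulVec, ← pow_add]
      congr 2
      ring
  have hcard : Fintype.card S = 27 := by
    rw [Fintype.card_coe, List.card_toFinset]
    decide +kernel
  haveI : Fact (Nat.Prime 2) := ⟨Nat.prime_two⟩
  obtain ⟨u, hu⟩ := Equiv.Perm.exists_fixed_point_of_prime (p := 2) (n := 2) (by rw [hcard]; decide)
    (σ := σ) (Equiv.ext fun u => Subtype.ext (by
      rw [hσ, show 3 * 2 ^ 2 = 12 by norm_num, pow_twelve' hL hchar, one_mulVec]; rfl))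
  exact ⟨u.1, hIs u, congrArg Subtype.val hu⟩

theorem triple {w : Fin (T).l → ℤ} (hw : IsWeight w) (hw3 : wmat T L ^ 3 *ᵥ w = w) :
    w ⬝ᵥ (gram *ᵥ (wmat T L *ᵥ w)) = -2 ∧ w ⬝ᵥ (gram *ᵥ (wmat T L ^ 2 *ᵥ w)) = -2 ∧
      (wmat T L *ᵥ w) ⬝ᵥ (gram *ᵥ (wmat T L ^ 2 *ᵥ w)) = -2 := by
  have hs := sum_periodic hL hchar hy0 hy hw3
  have hw1 := hw.mulVec hL
  have hw2 := hw.pow hL 2
  have h0 := congrArg (fun x => w ⬝ᵥ (gram *ᵥ x)) hs
  have h1 := congrArg (fun x => (wmat T L *ᵥ w) ⬝ᵥ (gram *ᵥ x)) hs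
  simp only [mulVec_add, dotProduct_add, mulVec_zero, dotProduct_zero, weight_norm hw, weight_norm hw1,
    form.comm (wmat T L *ᵥ w) w] at h0 h1
  have a := weight_dot hw hw1
  have b := weight_dot hw hw2
  have c := weight_dot hw1 hw2
  simp only [List.mem_cons, List.not_mem_nil, or_false] at a b c
  omega

theorem periodic_orth {w x : Fin (T).l → ℤ} (hw : IsWeight w) (hw3 : wmat T L ^ 3 *ᵥ w = w)
    (hx : x + wmat T L *ᵥ x + wmat T L ^ 2 *ᵥ x = 0) (o1 : x ⬝ᵥ (gram *ᵥ w) = 0)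
    (o2 : x ⬝ᵥ (gram *ᵥ (wmat T L *ᵥ w)) = 0) : x = 0 := by
  obtain ⟨v, hv, hvne⟩ := exists_not_periodic hL hchar
  obtain ⟨-, -, -, -, hK⟩ := weight_seq hL hchar hv hvne
  set A := wmat T L with hA
  obtain ⟨u₀, hu2, hrep⟩ := exists_span hl hK (by
    rw [hA]; exact (congrArg (· *ᵥ v) (aeval_six hL hchar)).trans (zero_mulVec v))
  obtain ⟨a, b, hwab⟩ := hrep w (sum_periodic hL hchar hy0 hy hw3)
  obtain ⟨c, d, hxcd⟩ := hrep x hx
  have hw1 : A *ᵥ w = (-b) • u₀ + (a - b) • (A *ᵥ u₀) := by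
    rw [hwab, mulVec_add, mulVec_smul, mulVec_smul, mulVec_mulVec u₀ A A, ← pow_two, hu2]
    module
  set P := x ⬝ᵥ (gram *ᵥ u₀)
  set Q := x ⬝ᵥ (gram *ᵥ (A *ᵥ u₀))
  rw [hwab, mulVec_add, mulVec_smul, mulVec_smul, dotProduct_add, dotProduct_smul, dotProduct_smul,
    smul_eq_mul, smul_eq_mul] at o1
  rw [hw1, mulVec_add, mulVec_smul, mulVec_smul, dotProduct_add, dotProduct_smul, dotProduct_smul,
    smul_eq_mul, smul_eq_mul] at o2
  have hD : a * a - a * b + b * b ≠ 0 := by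
    intro h0
    have hb0 : b = 0 := by nlinarith [sq_nonneg (2 * a - b)]
    have ha0 : a = 0 := by subst hb0; simpa using h0
    have := weight_norm hw
    rw [hwab, ha0, hb0] at this
    simp at this
  have hP : P = 0 := (mul_eq_zero.1 (show (a * a - a * b + b * b) * P = 0 by
    linear_combination (a - b) * o1 - b * o2)).resolve_left hD
  have hQ : Q = 0 := (mul_eq_zero.1 (show (a * a - a * b + b * b) * Q = 0 by
    linear_combination b * o1 + a * o2)).resolve_left hD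
  refine form.definite x ?_
  calc x ⬝ᵥ (gram *ᵥ x) = x ⬝ᵥ (gram *ᵥ (c • u₀ + d • (A *ᵥ u₀))) := by rw [← hxcd]
    _ = c * P + d * Q := by
      rw [mulVec_add, mulVec_smul, mulVec_smul, dotProduct_add, dotProduct_smul, dotProduct_smul,
        smul_eq_mul, smul_eq_mul]
    _ = 0 := by rw [hP, hQ]; ring

theorem periodic_cases {w u : Fin (T).l → ℤ} (hw : IsWeight w) (hw3 : wmat T L ^ 3 *ᵥ w = w)
    (hu : IsWeight u) (hu3 : wmat T L ^ 3 *ᵥ u = u) :
    u = w ∨ u = wmat T L *ᵥ w ∨ u = wmat T L ^ 2 *ᵥ w := by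
  obtain ⟨t1, -, -⟩ := triple hL hchar hy0 hy hw hw3
  have hw1 := hw.mulVec hL
  have hw2 := hw.pow hL 2
  set p := u ⬝ᵥ (gram *ᵥ w) with hp
  set r := u ⬝ᵥ (gram *ᵥ ((wmat T L) *ᵥ w)) with hr
  set s := u ⬝ᵥ (gram *ᵥ ((wmat T L) ^ 2 *ᵥ w))
  have hs : p + r + s = 0 := by
    have := congrArg (fun x => u ⬝ᵥ (gram *ᵥ x)) (sum_periodic hL hchar hy0 hy hw3)
    simp only [mulVec_add, dotProduct_add, mulVec_zero, dotProduct_zero] at this
    exact this
  set x := (6 : ℤ) • u - (2 * p + r) • w - (p + 2 * r) • ((wmat T L) *ᵥ w) with hx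
  have hx0 : x = 0 := by
    refine periodic_orth hL hchar hy0 hy hw hw3 ?_ ?_ ?_
    · have e1 := sum_periodic hL hchar hy0 hy hu3
      have e2 := sum_periodic hL hchar hy0 hy hw3
      have e3 : (wmat T L) *ᵥ w + (wmat T L) *ᵥ ((wmat T L) *ᵥ w) + (wmat T L) ^ 2 *ᵥ ((wmat T L) *ᵥ w) = 0 := by
        rw [mulVec_mulVec w (wmat T L) (wmat T L), mulVec_mulVec w, ← pow_two, ← pow_succ, hw3, ← e2]; abel
      simp only [hx, mulVec_sub, mulVec_smul]
      linear_combination (norm := module) (6 : ℤ) • e1 - (2 * p + r) • e2 - (p + 2 * r) • e3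
    · simp only [hx, sub_dotProduct, smul_dotProduct, smul_eq_mul, ← hp, weight_norm hw,
        form.comm ((wmat T L) *ᵥ w) w, t1]
      ring
    · simp only [hx, sub_dotProduct, smul_dotProduct, smul_eq_mul, ← hr, weight_norm hw1, t1]
      ring
  have hn := congrArg (fun z => u ⬝ᵥ (gram *ᵥ z)) hx0
  simp only [hx, mulVec_sub, mulVec_smul, mulVec_zero, dotProduct_sub, dotProduct_smul, dotProduct_zero,
    smul_eq_mul, weight_norm hu, ← hp, ← hr] at hn
  have a := weight_dot hu hw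
  have b := weight_dot hu hw1
  simp only [List.mem_cons, List.not_mem_nil, or_false, ← hp, ← hr] at a b
  rcases a with a | a | a <;> rcases b with b | b | b <;> rw [a, b] at hn <;>
    first
    | (norm_num at hn; done)
    | exact Or.inl (eq_of_dot_four hu hw a)
    | exact Or.inr (Or.inl (eq_of_dot_four hu hw1 b))
    | exact Or.inr (Or.inr (eq_of_dot_four hu hw2 (by omega)))

end Cfsg.Agent.CoxTorus.E6
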