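import Cfsg.Agent.Lib.CoxTorus.E7Lattice

/-! The generator of the twisted torus of type E7 is regular and has no stabiliser. -/

set_option autoImplicit false
set_option maxRecDepth 20000

namespace Cfsg.Agent.CoxTorus

open Cfsg.Lie Cfsg.Agent.Chev Cfsg.Agent.Chev.Tab Cfsg.Agent.ChevAut Matrix Polynomial

/-- A word fixing a dominant functional agrees with a word in the reflections fixing it. -/
theorem exists_word_zero {T : Tab} (g : T.Good) {M : List (List ℤ)} (hM : HasDual T M)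
    (hcomb : checkComb T M = true) {φ : Fin T.l → ℤ}
    (hφ : ∀ k < T.l, 0 ≤ φ ⬝ᵥ avec T (T.smp k)) : ∀ (m : ℕ) {L : List ℕ}, T.Wd L →
      (T.invSet L).card ≤ m → (∀ s < T.n, φ ⬝ᵥ avec T (T.rw' L s) = φ ⬝ᵥ avec T s) →
      ∃ L', T.Wd L' ∧ (∀ k ∈ L', φ ⬝ᵥ avec T (T.smp k) = 0) ∧ ∀ s < T.n, T.rw' L s = T.rw' L' s := by
  intro m
  induction m with
  | zero =>
    intro L hL hc _
    refine ⟨[], by simp [Wd], by simp, fun s hs => ?_⟩
    exact (nWd_torus_of_pos (F := ℚ) g _ le_rfl hL (invSet_empty g (Nat.le_zero.1 hc))).2 s hs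
  | succ m ih =>
    intro L hL hc hfix
    by_cases hc' : (T.invSet L).card ≤ m
    · exact ih hL hc' hfix
    obtain ⟨i, hi, hneg, hcard, -⟩ := invSet_peel g hL (m := m) (by omega)
    have hz : φ ⬝ᵥ avec T (T.smp i) = 0 := by
      refine le_antisymm ?_ (hφ i hi)
      rw [← hfix _ (g.smp_lt hi)]
      have ht := rw'_lt g hL (g.smp_lt hi)
      have h1 := dot_nonneg_of_simple hM hcomb hφ ((N_le_neg_iff ht).2 hneg) (Tab.neg_lt ht)
      have h3 : avec T (T.neg (T.rw' L (T.smp i))) = -avec T (T.rw' L (T.smp i)) := by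
        funext j
        exact ((g.sign' ht).1 j j.2).2.2.2
      rw [h3, dotProduct_neg] at h1
      linarith
    have hi' : T.Wd [i] := by simp [Wd, hi]
    have hR : ∀ s < T.n, φ ⬝ᵥ avec T (T.ref i s) = φ ⬝ᵥ avec T s := fun s hs => by
      have e : avec T (T.ref i s) = avec T s - T.A i s • avec T (T.smp i) := by
        funext j
        simp only [avec, Pi.sub_apply, Pi.smul_apply, smul_eq_mul, A_ref g hi j.2 hs]
        ring
      rw [e, dotProduct_sub, dotProduct_smul, hz, smul_zero, sub_zero]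
    obtain ⟨L', hL', hall, heq⟩ := ih (Wd.append_iff.2 ⟨hL, hi'⟩) hcard fun s hs => by
      rw [rw'_append, rw'_cons, rw'_nil, hfix _ (g.ref_lt hi hs), hR s hs]
    refine ⟨L' ++ [i], Wd.append_iff.2 ⟨hL', hi'⟩, fun k hk => ?_, fun s hs => ?_⟩
    · rcases List.mem_append.1 hk with hk | hk
      · exact hall k hk
      · rw [List.mem_singleton.1 hk]; exact hz
    · rw [rw'_append, rw'_cons, rw'_nil, ← heq _ (g.ref_lt hi hs), rw'_append, rw'_cons, rw'_nil,
        g.ref_ref hi hs]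

theorem chi_pow_left {n : ℕ} {A : Type*} [CommGroup A] (c : Fin n → A) (k : ℕ) (x : Fin n → ℤ) :
    chi (c ^ k) x = chi c x ^ k := by
  induction k with
  | zero => simp [chi_one_left]
  | succ k ih => rw [pow_succ, chi_mul, ih, pow_succ]

/-- A functional fixed by a stabiliser of a character of prime order. -/
theorem exists_fixed_functional {T : Tab} (g : T.Good) {M : List (List ℤ)} (hM : HasDual T M)
    {E : Type*} [Field E] {r : ℕ} (hr : r.Prime) (hre : ¬ r ∣ Nat.card (wG g))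
    {c : Fin T.l → Eˣ} (hcr : ∀ j, c j ^ r = 1) {ζ : Eˣ} (hζ : IsPrimitiveRoot ζ r)
    {L : List ℕ} (hL : T.Wd L)
    (hfix : ∀ s < T.n, chi c (avec T (T.rw' L s)) = chi c (avec T s)) :
    ∃ ψ : Fin T.l → ℤ, (∀ s < T.n, ψ ⬝ᵥ avec T (T.rw' L s) = ψ ⬝ᵥ avec T s) ∧
      ∀ s < T.n, ψ ⬝ᵥ avec T s = 0 → chi c (avec T s) = 1 := by
  classical
  haveI : NeZero r := ⟨hr.ne_zero⟩
  have hex : ∀ j : Fin T.l, ∃ m : ℕ, ζ ^ m = c j := fun j => by
    have h1 : ((c j : Eˣ) : E) ^ r = 1 := by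
      rw [← Units.val_pow_eq_pow_val, hcr j, Units.val_one]
    obtain ⟨m, -, hm⟩ := (IsPrimitiveRoot.coe_units_iff.2 hζ).eq_pow_of_pow_eq_one h1
    exact ⟨m, Units.ext (by rw [Units.val_pow_eq_pow_val, hm])⟩
  choose m hm using hex
  set γ : Fin T.l → ℤ := fun j => (m j : ℤ) with hγ
  have hcζ : ∀ x, chi c x = ζ ^ (γ ⬝ᵥ x) := by
    intro x
    rw [← chi_zpow_left]
    congr 1
    funext j
    rw [zpow_natCast, hm]
  set W := wmat T L with hW
  set e := Nat.card (wG g) with he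
  have hWe : W ^ e = 1 := wmat_pow_card g hM hL
  refine ⟨∑ k ∈ Finset.range e, γ ᵥ* W ^ k, fun s hs => ?_, fun s hs h0 => ?_⟩
  · rw [← wmat_avec g hL hs, ← hW, dotProduct_mulVec]
    congr 1
    rw [sum_vecMul]
    simp only [vecMul_vecMul, ← pow_succ]
    have h1 := Finset.sum_range_succ (fun k => γ ᵥ* W ^ k) e
    rw [Finset.sum_range_succ' (fun k => γ ᵥ* W ^ k) e, hWe, pow_zero] at h1
    exact add_right_cancel h1
  · have hk : ∀ k : ℕ, chi c (W ^ k *ᵥ avec T s) = chi c (avec T s) := by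
      intro k
      induction k with
      | zero => simp
      | succ k ih =>
        have e : W ^ k *ᵥ avec T s = avec T (T.rw' (rep k L) s) := by
          rw [hW, ← wmat_rep, wmat_avec g (rep_wd hL k) hs]
        have hk' := rw'_lt g (rep_wd hL k) hs
        rw [e] at ih
        rw [pow_succ', ← mulVec_mulVec, e, hW, wmat_avec g hL hk', hfix _ hk', ih]
    have hg : ∀ n : ℕ, ζ ^ (∑ k ∈ Finset.range n, (γ ᵥ* W ^ k) ⬝ᵥ avec T s) =
        chi c (avec T s) ^ n := by
      intro n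
      induction n with
      | zero => simp
      | succ n ih => rw [Finset.sum_range_succ, _root_.zpow_add, ih, ← dotProduct_mulVec, ← hcζ, hk, pow_succ]
    have h1 := hg e
    rw [← sum_dotProduct, h0, _root_.zpow_zero] at h1
    have h2 : chi c (avec T s) ^ r = 1 := by
      rw [← chi_pow_left, show c ^ r = 1 from funext hcr, chi_one_left]
    have h3 := Nat.dvd_gcd (orderOf_dvd_of_pow_eq_one h1.symm) (orderOf_dvd_of_pow_eq_one h2)
    rwa [Nat.Coprime.gcd_eq_one ((hr.coprime_iff_not_dvd.2 hre).symm), Nat.dvd_one,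
      orderOf_eq_one_iff] at h3

namespace E7

local notation "T7" => E7Data.tab
local notation "T6" => E6Data.tab
local notation "⟪" x ", " y "⟫" => dotProduct x (gram *ᵥ y)

variable {L : List ℕ} (hL : (T6).Wd L) (hchar : (wmat T6 L).charpoly = sixPoly)
  {y : Fin (T6).l → ℤ} (hy0 : y ≠ 0) (hy : aeval (wmat T6 L) (cyclotomic 12 ℤ) *ᵥ y = 0)
  {r₁ r₂ r₃ : ℕ} (t : Triple L r₁ r₂ r₃) {S : List ℕ}
  (hrefl : ∀ x, (2 : ℤ) • (wmat T7 S *ᵥ x) = (2 : ℤ) • x - ⟪avec T7 r₁, x⟫ • avec T7 r₁)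
  {q r : ℕ} (hq : 2 ≤ q)
include hL hchar hy0 hy t hrefl hq

theorem char_roots (hr : r.Prime) (h12 : 12 < r) (hr6 : ¬ r ∣ q ^ 6 - 1) {H : Type*} [CommGroup H]
    {c : Fin (T7).l → H} (hc : Twist c (wmat T7 (L ++ S)) q) (hcr : ∀ j, c j ^ r = 1)
    {j₀ : Fin (T7).l} (hne : c j₀ ≠ 1) {s : ℕ} (hs : s < (T7).n) (h1 : chi c (avec T7 s) = 1) :
    ∃ r' ∈ [r₁, r₂, r₃], avec T7 s = avec T7 r' ∨ avec T7 s = -avec T7 r' := by
  have hpow : ∀ x, chi c x ^ r = 1 := fun x => by
    rw [← chi_pow_left, show c ^ r = 1 from funext hcr, chi_one_left]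
  have hco : Nat.Coprime r (q ^ 3 + 1) := hr.coprime_iff_not_dvd.2 fun h => hr6 <| h.trans ⟨q ^ 3 - 1, by
    rw [← Nat.sq_sub_sq, one_pow, ← pow_mul]⟩
  have hkill : ∀ {x : H}, x ^ r = 1 → ∀ {k : ℕ}, Nat.Coprime r k → x ^ k = 1 → x = 1 :=
    fun hx _ hk hxk => orderOf_eq_one_iff.1 (Nat.eq_one_of_dvd_coprimes hk
      (orderOf_dvd_of_pow_eq_one hx) (orderOf_dvd_of_pow_eq_one hxk))
  have hv : ∀ r', r' = r₁ ∨ r' = r₂ ∨ r' = r₃ → chi c (avec T7 r') = 1 := fun r' hr' => by
    have e := hc.aeval (X ^ 3) (avec T7 r')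
    simp only [map_pow, aeval_X, root_cube hL t hrefl hr', eval_pow, eval_X] at e
    rw [← neg_one_zsmul, chi_smul, ← Nat.cast_pow, zpow_natCast, _root_.zpow_neg, zpow_one] at e
    exact hkill (hpow _) hco (by rw [pow_succ, ← e, inv_mul_cancel])
  have hR : ∀ x, chi c (wmat T7 S *ᵥ x) = chi c x := fun x => by
    have e := congrArg (chi c) (hrefl x)
    rw [sub_eq_add_neg, ← neg_smul, chi_add, chi_smul, chi_smul, chi_smul, hv _ (Or.inl rfl),
      _root_.one_zpow, mul_one] at e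
    refine div_eq_one.1 (hkill (k := 2) ?_ ?_ ?_)
    · rw [div_pow, hpow, hpow, div_one]
    · exact (Nat.coprime_primes hr Nat.prime_two).2 (by omega)
    · rw [div_pow, div_eq_one, ← zpow_natCast, ← zpow_natCast]; exact e
  have hX : ∀ x, chi c (wmat T7 L *ᵥ x) = chi c x ^ q := fun x => by
    rw [← hR x, ← hc (wmat T7 S *ᵥ x), wmat_append, ← mulVec_mulVec, refl_refl t hrefl]
  set c6 : Fin (T6).l → H :=
    fun a => c ⟨a, lt_of_lt_of_le a.2 (show 6 ≤ 7 by norm_num)⟩ with hc6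
  have hlast : chi c (Pi.single (⟨6, by decide⟩ : Fin (T7).l) 1) = 1 := by
    have e : avec T7 r₁ + avec T7 r₂ + avec T7 r₃ =
        (2 : ℤ) • (Pi.single (⟨6, by decide⟩ : Fin (T7).l) 1 : Fin (T7).l → ℤ) := by
      have l3 : lvl (avec T7 r₃) = 2 := by rw [← t.e1, lvl_wmat hL, t.lev]
      have l2 : lvl (avec T7 r₂) = 2 := by rw [← t.e3, lvl_wmat hL, l3]
      refine vec_ext ?_ ?_
      · have hz : pr ((2 : ℤ) • (Pi.single (⟨6, by decide⟩ : Fin (T7).l) 1 : Fin (T7).l → ℤ)) = 0 := by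
          funext a
          rw [pr_apply, Pi.smul_apply, Pi.single_eq_of_ne (fun h => by
            have e1 : (a : ℕ) = 6 := congrArg Fin.val h
            have e2 : (a : ℕ) < 6 := a.2
            omega), smul_zero]
          rfl
        rw [hz, ← E6.sum_periodic hL hchar hy0 hy t.per]
        rw [show pr (avec T7 r₁ + avec T7 r₂ + avec T7 r₃) =
          pr (avec T7 r₁) + pr (avec T7 r₂) + pr (avec T7 r₃) by simp [pr, mulVec_add],
          ← t.e3, pr_wmat hL, ← t.e1, pr_wmat hL, mulVec_mulVec, ← pow_two]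
        abel
      · have e3 : lvl ((2 : ℤ) • (Pi.single (⟨6, by decide⟩ : Fin (T7).l) 1 : Fin (T7).l → ℤ)) = 6 := by
          rw [lvl, dotProduct_smul, ← lvl, lvl_last]; norm_num
        rw [e3]
        simp only [lvl, dotProduct_add] at t l2 l3 ⊢
        have := t.lev
        simp only [lvl] at this
        omega
    have e' := congrArg (chi c) e
    rw [chi_add, chi_add, hv _ (Or.inl rfl), hv _ (Or.inr (Or.inl rfl)), hv _ (Or.inr (Or.inr rfl)),
      chi_smul, one_mul, one_mul] at e'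
    exact hkill (hpow _) ((Nat.coprime_primes hr Nat.prime_two).2 (by omega))
      (by rw [← zpow_natCast]; exact e'.symm)
  have hproj : ∀ x, chi c x = chi c6 (pr x) := fun x => by
    have e6 : c ⟨6, by decide⟩ = 1 := by rwa [chi_single] at hlast
    have h : ∀ f : Fin 7 → H, ∀ g : Fin 6 → H, f 6 = 1 → (∀ i : Fin 6, f i.castSucc = g i) →
        ∏ i, f i = ∏ i, g i := fun f g h6 hfg => by
      rw [Fin.prod_univ_castSucc, show Fin.last 6 = 6 from rfl, h6, mul_one]
      exact Finset.prod_congr rfl fun i _ => hfg i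
    refine h (fun j => c j ^ x j) (fun a => c6 a ^ pr x a) ?_ fun i => ?_
    · show c ⟨6, _⟩ ^ _ = 1
      rw [e6, _root_.one_zpow]
    · exact congrArg (c i.castSucc ^ ·) (pr_apply x i).symm
  have hc6t : Twist c6 (wmat T6 L) q := fun u => by
    have e := hX (mk u 0)
    rwa [hproj, hproj, pr_wmat hL, pr_mk] at e
  have hc6r : ∀ j, c6 j ^ r = 1 := fun j => hcr _
  obtain ⟨k, hk⟩ : ∃ k, c6 k ≠ 1 := by
    by_contra hcon
    push Not at hcon
    refine hne ?_
    rw [← chi_single c j₀, hproj, show c6 = 1 from funext hcon, chi_one_left]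
  have hok : orderOf (c6 k) = r := by
    haveI : Fact r.Prime := ⟨hr⟩
    exact orderOf_eq_prime (hc6r k) hk
  have hwgt : ∀ u, E6.IsWeight u → chi c6 u = 1 →
      ∃ r' ∈ [r₁, r₂, r₃], u = pr (avec T7 r') := by
    intro u hu hu1
    by_cases hper : wmat T6 L ^ 3 *ᵥ u = u
    · rcases E6.periodic_cases hL hchar hy0 hy t.wgt t.per hu hper with e | e | e
      · exact ⟨r₁, by simp, e⟩
      · exact ⟨r₃, by simp, by rw [e, ← t.e1, pr_wmat hL]⟩
      · exact ⟨r₂, by simp, by rw [e, ← t.e3, pr_wmat hL, ← t.e1, pr_wmat hL, mulVec_mulVec, ← pow_two]⟩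
    · obtain ⟨-, -, -, -, hK⟩ := E6.weight_seq hL hchar hu hper
      refine absurd ?_ hk
      have e := hc6t.coord_pow_det hu1 k
      rcases Int.isUnit_iff.1 hK with h | h <;> rw [h] at e
      · rwa [zpow_one] at e
      · rwa [_root_.zpow_neg, zpow_one, inv_eq_one] at e
  have key : ∀ x, (lvl x = 2 ∧ E6.IsWeight (pr x) ∧ chi c x = 1) →
      ∃ r' ∈ [r₁, r₂, r₃], x = avec T7 r' := by
    rintro x ⟨hlx, hwx, hx1⟩
    obtain ⟨r', hr', e⟩ := hwgt _ hwx (by rw [← hproj]; exact hx1)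
    refine ⟨r', hr', vec_ext e ?_⟩
    rw [hlx]
    have l3 : lvl (avec T7 r₃) = 2 := by rw [← t.e1, lvl_wmat hL, t.lev]
    have l2 : lvl (avec T7 r₂) = 2 := by rw [← t.e3, lvl_wmat hL, l3]
    simp only [List.mem_cons, List.not_mem_nil, or_false] at hr'
    rcases hr' with rfl | rfl | rfl
    · exact t.lev.symm
    · exact l2.symm
    · exact l3.symm
  rcases root_cases s hs with ⟨-, t', ht', e⟩ | ⟨hl', hw⟩ | ⟨hl', hw⟩
  · exfalso
    have e' : pr (avec T7 s) = avec T6 t' := List.ofFn_injective e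
    rw [hproj, e'] at h1
    exact regular_six (G := E6.gram) (E6.form.invariant hL) E6.form.comm E6.form.definite E6.gram_det
      (E6.aeval_six hL hchar) hchar (by omega) hr (by omega) hr6 hc6t hc6r hok
      (v := avec T6 t') (E6.root_gseq_zero L ht') (E6.root_gseq_vals hL ht')
      (E6.no_periodic_root hL hy0 hy (E6.aeval_six hL hchar) ht') h1
  · obtain ⟨r', hr', e⟩ := key _ ⟨hl', ⟨_, hw, funext fun b => ofFn_inj rfl b⟩, h1⟩
    exact ⟨r', hr', Or.inl e⟩
  · obtain ⟨r', hr', e⟩ := key (-avec T7 s) ⟨by rw [lvl, dotProduct_neg, ← lvl, hl']; norm_num,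
      ⟨_, hw, funext fun b => by rw [E6.toV, ofFn_inj rfl b, pr, pr, mulVec_neg]⟩,
      by rw [← neg_one_zsmul, chi_smul, h1, _root_.one_zpow]⟩
    exact ⟨r', hr', Or.inr (neg_eq_iff_eq_neg.1 e)⟩

theorem chi_sq_ne {H : Type*} [CommGroup H] {a : Fin (T7).l → H}
    (ha : Twist a (wmat T7 (L ++ S)) q) (hN : orderOf a = (q ^ 4 - q ^ 2 + 1) * (q ^ 3 + 1))
    {r' : ℕ} (hr' : r' ∈ [r₁, r₂, r₃]) : chi a (avec T7 r') ^ 2 ≠ 1 := by
  intro h0
  obtain ⟨t1, t3, t2⟩ := twisted_roots hL t hrefl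
  have m3 : (chi a (avec T7 r₃))⁻¹ = chi a (avec T7 r₁) ^ q := by
    have e := ha (avec T7 r₁)
    rwa [t1, ← neg_one_zsmul, chi_smul, _root_.zpow_neg, zpow_one] at e
  have m2 : chi a (avec T7 r₂) = chi a (avec T7 r₃) ^ q := by
    have e := ha (avec T7 r₃)
    rwa [t3] at e
  have m1 : chi a (avec T7 r₁) = chi a (avec T7 r₂) ^ q := by
    have e := ha (avec T7 r₂)
    rwa [t2] at e
  have up : ∀ {x y : H}, y = x ^ q → x ^ 2 = 1 → y ^ 2 = 1 := fun e hx => by
    rw [e, ← pow_mul, mul_comm, pow_mul, hx, one_pow]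
  have all : chi a (avec T7 r₁) ^ 2 = 1 ∧ chi a (avec T7 r₂) ^ 2 = 1 ∧ chi a (avec T7 r₃) ^ 2 = 1 := by
    have f13 : chi a (avec T7 r₁) ^ 2 = 1 → chi a (avec T7 r₃) ^ 2 = 1 := fun h => by
      have := up m3 h
      rwa [inv_pow, inv_eq_one] at this
    simp only [List.mem_cons, List.not_mem_nil, or_false] at hr'
    rcases hr' with rfl | rfl | rfl
    · exact ⟨h0, up m2 (f13 h0), f13 h0⟩
    · exact ⟨up m1 h0, h0, f13 (up m1 h0)⟩
    · exact ⟨up m1 (up m2 h0), up m2 h0, h0⟩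
  set e := q ^ 4 - q ^ 2 + 1 with he
  have hq24 : q ^ 2 ≤ q ^ 4 := Nat.pow_le_pow_right (by omega) (by norm_num)
  have hdvd : (q ^ 4 - q ^ 2 + 1) * (q ^ 3 + 1) ∣ 8 * e := by
    rw [← hN]
    refine orderOf_dvd_of_pow_eq_one (funext fun j => ?_)
    show a j ^ (8 * e) = 1
    rw [← chi_single a j]
    obtain ⟨p, hp, hdec⟩ := decompose t (Pi.single j 1)
    have h4 := congrArg (chi a) hdec
    rw [chi_smul, chi_add, chi_add, chi_add, chi_smul, chi_smul, chi_smul] at h4
    have h5 := ha.aeval (X ^ 4 - X ^ 2 + 1) p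
    rw [perp_kill hL hchar hy0 hy t hrefl hp, chi_zero] at h5
    simp only [eval_add, eval_sub, eval_pow, eval_X, eval_one] at h5
    rw [show ((q : ℤ) ^ 4 - (q : ℤ) ^ 2 + 1) = ((e : ℕ) : ℤ) by rw [he]; push_cast [Nat.cast_sub hq24]; ring,
      zpow_natCast] at h5
    have sqz : ∀ (x : H) (k : ℤ), x ^ 2 = 1 → (x ^ k) ^ 2 = 1 := fun x k hx => by
      rw [← zpow_natCast, ← _root_.zpow_mul, mul_comm, _root_.zpow_mul, zpow_natCast, hx, _root_.one_zpow]
    rw [show 8 * e = 4 * (2 * e) by ring, pow_mul, ← zpow_natCast _ 4, Nat.cast_ofNat, h4, mul_pow,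
      show chi a p ^ (2 * e) = 1 by rw [mul_comm, pow_mul, ← h5, one_pow], one_mul, pow_mul]
    simp only [mul_pow, sqz _ _ all.1, sqz _ _ all.2.1, sqz _ _ all.2.2, one_mul, one_pow]
  have h8 : q ^ 3 + 1 ∣ 8 := by
    rw [mul_comm 8 e, ← he] at hdvd
    exact Nat.dvd_of_mul_dvd_mul_left (by omega) hdvd
  have := Nat.le_of_dvd (by norm_num) h8
  have : 2 ^ 3 ≤ q ^ 3 := Nat.pow_le_pow_left hq 3
  omega

theorem regular_gen (hr : r.Prime) (h12 : 12 < r) (hr6 : ¬ r ∣ q ^ 6 - 1)
    (hrd : r ∣ q ^ 4 - q ^ 2 + 1) {E : Type*} [Field E] {a : Fin (T7).l → Eˣ}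
    (ha : Twist a (wmat T7 (L ++ S)) q) (hN : orderOf a = (q ^ 4 - q ^ 2 + 1) * (q ^ 3 + 1)) :
    (∀ s < (T7).n, chi a (avec T7 s) ≠ 1) ∧ ∀ L', (T7).Wd L' →
      (∀ s < (T7).n, chi a (avec T7 ((T7).rw' L' s)) = chi a (avec T7 s)) →
      ∀ s < (T7).n, (T7).rw' L' s = s := by
  classical
  have g := gW.toGood
  haveI : Fact r.Prime := ⟨hr⟩
  set N := (q ^ 4 - q ^ 2 + 1) * (q ^ 3 + 1) with hN'
  have hrN : r ∣ N := dvd_mul_of_dvd_left hrd _
  have hN0 : N ≠ 0 := Nat.mul_ne_zero (by omega) (by omega)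
  have hoc : orderOf (a ^ (N / r)) = r := by
    rw [orderOf_pow_of_dvd (Nat.div_pos (Nat.le_of_dvd (Nat.pos_of_ne_zero hN0) hrN) hr.pos).ne'
      (hN.symm ▸ Nat.div_dvd_of_dvd hrN), hN, Nat.div_div_self hrN hN0]
  set c := a ^ (N / r) with hcdef
  have hcr : ∀ j, c j ^ r = 1 := fun j => by
    have := congrFun (hoc ▸ pow_orderOf_eq_one c) j
    simpa using this
  have hct : Twist c (wmat T7 (L ++ S)) q := fun x => by
    rw [hcdef, chi_pow_left, chi_pow_left, ha x, ← pow_mul, ← pow_mul, mul_comm]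
  obtain ⟨j₀, hj₀⟩ : ∃ j, c j ≠ 1 := by
    by_contra hcon
    push Not at hcon
    rw [show c = 1 from funext hcon, orderOf_one] at hoc
    exact hr.one_lt.ne hoc
  have hζ : IsPrimitiveRoot (c j₀) r :=
    (orderOf_eq_prime (hcr j₀) hj₀) ▸ IsPrimitiveRoot.orderOf (c j₀)
  have hroots := fun s hs => char_roots hL hchar hy0 hy t hrefl hq hr h12 hr6 hct hcr hj₀ (s := s) hs
  have hsq := fun r' hr' => chi_sq_ne hL hchar hy0 hy t hrefl hq ha hN (r' := r') hr'
  refine ⟨fun s hs h1 => ?_, fun L' hL' hfix => ?_⟩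
  · obtain ⟨r', hr', e⟩ := hroots s hs (by rw [hcdef, chi_pow_left, h1, one_pow])
    refine hsq r' hr' ?_
    rcases e with e | e
    · rw [← e, h1, one_pow]
    · rw [e, ← neg_one_zsmul, chi_smul, _root_.zpow_neg, zpow_one, inv_eq_one] at h1
      rw [h1, one_pow]
  · obtain ⟨ψ, hψ, hψ0⟩ := exists_fixed_functional g hasDual hr (by
        rw [cardW, show (2903040 : ℕ) = 2 ^ 10 * (3 ^ 4 * (5 * 7)) by norm_num]
        intro h
        rcases hr.dvd_mul.1 h with h | h
        · have := (Nat.prime_dvd_prime_iff_eq hr Nat.prime_two).1 (hr.dvd_of_dvd_pow h); omega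
        rcases hr.dvd_mul.1 h with h | h
        · have := (Nat.prime_dvd_prime_iff_eq hr Nat.prime_three).1 (hr.dvd_of_dvd_pow h); omega
        rcases hr.dvd_mul.1 h with h | h <;> have := Nat.le_of_dvd (by norm_num) h <;> omega)
      hcr hζ hL' (fun s hs => by rw [hcdef, chi_pow_left, chi_pow_left, hfix s hs])
    haveI : Fintype ↥(wG g) := Fintype.ofFinite _
    let f : ↥(wG g) → ℤ := fun w => ∑ j, (ψ ᵥ* wmat T7 w.2.choose) j
    obtain ⟨w, -, hw⟩ := Finset.exists_max_image Finset.univ f ⟨1, Finset.mem_univ _⟩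
    set P := w.2.choose with hPdef
    have hP : (T7).Wd P := w.2.choose_spec.1
    set φ := ψ ᵥ* wmat T7 P with hφ
    have hpos : ∀ k < (T7).l, 0 ≤ φ ⬝ᵥ avec T7 ((T7).smp k) := by
      intro k hk
      have hWd : (T7).Wd (P ++ [k]) := Wd.append_iff.2 ⟨hP, by simp [Wd, hk]⟩
      let w' : ↥(wG g) := ⟨pL g (P ++ [k]), P ++ [k], hWd, rfl⟩
      have h1 := hw w' (Finset.mem_univ _)
      have h2 : wmat T7 w'.2.choose = wmat T7 (P ++ [k]) :=
        wmat_congr g hasDual w'.2.choose_spec.1 hWd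
          ((pL_eq_iff g w'.2.choose_spec.1 hWd).1 w'.2.choose_spec.2)
      simp only [f, h2, ← hPdef, wmat_append, wmat_cons, wmat_nil, mul_one, ← vecMul_vecMul, ← hφ] at h1
      rw [sum_vecMul_rmat _ hk] at h1
      linarith
    have hPr : wmat T7 P * wmat T7 P.reverse = 1 := by
      have := wmat_reverse_mul g hasDual hP.reverse
      rwa [List.reverse_reverse] at this
    have hM : (T7).Wd (P.reverse ++ L' ++ P) :=
      Wd.append_iff.2 ⟨Wd.append_iff.2 ⟨hP.reverse, hL'⟩, hP⟩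
    obtain ⟨J, hJ, hJ0, hJeq⟩ := exists_word_zero g hasDual combOK hpos _ hM le_rfl fun s hs => by
      have hu1 := rw'_lt g hP hs
      rw [vecMul_dot_avec g ψ hP (rw'_lt g hM hs), vecMul_dot_avec g ψ hP hs, rw'_append, rw'_append,
        rw'_rev' g hP (rw'_lt g hL' hu1), hψ _ hu1]
    have hmat := wmat_congr g hasDual hM hJ hJeq
    have hW : ∀ z, wmat T7 L' *ᵥ z = wmat T7 P *ᵥ (wmat T7 J *ᵥ (wmat T7 P.reverse *ᵥ z)) := fun z => by
      rw [← hmat, wmat_append, wmat_append, mulVec_mulVec, mulVec_mulVec]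
      congr 1
      rw [Matrix.mul_assoc, Matrix.mul_assoc (wmat T7 P.reverse * wmat T7 L') (wmat T7 P), hPr,
        Matrix.mul_one, ← Matrix.mul_assoc, hPr, Matrix.one_mul]
    have hletter : ∀ k ∈ J, ∃ r' ∈ [r₁, r₂, r₃],
        wmat T7 P *ᵥ avec T7 ((T7).smp k) = avec T7 r' ∨
          wmat T7 P *ᵥ avec T7 ((T7).smp k) = -avec T7 r' := fun k hk => by
      have hks := g.smp_lt (hJ k hk)
      have h0 := hJ0 k hk
      rw [vecMul_dot_avec g ψ hP hks] at h0
      rw [wmat_avec g hP hks]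
      exact hroots _ (rw'_lt g hP hks) (hψ0 _ (rw'_lt g hP hks) h0)
    have hsimple : ∀ k, k < (T7).l → ∀ z, ⟪wmat T7 P *ᵥ avec T7 ((T7).smp k), wmat T7 P *ᵥ z⟫ = 0 →
        rmat T7 k *ᵥ z = z := fun k hk z h => by
      rw [form.invariant hP, form.simple_dot z ⟨k, hk⟩] at h
      have hz : z ⟨k, hk⟩ = 0 := by omega
      funext i
      simp only [mulVec, dotProduct, rmat, Matrix.of_apply, sub_mul, ite_mul, one_mul, zero_mul,
        Finset.sum_sub_distrib, Finset.sum_ite_eq, Finset.mem_univ, if_true]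
      rw [Finset.sum_eq_zero fun b _ => ?_, sub_zero]
      split_ifs with hb
      · rw [show b = ⟨k, hk⟩ from Fin.ext hb, hz, mul_zero]
      · rfl
    have hfixJ : ∀ (J' : List ℕ), (∀ k ∈ J', k ∈ J) → ∀ z, Perp r₁ r₂ r₃ (wmat T7 P *ᵥ z) →
        wmat T7 J' *ᵥ z = z := by
      intro J' hJ' z hz
      induction J' with
      | nil => simp
      | cons k J' ih =>
        rw [wmat_cons, ← mulVec_mulVec, ih fun x hx => hJ' x (List.mem_cons_of_mem _ hx)]
        refine hsimple k (hJ k (hJ' k List.mem_cons_self)) z ?_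
        obtain ⟨r', hr', e⟩ := hletter k (hJ' k List.mem_cons_self)
        simp only [List.mem_cons, List.not_mem_nil, or_false] at hr'
        rw [form.comm]
        rcases hr' with rfl | rfl | rfl <;> rcases e with e | e <;>
          simp [e, hz.1, hz.2.1, hz.2.2, mulVec_neg, dotProduct_neg]
    have hroot : ∀ r' ∈ [r₁, r₂, r₃],
        wmat T7 L' *ᵥ avec T7 r' = avec T7 r' ∨ wmat T7 L' *ᵥ avec T7 r' = -avec T7 r' := by
      intro r' hr'
      have hr'n : r' < (T7).n := by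
        simp only [List.mem_cons, List.not_mem_nil, or_false] at hr'
        rcases hr' with rfl | rfl | rfl
        exacts [t.lt1, t.lt2, t.lt3]
      set z := wmat T7 P.reverse *ᵥ avec T7 r' with hz
      have hPz : wmat T7 P *ᵥ z = avec T7 r' := by rw [hz, mulVec_mulVec, hPr, one_mulVec]
      have hpm : ∀ J', (∀ k ∈ J', k ∈ J) → wmat T7 J' *ᵥ z = z ∨ wmat T7 J' *ᵥ z = -z := by
        intro J' hJ'
        induction J' with
        | nil => simp
        | cons k J' ih =>
          have hk := hJ' k List.mem_cons_self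
          have hkl := hJ k hk
          have hself : rmat T7 k *ᵥ avec T7 ((T7).smp k) = -avec T7 ((T7).smp k) := by
            rw [rmat_avec g hkl (g.smp_lt hkl), g.ref_smp hkl]
            funext j
            exact ((g.sign' (g.smp_lt hkl)).1 j j.2).2.2.2
          have hone : rmat T7 k *ᵥ z = z ∨ rmat T7 k *ᵥ z = -z := by
            obtain ⟨r'', hr'', e⟩ := hletter k hk
            by_cases hrr : r'' = r'
            · subst hrr
              refine Or.inr ?_
              have hinj : Function.Injective (wmat T7 P *ᵥ ·) := Function.LeftInverse.injective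
                (g := (wmat T7 P.reverse *ᵥ ·)) fun u => by
                  show wmat T7 P.reverse *ᵥ (wmat T7 P *ᵥ u) = u
                  rw [mulVec_mulVec, wmat_reverse_mul g hasDual hP, one_mulVec]
              rcases e with e | e
              · rw [← hinj (e.trans hPz.symm)]; exact hself
              · rw [← _root_.neg_neg z, ← hinj (show wmat T7 P *ᵥ avec T7 ((T7).smp k) = wmat T7 P *ᵥ -z by
                  rw [e, mulVec_neg, hPz]), _root_.neg_neg, mulVec_neg, hself, _root_.neg_neg]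
            · refine Or.inl (hsimple k hkl z ?_)
              rw [hPz]
              have o : ⟪avec T7 r'', avec T7 r'⟫ = 0 := by
                simp only [List.mem_cons, List.not_mem_nil, or_false] at hr' hr''
                rcases hr' with rfl | rfl | rfl <;> rcases hr'' with rfl | rfl | rfl <;>
                  first
                  | exact absurd rfl hrr
                  | exact t.o12
                  | exact t.o13
                  | exact t.o23
                  | (rw [form.comm]; first | exact t.o12 | exact t.o13 | exact t.o23)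
              rcases e with e | e
              · rw [e, o]
              · rw [e, neg_dotProduct, o, neg_zero]
          rw [wmat_cons, ← mulVec_mulVec]
          rcases ih fun x hx => hJ' x (List.mem_cons_of_mem _ hx) with e1 | e1 <;> rw [e1]
          · exact hone
          · rw [mulVec_neg]
            rcases hone with e2 | e2 <;> rw [e2]
            · exact Or.inr rfl
            · rw [_root_.neg_neg]; exact Or.inl rfl
      rcases hpm J (fun _ h => h) with e | e
      · exact Or.inl (by rw [hW, ← hz, e, hPz])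
      · exact Or.inr (by rw [hW, ← hz, e, mulVec_neg, hPz])
    have hfixed : ∀ r' ∈ [r₁, r₂, r₃], wmat T7 L' *ᵥ avec T7 r' = avec T7 r' := by
      intro r' hr'
      rcases hroot r' hr' with e | e
      · exact e
      · exfalso
        refine hsq r' hr' ?_
        have hr'n : r' < (T7).n := by
          simp only [List.mem_cons, List.not_mem_nil, or_false] at hr'
          rcases hr' with rfl | rfl | rfl
          exacts [t.lt1, t.lt2, t.lt3]
        have h := hfix r' hr'n
        rw [← wmat_avec g hL' hr'n, e, ← neg_one_zsmul, chi_smul, _root_.zpow_neg, zpow_one] at h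
        rw [sq]
        conv_lhs => arg 1; rw [← h]
        exact inv_mul_cancel _
    intro s hs
    refine avec_inj (rw'_lt g hL' hs) hs ?_
    rw [← wmat_avec g hL' hs]
    obtain ⟨p, hp, hdec⟩ := decompose t (avec T7 s)
    refine smul_right_injective (Fin (T7).l → ℤ) (show (4 : ℤ) ≠ 0 by norm_num) ?_
    show (4 : ℤ) • (wmat T7 L' *ᵥ avec T7 s) = (4 : ℤ) • avec T7 s
    have hpfix : wmat T7 L' *ᵥ p = p := by
      rw [hW, hfixJ J (fun _ h => h) _ (by rwa [mulVec_mulVec, hPr, one_mulVec]), mulVec_mulVec, hPr,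
        one_mulVec]
    rw [← mulVec_smul, hdec, mulVec_add, mulVec_add, mulVec_add, mulVec_smul, mulVec_smul, mulVec_smul,
      hpfix, hfixed r₁ (by simp), hfixed r₂ (by simp), hfixed r₃ (by simp)]

end E7

end Cfsg.Agent.CoxTorus
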