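import Cfsg.Agent.Lib.CoxTorus.E6

/-! A solution of Lang's equation for the element of order `Φ₁₂Φ₃` of type E6. -/

set_option autoImplicit false
set_option maxRecDepth 20000

namespace Cfsg.Agent.CoxTorus.E6

open Cfsg.Lie Cfsg.Agent.Chev Cfsg.Agent.Chev.Tab Cfsg.Agent.ChevAut Polynomial
open scoped Matrix

local notation "T" => E6Data.tab

theorem exists_lang {F : Type*} [Field F] [Fintype F] {q : ℕ} (hF : Fintype.card F = q) :
    ∃ (E : Type) (_ : Field E) (_ : Fintype E) (_ : F →+* E) (σ : E →+* E) (L : List ℕ)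
      (ht : (T).D.SteinbergGroup E) (t : ℕ → Eˣ),
      Fintype.card E = q ^ 12 ∧ (∀ x, σ x = x ^ q) ∧ (T).Wd L ∧
      stMap T σ ht * ht⁻¹ = sW T E L * hT gW E t ∧
      (wmat T L.reverse).charpoly = sixPoly ∧
      ∃ y, y ≠ 0 ∧ aeval (wmat T L.reverse) (cyclotomic 12 ℤ) *ᵥ y = 0 := by
  have g := gW
  have gU := e6_data.big
  have hemb := e6_data.emb
  have hMU := dual8OK
  have hM := dualOK
  have hcomb := combOK
  have hd : 2 < 12 := by norm_num
  have hd6 : (12 : ℕ) ≠ 6 := by norm_num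
  have hdd : 0 < 3 := by norm_num
  have hS := E6Data.chainOK
  classical
  have gA := g.toGoodA
  have hg := g.toGood
  have hq : IsPrimePow q := hF ▸ FiniteField.isPrimePow_card F
  have hq2 : 2 ≤ q := hq.one_lt
  obtain ⟨r, hr, hrd, hprim⟩ := LEZsig.zsigmondy q 12 (by omega) (by omega)
    (fun h => hd6 h.2) (fun h => by omega)
  haveI : Fact r.Prime := ⟨hr⟩
  have hrq : ¬ r ∣ q := fun h => by
    have h1 : r ∣ q ^ 12 - (q ^ 12 - 1) := Nat.dvd_sub (dvd_pow h (by omega)) hrd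
    rw [Nat.sub_sub_self (Nat.one_le_pow _ _ (by omega))] at h1
    exact hr.one_lt.ne' (Nat.dvd_one.1 h1)
  have hroot : IsPrimitiveRoot (((q : ℕ) : ℤ) : ZMod r) 12 := by
    rw [Int.cast_natCast]
    have hcast : ∀ k, (r ∣ q ^ k - 1 ↔ ((q : ℕ) : ZMod r) ^ k = 1) := fun k => by
      rw [← ZMod.natCast_eq_zero_iff, Nat.cast_sub (Nat.one_le_pow _ _ (by omega)), Nat.cast_pow,
        Nat.cast_one, sub_eq_zero]
    exact (IsPrimitiveRoot.iff (by omega)).2
      ⟨(hcast 12).1 hrd, fun k hk hkd h => hprim k hk hkd ((hcast k).2 h)⟩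
  have hd1 : 12 ∣ r - 1 := hroot.dvd_of_pow_eq_one _ (ZMod.pow_card_sub_one_eq_one (by
    rw [Int.cast_natCast, Ne, ZMod.natCast_eq_zero_iff]
    exact hrq))
  obtain ⟨hrdd, hWr⟩ : ¬ r ∣ 3 ∧ ¬ r ∣ Nat.card (wG g.toGood) := by
    have h12 : 12 ≤ r - 1 := Nat.le_of_dvd (by have := hr.two_le; omega) hd1
    refine ⟨fun h => by have := Nat.le_of_dvd (by norm_num) h; omega, fun h => ?_⟩
    rw [cardW, show (51840 : ℕ) = 2 ^ 7 * 3 ^ 4 * 5 by norm_num] at h
    rcases hr.dvd_mul.1 h with h | h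
    · rcases hr.dvd_mul.1 h with h | h
      · have := (Nat.prime_dvd_prime_iff_eq hr Nat.prime_two).1 (hr.dvd_of_dvd_pow h); omega
      · have := (Nat.prime_dvd_prime_iff_eq hr Nat.prime_three).1 (hr.dvd_of_dvd_pow h); omega
    · have := Nat.le_of_dvd (by norm_num) h; omega
  have hcop : Nat.Coprime r 3 := hr.coprime_iff_not_dvd.2 hrdd
  -- the element of order `r`
  have hrG : r ∣ Nat.card ((T).D.group F) := by
    have h := card_group_formula (F := F) gA hF E6Data.torOK hS E6Data.polyOK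
    have h1 : r ∣ Nat.gcd 3 (q - 1) ^ E6Data.cert.k * Nat.card ((T).D.group F) := by
      rw [show (3 : ℕ) = E6Data.cert.d from rfl, h]
      exact dvd_mul_of_dvd_right (hrd.trans (List.dvd_prod (List.mem_map.2 ⟨12, (by decide), rfl⟩))) _
    rcases hr.dvd_mul.1 h1 with h2 | h2
    · exact absurd ((hr.dvd_of_dvd_pow h2).trans (Nat.gcd_dvd_left _ _)) hrdd
    · exact h2
  haveI : Finite F := Finite.of_fintype F
  obtain ⟨x, hx⟩ := exists_prime_orderOf_dvd_card' r hrG
  obtain ⟨k, -, hk⟩ := Nat.exists_mul_mod_eq_one_of_coprime hcop.symm hr.one_lt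
  have hkker : ∀ {K' : Type} [Field K'], ∀ y : (T).D.SteinbergGroup K', θ0 gA K' y = 1 →
      y ^ 3 = 1 := fun y hy => by
    obtain ⟨c, rfl, hc⟩ := ker_mem g hy
    rw [← map_pow, hT_congr g (c := c ^ 3) (c' := 1) (fun j hj => coord_pow_eq_one hg hM hc hj), map_one]
  have hkerF : ∀ y : (T).D.SteinbergGroup F, θ0 gA F y = 1 → y ^ 3 = 1 := fun y hy => by
    obtain ⟨c, rfl, hc⟩ := ker_mem g hy
    rw [← map_pow, hT_congr g (c := c ^ 3) (c' := 1) (fun j hj => coord_pow_eq_one hg hM hc hj), map_one]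
  obtain ⟨y, hy⟩ := θG_surjective gA x
  set xt : (T).D.SteinbergGroup F := y ^ (3 * k) with hxt
  have hθy : θ0 gA F y = x := congrArg Subtype.val hy
  have hxr : (x : GL (T).D.Idx F) ^ r = 1 := by
    rw [← SubmonoidClass.coe_pow, ← hx, pow_orderOf_eq_one]; rfl
  have hθxt : θ0 gA F xt = x := by
    rw [hxt, map_pow, hθy, ← Nat.mod_add_div (3 * k) r, hk, pow_add, pow_one, pow_mul, hxr, one_pow,
      mul_one]
  have hxtr : xt ^ r = 1 := by
    rw [hxt, ← pow_mul, show 3 * k * r = r * 3 * k by ring, pow_mul, pow_mul,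
      hkerF (y ^ r) (by rw [map_pow, hθy, hxr]), one_pow]
  -- the extension
  obtain ⟨p, hp⟩ := CharP.exists F
  haveI : Fact p.Prime := ⟨CharP.char_is_prime F p⟩
  haveI : NeZero 12 := ⟨by omega⟩
  let E := FiniteField.Extension F p 12
  haveI : Fintype E := Fintype.ofFinite E
  haveI : Finite E := Finite.of_fintype E
  have hcE : Fintype.card E = q ^ 12 := by
    rw [← Nat.card_eq_fintype_card, FiniteField.natCard_extension, Nat.card_eq_fintype_card, hF]
  obtain ⟨σ, hσ⟩ := TwField.exists_powHom (K := E) hq hcE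
  let φ : F →+* E := algebraMap F E
  have hφ : ∀ t, σ (φ t) = φ t := fun t => by rw [hσ, ← map_pow, ← hF, FiniteField.pow_card]
  have hrange : ∀ t : E, σ t = t ↔ ∃ s, φ s = t := fun t =>
    ⟨fun h => exists_range_of_fixed φ (by rw [hF, ← hσ, h]), fun ⟨s, hs⟩ => hs ▸ hφ s⟩
  let ι : ↥((T).D.group F) →* GL (T).D.Idx E := (fieldMap T φ).comp ((T).D.group F).subtype
  have hιinj : Function.Injective ι :=
    (Units.map_injective (Matrix.map_injective φ.injective)).comp Subtype.val_injective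
  let J := stMap T φ
  let Fr := stMap T σ
  have hJ : ∀ u, Fr (J u) = J u := fun u => by
    show stMap T σ (stMap T φ u) = stMap T φ u
    rw [stMap_comp hg, show σ.comp φ = φ from RingHom.ext hφ]
  have hιθ : ∀ u : (T).D.SteinbergGroup F, ι (θG gA F u) = θ0 gA E (J u) := fun u =>
    (θ0_stMap gA φ u).symm
  have hιmem : ∀ u, ι u ∈ (T).D.group E := fun u => by
    obtain ⟨w, rfl⟩ := θG_surjective gA u
    rw [hιθ]
    exact (θG gA E (J w)).2
  -- diagonalisation in the adjoint group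
  have hQ : r ∣ Fintype.card E - 1 := by rw [hcE]; exact hrd
  obtain ⟨h, hh, c, hcr, hc⟩ : ∃ h ∈ (T).D.group E, ∃ c, (∀ j < (T).l, c j ^ r = 1) ∧
      h * ι x * h⁻¹ = tor T E c := by
    obtain ⟨h, hh, c, hc⟩ := exists_conj_tor' gA hr hQ hWr (hιmem x)
      (by rw [← map_pow, ← hx, pow_orderOf_eq_one, map_one])
    have h1 : tor T E c ^ r = 1 := by rw [← hc, conj_pow, ← map_pow, ← hx, pow_orderOf_eq_one, map_one]; group
    refine ⟨h, hh, c ^ (3 * k), fun j hj => ?_, ?_⟩
    · rw [Pi.pow_apply, ← pow_mul, show 3 * k * r = r * 3 * k by ring, pow_mul, pow_mul,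
        ← Pi.pow_apply c r j, coord_pow_eq_one hg hM (by rw [map_pow, h1]) hj, one_pow]
    · rw [map_pow, ← Nat.mod_add_div (3 * k) r, hk, pow_add, pow_one, pow_mul, h1, one_pow, mul_one, hc]
  obtain ⟨ht, hht⟩ := θG_surjective gA ⟨h, hh⟩
  have hθh : θ0 gA E ht = h := congrArg Subtype.val hht
  have hkerhT : ∀ u : (T).D.SteinbergGroup E, ∀ e, θ0 gA E u = tor T E e → ∃ e', u = hT g E e' := by
    intro u e hu
    obtain ⟨c', hc', -⟩ := ker_mem g (x := u * (hT g E e)⁻¹)
      (by rw [map_mul, map_inv, hu, θ0_hT, mul_inv_cancel])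
    exact ⟨c' * e, by rw [map_mul, ← hc', inv_mul_cancel_right]⟩
  have hrtor : ∀ {e : ℕ → Eˣ}, tor T E e = 1 → (∀ j < (T).l, e j ^ r = 1) → hT g E e = 1 := fun he her => by
    rw [hT_congr g (c' := 1) (fun j hj => ?_), map_one]
    exact pow_eq_one_of_coprime hcop (her j hj) (coord_pow_eq_one hg hM he hj)
  have hct : ht * J xt * ht⁻¹ = hT g E c := by
    obtain ⟨e, he⟩ := hkerhT (ht * J xt * ht⁻¹) c (by
      rw [map_mul, map_mul, map_inv, hθh, θ0_stMap, hθxt]
      exact hc)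
    have her : ∀ j < (T).l, e j ^ r = 1 := fun j hj => by
      have e1 : hT g E (e ^ r) = hT g E 1 := by
        rw [map_pow, ← he, conj_pow, ← map_pow, hxtr, map_one, map_one]; group
      exact hT_inj g gU hemb hMU e1 hj
    have e2 : tor T E (e / c) = 1 := by
      rw [_root_.map_div, ← θ0_hT g, ← he, map_mul, map_mul, map_inv, hθh, θ0_stMap, hθxt]
      exact div_eq_one.2 hc
    have e3 := hrtor e2 fun j hj => by rw [Pi.div_apply, div_pow, her j hj, hcr j hj, div_one]
    rw [_root_.map_div, div_eq_one] at e3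
    rw [he, e3]
  have hσtor : ∀ e : ℕ → Eˣ, Fr (hT g E e) = hT g E (e ^ q) := fun e => by
    show stMap T σ (hT g E e) = _
    rw [stMap_hT]
    congr 1
    funext j
    exact Units.ext (by simp [hσ])
  set m := Fr ht * ht⁻¹ with hm
  have hmc : ∀ (u) (e : ℕ → Eˣ), ht * J u * ht⁻¹ = hT g E e → m * hT g E e * m⁻¹ = hT g E (e ^ q) :=
    fun u e he => by
      rw [← hσtor, ← he, map_mul, map_mul, hJ, map_inv, hm]
      group
  obtain ⟨L, hL, hn⟩ := exists_word_of_conj gA (θG gA E m).2 (c := c) (c' := c ^ q) (by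
    have e := congrArg (θ0 gA E) (hmc xt c hct)
    rw [map_mul, map_mul, map_inv, θ0_hT, θ0_hT] at e
    exact e)
  set X' := wmat T L.reverse with hX'
  have hWL : (T).Wd L.reverse := hL.reverse
  have htwist : ∀ e : ℕ → Eˣ, sW T E L * hT g E e * (sW T E L)⁻¹ = hT g E (e ^ q) ↔
      Twist (fun j : Fin (T).l => e j) X' q := by
    intro e
    obtain ⟨c', hc', hchi⟩ := sW_conj_hT_eq g hL e
    constructor
    · intro he x'
      rw [hX', ← hchi]
      rw [hc'] at he
      simp only [hT_inj g gU hemb hMU he (Fin.is_lt _), chi, Pi.pow_apply, ← Finset.prod_pow]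
      exact Finset.prod_congr rfl fun j _ => by
        rw [← zpow_natCast, ← zpow_natCast, ← _root_.zpow_mul, ← _root_.zpow_mul, mul_comm]
    · intro he
      rw [hc']
      refine hT_congr g fun j hj => ?_
      have h1 := hchi (Pi.single ⟨j, hj⟩ 1)
      rw [← hX', he, chi_single, chi_single] at h1
      exact h1
  have hcT : Twist (fun j : Fin (T).l => c j) X' q := by
    refine (htwist c).1 ?_
    obtain ⟨c', hc', hchi⟩ := sW_conj_hT_eq g hL c
    have e2 : tor T E (c' / c ^ q) = 1 := by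
      have e := congrArg (θ0 gA E) hc'
      rw [map_mul, map_mul, map_inv, θ0_sW, θ0_hT, θ0_hT, hn] at e
      rw [_root_.map_div, e, div_self']
    have e3 := hrtor e2 fun j hj => by
      have e4 : c' j ^ r = 1 := by
        have h1 := hchi (Pi.single ⟨j, hj⟩ 1)
        rw [chi_single] at h1
        rw [show c' j = _ from h1, chi, ← Finset.prod_pow]
        refine Finset.prod_eq_one fun i _ => ?_
        rw [← zpow_natCast, ← _root_.zpow_mul, mul_comm, _root_.zpow_mul, zpow_natCast,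
          hcr i i.2, _root_.one_zpow]
      rw [Pi.div_apply, div_pow, e4, Pi.pow_apply, ← pow_mul, mul_comm, pow_mul, hcr j hj, one_pow,
        div_one]
    rw [_root_.map_div, div_eq_one] at e3
    rw [hc', e3]
  have hone : ∃ j < (T).l, c j ≠ 1 := by
    by_contra hcon
    push Not at hcon
    rw [tor_congr hg (d := 1) hcon, map_one, conj_eq_one_iff] at hc
    have : x = 1 := hιinj (by rw [hc, map_one])
    rw [this, orderOf_one] at hx
    exact hr.one_lt.ne hx
  obtain ⟨j₀, hj₀, hne₀⟩ := hone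
  have hord : orderOf (c j₀) = r := orderOf_eq_prime (hcr j₀ hj₀) hne₀
  obtain ⟨y, hy0, hy⟩ := exists_cyclotomic_vec Nat.card_pos hWr
    (wmat_pow_card g.toGood hasDual hWL) hroot hcT (j := ⟨j₀, hj₀⟩) hord
  have hchar := charpoly_eq hWL hy0 hy
  have hΦ : aeval X' sixPoly = 0 := by rw [hX', ← hchar, Matrix.aeval_self_charpoly]
  have hrq6 : ¬ r ∣ q ^ 6 - 1 := hprim 6 (by norm_num) (by norm_num)
  have hreg' : ∀ s < (T).n, chi (fun j : Fin (T).l => c j) (avec T s) ≠ 1 := fun s hs h1 =>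
    regular_six (G := gram) (form.invariant hWL) form.comm form.definite gram_det hΦ hchar
      (by omega) hr (by have := Nat.le_of_dvd (by have := hr.two_le; omega) hd1; omega) hrq6 hcT
      (fun j => hcr j j.2) (j₀ := ⟨j₀, hj₀⟩) hord (v := avec T s)
      (root_gseq_zero _ hs) (root_gseq_vals hWL hs) (no_periodic_root hWL hy0 hy hΦ hs) h1
  have hreg : ∀ s < (T).n, wt T E c s ≠ 1 := fun s hs => by rw [wt_eq_chi]; exact hreg' s hs
  have hstab := fun (L' : List ℕ) (hL' : (T).Wd L')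
      (hfix : ∀ s < (T).n, wt T E c ((T).rw' L' s) = wt T E c s) =>
    stab_trivial hg hasDual hcomb hr hWr hcr (hord ▸ IsPrimitiveRoot.orderOf (c j₀)) hreg hL' hfix
  have hcent : ∀ {u : (T).D.SteinbergGroup E}, Commute (hT g E c) u → ∃ e, u = hT g E e := by
    intro u hu
    have h1 : Commute (tor T E c) (θ0 gA E u) := θ0_hT g c ▸ hu.map (θ0 gA E)
    obtain ⟨e, he⟩ := G2Torus.exists_tor_of_commute' gA hstab hreg (θG gA E u).2 h1
    exact hkerhT u e he
  obtain ⟨t, ht'⟩ := hcent (u := (sW T E L)⁻¹ * m) (by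
    have h1 : m * hT g E c * m⁻¹ = sW T E L * hT g E c * (sW T E L)⁻¹ :=
      (hmc xt c hct).trans ((htwist c).2 hcT).symm
    show hT g E c * ((sW T E L)⁻¹ * m) = (sW T E L)⁻¹ * m * hT g E c
    calc _ = (sW T E L)⁻¹ * (sW T E L * hT g E c * (sW T E L)⁻¹) * m := by group
      _ = _ := by rw [← h1]; group)
  refine ⟨E, inferInstance, inferInstance, φ, σ, L, ht, t, hcE, hσ, hL, ?_, hchar, y, hy0, hy⟩
  show m = _
  rw [← ht']; group

end Cfsg.Agent.CoxTorus.E6
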