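import Cfsg.Agent.Lib.CoxTorus.SC

/-! Identities in the rank one subgroups, and a step of Lang's equation in three commuting ones. -/

set_option autoImplicit false

namespace Cfsg.Agent.CoxTorus

open Cfsg.Lie Cfsg.Agent.Chev Cfsg.Agent.Chev.Tab

variable {T : Tab} {K : List (List ℕ)} {W : List (ℕ × ℕ × ℕ)} {F : Type*} [Field F]

theorem conj_mul3 {G : Type*} [Group G] (a x y z : G) :
    a * (x * y * z) * a⁻¹ = a * x * a⁻¹ * (a * y * a⁻¹) * (a * z * a⁻¹) := by group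

/-- A word moves a root and its negative by inverse signs. -/
theorem sW_conj_pair (g : T.GoodW K W) {L : List ℕ} (hL : T.Wd L) {s : ℕ} (hs : s < T.n) :
    ∃ ε : F, ε * ε = 1 ∧ ∀ t : F,
      sW T F L * sx T F s t * (sW T F L)⁻¹ = sx T F (T.rw' L s) (ε * t) ∧
      sW T F L * sx T F (T.neg s) t * (sW T F L)⁻¹ = sx T F (T.neg (T.rw' L s)) (ε * t) := by
  have hg := g.toGood
  obtain ⟨v, hv⟩ := sW_conj (F := F) g hL hs
  obtain ⟨w, hw⟩ := sW_conj (F := F) g hL (Tab.neg_lt hs)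
  obtain ⟨ε, hε, hn⟩ := nWd_conj (F := F) hg hL hs
  have h1 := congrArg (θ0 g.toGoodA F) (hv 1)
  have h2 := congrArg (θ0 g.toGoodA F) (hw 1)
  simp only [map_mul, map_inv, θ0_sx, θ0_sW] at h1 h2
  rw [(hn 1).1] at h1
  rw [(hn 1).2, rw'_neg hg hL hs] at h2
  have e1 := xg_mono_inj hg (rw'_lt hg hL hs) h1
  have e2 := xg_mono_inj hg (Tab.neg_lt (rw'_lt hg hL hs)) h2
  simp only [mul_one] at e1 e2
  refine ⟨(ε : F), by rw [← Units.val_mul, hε, Units.val_one], fun t => ⟨?_, ?_⟩⟩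
  · rw [hv, e1]
  · rw [hw, rw'_neg hg hL hs, e2]

/-- A word moves a root and its negative so that `n_s(w)` goes to `n` of the image. -/
theorem sW_conj_sn (g : T.GoodW K W) {L : List ℕ} (hL : T.Wd L) {s : ℕ} {ε : F} (hε : ε * ε = 1)
    (h : ∀ t : F, sW T F L * sx T F s t * (sW T F L)⁻¹ = sx T F (T.rw' L s) (ε * t) ∧
      sW T F L * sx T F (T.neg s) t * (sW T F L)⁻¹ = sx T F (T.neg (T.rw' L s)) (ε * t)) (w : F) :
    sW T F L * sn T F s w * (sW T F L)⁻¹ = sn T F (T.rw' L s) (ε * w) := by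
  have hinv : ε⁻¹ = ε := inv_eq_of_mul_eq_one_right hε
  rw [sn, conj_mul3, (h _).1, (h _).2, sn, mul_inv, hinv, mul_neg]

theorem exists_word_root (g : T.Good) {r : ℕ} (hr : r < T.n) :
    ∃ P i, T.Wd P ∧ i < T.l ∧ T.rw' P (T.smp i) = r := by
  refine root_induction g (P := fun r => ∃ P i, T.Wd P ∧ i < T.l ∧ T.rw' P (T.smp i) = r)
    (fun i hi => ⟨[], i, by simp [Wd], hi, rw'_nil _⟩) ?_ r hr
  rintro j hj s _ ⟨P, i, hP, hi, rfl⟩
  exact ⟨j :: P, i, Wd.cons_iff.2 ⟨hj, hP⟩, hi, rw'_cons _ _ _⟩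

theorem sn_conj_self (g : T.GoodW K W) {i : ℕ} (hi : i < T.l) (u : Fˣ) (t : F) :
    sn T F (T.smp i) (u : F) * sx T F (T.smp i) t * (sn T F (T.smp i) (u : F))⁻¹ =
      sx T F (T.neg (T.smp i)) (-((u : F) * (u : F))⁻¹ * t) ∧
    sn T F (T.smp i) (u : F) * sx T F (T.neg (T.smp i)) t * (sn T F (T.smp i) (u : F))⁻¹ =
      sx T F (T.smp i) (-((u : F) * (u : F)) * t) := by
  have hg := g.toGood
  have hp := hg.smp_lt hi
  have hn := Tab.neg_lt hp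
  have h1 := sn_conj (F := F) g hi hp u t
  have h2 := sn_conj (F := F) g hi hn u t
  rw [hg.ref_smp hi] at h1
  have hr2 : T.ref i (T.neg (T.smp i)) = T.smp i := by
    rw [hg.ref_neg hi hp, hg.ref_smp hi, Tab.neg_neg hp]
  rw [hr2] at h2
  refine ⟨h1.trans ?_, h2.trans ?_⟩
  · congr 1
    rw [kap, hg.ref_smp hi, ((hg.sign' hp).1 i hi).2.2.2, A_smp_self hg hi, hg.eta_smp hi]
    simp [zpow_ofNat, sq]
  · congr 1
    rw [kap, hr2, A_smp_self hg hi, hg.eta_neg hi hp, hg.eta_smp hi]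
    simp [zpow_ofNat, sq]

/-- `n_r(w)` exchanges the two root groups. -/
theorem sn_conj_root (g : T.GoodW K W) {r : ℕ} (hr : r < T.n) {w : F} (hw : w ≠ 0) (t : F) :
    sn T F r w * sx T F r t * (sn T F r w)⁻¹ = sx T F (T.neg r) (-(w * w)⁻¹ * t) ∧
    sn T F r w * sx T F (T.neg r) t * (sn T F r w)⁻¹ = sx T F r (-(w * w) * t) := by
  obtain ⟨P, i, hP, hi, rfl⟩ := exists_word_root g.toGood hr
  obtain ⟨ε, hε, hc⟩ := sW_conj_pair (F := F) g hP (g.toGood.smp_lt hi)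
  obtain ⟨u, hu⟩ : ∃ u : Fˣ, (u : F) = ε * w :=
    ⟨Units.mk0 _ (mul_ne_zero (left_ne_zero_of_mul_eq_one hε) hw), rfl⟩
  have hn : sW T F P * sn T F (T.smp i) (u : F) * (sW T F P)⁻¹ = sn T F (T.rw' P (T.smp i)) w := by
    rw [sW_conj_sn g hP hε hc, hu, ← mul_assoc, hε, one_mul]
  have key : ∀ a b x : T.D.SteinbergGroup F,
      a * b * a⁻¹ * (a * x * a⁻¹) * (a * b * a⁻¹)⁻¹ = a * (b * x * b⁻¹) * a⁻¹ := fun a b x => by group
  have hww : ε * w * (ε * w) = w * w := by linear_combination (w * w) * hε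
  have hback : ∀ x : F, ε * (ε * x) = x := fun x => by rw [← mul_assoc, hε, one_mul]
  obtain ⟨q1, -⟩ := sn_conj_self g hi u (ε * t)
  obtain ⟨-, q2⟩ := sn_conj_self g hi u (ε * t)
  constructor
  · have := key (sW T F P) (sn T F (T.smp i) (u : F)) (sx T F (T.smp i) (ε * t))
    rw [hn, (hc _).1, hback, q1, (hc _).2, hu, hww] at this
    rw [this, mul_left_comm, hback]
  · have := key (sW T F P) (sn T F (T.smp i) (u : F)) (sx T F (T.neg (T.smp i)) (ε * t))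
    rw [hn, (hc _).2, hback, q2, (hc _).1, hu, hww] at this
    rw [this, mul_left_comm, hback]

theorem sn_mul_sh (g : T.Good) {r : ℕ} (hr : r < T.n) {w a : F} (hw : w ≠ 0) (ha : a ≠ 0) :
    sn T F r w * sh T F r a = sn T F r (w * a⁻¹) := by
  have h1 : sn T F r (-1 : F) = sh T F r (-1) * sn T F r 1 := sn_eq_sh g r _
  rw [show sh T F r a = sn T F r a * sn T F r (-1) from rfl, ← mul_assoc, sn_mul_sn g hr hw ha, h1,
    ← mul_assoc, sh_mul g hr (mul_ne_zero hw (inv_ne_zero (neg_ne_zero.2 ha))) (neg_ne_zero.2 one_ne_zero),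
    sn_eq_sh g r (w * a⁻¹)]
  congr 2
  rw [inv_neg]; ring

theorem sx_mul_sx_neg (g : T.GoodW K W) {r : ℕ} (hr : r < T.n) {s t : F} (ht : t ≠ 0)
    (h : 1 + s * t ≠ 0) :
    sx T F r s * sx T F (T.neg r) t =
      sx T F (T.neg r) (t / (1 + s * t)) * sh T F r (1 + s * t) * sx T F r (s / (1 + s * t)) := by
  have hg := g.toGood
  have hop : ∀ z : F, z ≠ 0 →
      sn T F r z = sx T F (T.neg r) (-z⁻¹) * sx T F r z * sx T F (T.neg r) (-z⁻¹) := by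
    intro z hz
    have e : sn T F r z = sn T F r z * (sx T F r z * sx T F (T.neg r) (-z⁻¹) * sx T F r z) *
        (sn T F r z)⁻¹ := by
      rw [show sx T F r z * sx T F (T.neg r) (-z⁻¹) * sx T F r z = sn T F r z from rfl]; group
    rw [conj_mul3, (sn_conj_root g hr hz _).1, (sn_conj_root g hr hz _).2] at e
    rw [e]
    have e1 : -(z * z)⁻¹ * z = -z⁻¹ := by field_simp
    have e2 : -(z * z) * -z⁻¹ = z := by field_simp
    rw [e1, e2]
  set z := s + t⁻¹ with hz'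
  have hz : z ≠ 0 := fun h0 => h (by
    have : z * t = 0 := by rw [h0, zero_mul]
    rw [hz', add_mul, inv_mul_cancel₀ ht] at this
    linear_combination this)
  have hy : sx T F (T.neg r) t = sx T F r t⁻¹ * sn T F r (-t⁻¹) * sx T F r t⁻¹ := by
    rw [sn, show -(-t⁻¹)⁻¹ = t by rw [inv_neg, inv_inv, _root_.neg_neg], ← mul_assoc, ← mul_assoc,
      sx_add hg, add_neg_cancel, sx_zero hg, one_mul, mul_assoc, sx_add hg, neg_add_cancel, sx_zero hg,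
      mul_one]
  have hx : sx T F r z = sx T F (T.neg r) z⁻¹ * sn T F r z * sx T F (T.neg r) z⁻¹ := by
    rw [hop z hz, ← mul_assoc, ← mul_assoc, sx_add hg, add_neg_cancel, sx_zero hg, one_mul, mul_assoc,
      sx_add hg, neg_add_cancel, sx_zero hg, mul_one]
  have hw : -t⁻¹ ≠ (0 : F) := neg_ne_zero.2 (inv_ne_zero ht)
  have hpass : sx T F (T.neg r) z⁻¹ * sn T F r (-t⁻¹) =
      sn T F r (-t⁻¹) * sx T F r (-(t⁻¹ * t⁻¹) * z⁻¹) := by
    have e := mul_inv_eq_iff_eq_mul.1 (sn_conj_root g hr hw (-(t⁻¹ * t⁻¹) * z⁻¹)).1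
    rw [show -(-t⁻¹ * -t⁻¹)⁻¹ * (-(t⁻¹ * t⁻¹) * z⁻¹) = z⁻¹ by field_simp] at e
    exact e.symm
  calc sx T F r s * sx T F (T.neg r) t
      = sx T F r z * sn T F r (-t⁻¹) * sx T F r t⁻¹ := by
        rw [hy, ← mul_assoc, ← mul_assoc, sx_add hg]
    _ = sx T F (T.neg r) z⁻¹ * sn T F r z * (sx T F (T.neg r) z⁻¹ * sn T F r (-t⁻¹)) *
          sx T F r t⁻¹ := by rw [hx]; group
    _ = sx T F (T.neg r) z⁻¹ * (sn T F r z * sn T F r (-t⁻¹)) *
          (sx T F r (-(t⁻¹ * t⁻¹) * z⁻¹) * sx T F r t⁻¹) := by rw [hpass]; group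
    _ = _ := by
      rw [sn_mul_sn hg hr hz hw, sx_add hg, show z = (1 + s * t) / t by rw [hz']; field_simp; ring]
      congr 2
      · congr 1; field_simp
      · congr 1; field_simp
      · have h' : (1 + t * s) ≠ 0 := by rwa [mul_comm t s]
        field_simp; ring

/-- The element `x_{-r}(u) h_r(a) x_r(p)`. -/
def cell (T : Tab) (F : Type*) [Field F] (r : ℕ) (u a p : F) : T.D.SteinbergGroup F :=
  sx T F (T.neg r) u * sh T F r a * sx T F r p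

/-- The equation of the rank one group. -/
theorem sn_mul_cell (g : T.GoodW K W) {r : ℕ} (hr : r < T.n) {u₀ a b : F} (p : F) (hu : u₀ ≠ 0)
    (ha : a ≠ 0) (hb : b ≠ 0) :
    sn T F r u₀ * cell T F r (b / (u₀ * a)) a p =
      cell T F r (-a / (u₀ * b)) b (u₀ / (a * b) + p) := by
  have hg := g.toGood
  set w := u₀ * a⁻¹ with hw'
  have hw : w ≠ 0 := mul_ne_zero hu (inv_ne_zero ha)
  have e1 : sn T F r u₀ * sx T F (T.neg r) (b / (u₀ * a)) =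
      sx T F r (-(u₀ * u₀) * (b / (u₀ * a))) * sn T F r u₀ :=
    mul_inv_eq_iff_eq_mul.1 (sn_conj_root g hr hu _).2
  calc sn T F r u₀ * cell T F r (b / (u₀ * a)) a p
      = sx T F r (-(u₀ * u₀) * (b / (u₀ * a))) * (sn T F r u₀ * sh T F r a) * sx T F r p := by
        rw [cell, ← mul_assoc, ← mul_assoc, e1]; group
    _ = sx T F r (-(u₀ * u₀) * (b / (u₀ * a)) + w) * sx T F (T.neg r) (-w⁻¹) *
          (sx T F r w * sx T F r p) := by
        rw [sn_mul_sh hg hr hu ha, ← hw', sn, ← sx_add hg]; group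
    _ = _ := by
      have h1 : 1 + (-(u₀ * u₀) * (b / (u₀ * a)) + w) * -w⁻¹ = b := by
        rw [hw']; field_simp; ring
      rw [sx_mul_sx_neg g hr (neg_ne_zero.2 (inv_ne_zero hw)) (by rw [h1]; exact hb), h1, cell,
        mul_assoc _ (sx T F r _) (sx T F r w * sx T F r p), sx_add hg, sx_add hg]
      congr 2
      · congr 1; rw [hw']; field_simp
      · rw [hw']; field_simp; ring

theorem conj_sh_root (g : T.Good) {r r' : ℕ} (hr' : r' < T.n) {m : T.D.SteinbergGroup F} {μ : F}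
    (hμ : μ ≠ 0) (h1 : ∀ t, m * sx T F r t * m⁻¹ = sx T F r' (μ * t))
    (h2 : ∀ t, m * sx T F (T.neg r) t * m⁻¹ = sx T F (T.neg r') (μ⁻¹ * t)) {a : F} (ha : a ≠ 0) :
    m * sh T F r a * m⁻¹ = sh T F r' a := by
  have hn : ∀ w : F, m * sn T F r w * m⁻¹ = sn T F r' (μ * w) := fun w => by
    rw [sn, conj_mul3, h1, h2, sn, mul_inv, mul_neg]
  rw [sh, show ∀ x y : T.D.SteinbergGroup F, m * (x * y) * m⁻¹ = m * x * m⁻¹ * (m * y * m⁻¹) from
    fun x y => by group, hn, hn, sn_mul_sn g hr' (mul_ne_zero hμ ha) (mul_ne_zero hμ (neg_ne_zero.2 one_ne_zero))]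
  congr 1
  field_simp

theorem conj_cell (g : T.Good) {r r' : ℕ} (hr' : r' < T.n) {m : T.D.SteinbergGroup F} {μ : F}
    (hμ : μ ≠ 0) (h1 : ∀ t, m * sx T F r t * m⁻¹ = sx T F r' (μ * t))
    (h2 : ∀ t, m * sx T F (T.neg r) t * m⁻¹ = sx T F (T.neg r') (μ⁻¹ * t)) (u : F) {a : F}
    (ha : a ≠ 0) (p : F) :
    m * cell T F r u a p * m⁻¹ = cell T F r' (μ⁻¹ * u) a (μ * p) := by
  rw [cell, conj_mul3, h1, h2, conj_sh_root g hr' hμ h1 h2 ha, cell]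

theorem stMap_cell {E : Type*} [Field E] (g : T.Good) (σ : F →+* E) (r : ℕ) (u a p : F) :
    stMap T σ (cell T F r u a p) = cell T E r (σ u) (σ a) (σ p) := by
  simp only [cell, sh, map_mul, stMap_sx g, stMap_sn g, map_neg, map_one]

theorem commute_sx (g : T.Good) {r s : ℕ} (hr : r < T.n) (hs : s < T.n) (h1 : s ≠ r) (h2 : s ≠ T.neg r)
    (h : T.cTerms r s = []) (t u : F) : Commute (sx T F s u) (sx T F r t) := by
  have e := sx_comm (F := F) g hr hs h1 h2 t u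
  rw [cVal, h] at e
  simpa [sWord, Commute, SemiconjBy] using e

/-- The two roots generate commuting rank one groups. -/
def Orth (T : Tab) (r s : ℕ) : Prop :=
  ∀ a ∈ [r, T.neg r], ∀ b ∈ [s, T.neg s], b ≠ a ∧ b ≠ T.neg a ∧ T.cTerms a b = []

theorem commute_cell (g : T.Good) {r s : ℕ} (hr : r < T.n) (hs : s < T.n) (h : Orth T r s)
    (u a p u' a' p' : F) : Commute (cell T F r u a p) (cell T F s u' a' p') := by
  have hlt : ∀ {r : ℕ}, r < T.n → ∀ x ∈ [r, T.neg r], x < T.n := by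
    intro r hr x hx
    rcases List.mem_cons.1 hx with rfl | hx
    · exact hr
    · rw [List.mem_singleton.1 hx]; exact Tab.neg_lt hr
  have hc : ∀ x ∈ [r, T.neg r], ∀ y ∈ [s, T.neg s], ∀ t t' : F,
      Commute (sx T F x t) (sx T F y t') := by
    intro x hx y hy t t'
    obtain ⟨h1, h2, h3⟩ := h x hx y hy
    exact (commute_sx g (hlt hr x hx) (hlt hs y hy) h1 h2 h3 t t').symm
  have gen : ∀ (x : T.D.SteinbergGroup F) (v : ℕ), (∀ y ∈ [v, T.neg v], ∀ t', Commute x (sx T F y t')) →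
      ∀ w c e : F, Commute x (cell T F v w c e) := by
    intro x v hv w c e
    have hxv : ∀ t', Commute x (sx T F v t') := hv v (by simp)
    have hxn : ∀ t', Commute x (sx T F (T.neg v) t') := hv _ (by simp)
    have hn : ∀ d, Commute x (sn T F v d) := fun d => ((hxv _).mul_right (hxn _)).mul_right (hxv _)
    exact ((hxn _).mul_right ((hn _).mul_right (hn _))).mul_right (hxv _)
  refine (gen _ r (fun x hx t => ?_) u a p).symm
  exact (gen _ s (fun y hy t' => hc x hx y hy t t') u' a' p').symm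

/-- The step of Lang's equation. -/
theorem lang_step (g : T.GoodW K W) {r₁ r₂ r₃ : ℕ} (h₁ : r₁ < T.n) (h₂ : r₂ < T.n) (h₃ : r₃ < T.n)
    (o12 : Orth T r₁ r₂) (o13 : Orth T r₁ r₃) (o23 : Orth T r₂ r₃)
    {m : T.D.SteinbergGroup F} {μ₁ μ₂ μ₃ : F} (n₁ : μ₁ ≠ 0) (n₂ : μ₂ ≠ 0) (n₃ : μ₃ ≠ 0)
    (a1 : ∀ t, m * sx T F r₁ t * m⁻¹ = sx T F r₂ (μ₁ * t))
    (b1 : ∀ t, m * sx T F (T.neg r₁) t * m⁻¹ = sx T F (T.neg r₂) (μ₁⁻¹ * t))
    (a2 : ∀ t, m * sx T F r₂ t * m⁻¹ = sx T F r₃ (μ₂ * t))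
    (b2 : ∀ t, m * sx T F (T.neg r₂) t * m⁻¹ = sx T F (T.neg r₃) (μ₂⁻¹ * t))
    (a3 : ∀ t, m * sx T F r₃ t * m⁻¹ = sx T F r₁ (μ₃ * t))
    (b3 : ∀ t, m * sx T F (T.neg r₃) t * m⁻¹ = sx T F (T.neg r₁) (μ₃⁻¹ * t))
    (σ : F →+* F) {u₀ a ω : F} (hu : u₀ ≠ 0) (hσu : σ u₀ = u₀) (ha : a ≠ 0)
    (hω : σ (σ (σ ω)) + ω = 1)
    (heq : σ μ₁ * σ (σ μ₂) * σ (σ (σ μ₃)) * σ (σ (σ (σ (σ (σ a))))) = -a) :
    ∃ k, stMap T σ k * m * k⁻¹ = sn T F r₁ u₀ * m := by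
  have hg := g.toGood
  set b := σ (σ (σ a)) with hb'
  have hb : b ≠ 0 := by simpa [hb'] using ha
  set U := b / (u₀ * a)
  set P := -(u₀ * ω) / (a * b)
  set u3 := μ₃ * U
  set p3 := μ₃⁻¹ * P
  set u2 := μ₂ * σ u3
  set p2 := μ₂⁻¹ * σ p3
  set u1 := μ₁ * σ u2
  set p1 := μ₁⁻¹ * σ p2
  set k₁ := cell T F r₁ u1 (σ (σ a)) p1
  set k₂ := cell T F r₂ u2 (σ a) p2
  set k₃ := cell T F r₃ u3 a p3
  have e3 : stMap T σ k₃ = m * k₂ * m⁻¹ := by
    simp only [k₂, k₃, stMap_cell hg, conj_cell hg h₃ n₂ a2 b2 _ (by simpa using ha : σ a ≠ 0)]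
    simp [u2, p2, n₂]
  have e2 : stMap T σ k₂ = m * k₁ * m⁻¹ := by
    simp only [k₁, k₂, stMap_cell hg, conj_cell hg h₂ n₁ a1 b1 _ (by simpa using ha : σ (σ a) ≠ 0)]
    simp [u1, p1, n₁]
  have hl : σ μ₁ * σ (σ μ₂) * σ (σ (σ μ₃)) ≠ 0 := by simp [n₁, n₂, n₃]
  set ν := σ μ₁ * σ (σ μ₂) * σ (σ (σ μ₃)) with hν
  have hb3 : σ (σ (σ b)) ≠ 0 := by simpa using hb
  have e1 : stMap T σ k₁ = sn T F r₁ u₀ * (m * k₃ * m⁻¹) := by
    simp only [k₁, k₃, conj_cell hg h₁ n₃ a3 b3 _ ha, stMap_cell hg]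
    rw [show μ₃⁻¹ * u3 = b / (u₀ * a) by simp [u3, U, n₃], show μ₃ * p3 = P by simp [p3, n₃],
      sn_mul_cell g h₁ P hu ha hb]
    have e5 : ν * σ (σ (σ b)) = -a := by rw [hν, hb']; exact heq
    congr 1
    · simp only [u1, u2, u3, U, map_mul, map_div₀, hσu]
      rw [← hb', show σ μ₁ * (σ (σ μ₂) * (σ (σ (σ μ₃)) * (σ (σ (σ b)) / (u₀ * b)))) =
        ν * σ (σ (σ b)) / (u₀ * b) by rw [hν]; ring, e5]
    · simp only [p1, p2, p3, P, map_mul, map_inv₀, map_div₀, map_neg, hσu]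
      rw [← hb', show (σ μ₁)⁻¹ * ((σ (σ μ₂))⁻¹ * ((σ (σ (σ μ₃)))⁻¹ *
        (-(u₀ * σ (σ (σ ω))) / (b * σ (σ (σ b)))))) = -(u₀ * σ (σ (σ ω))) / (b * (ν * σ (σ (σ b))))
          by rw [hν]; field_simp, e5]
      field_simp
      linear_combination hω
  refine ⟨k₁ * k₂ * k₃, ?_⟩
  have c12 : Commute k₁ k₂ := commute_cell hg h₁ h₂ o12 ..
  have c13 : Commute k₁ k₃ := commute_cell hg h₁ h₃ o13 ..
  have c23 : Commute k₂ k₃ := commute_cell hg h₂ h₃ o23 ..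
  have d1 : Commute (m * k₃ * m⁻¹) (m * k₁ * m⁻¹) := (Commute.conj_iff m).2 c13.symm
  have d2 : Commute (m * k₃ * m⁻¹) (m * k₂ * m⁻¹) := (Commute.conj_iff m).2 c23.symm
  have d3 : m * k₁ * k₂ * k₃ * m⁻¹ = m * k₃ * m⁻¹ * (m * k₁ * m⁻¹) * (m * k₂ * m⁻¹) := by
    rw [(c13.symm.mul_right c23.symm).symm.eq |> fun e => show m * k₁ * k₂ * k₃ * m⁻¹ =
      m * (k₁ * k₂ * k₃) * m⁻¹ by group, (c13.mul_left c23).eq]
    group
  rw [map_mul, map_mul, e1, e2, e3,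
    show sn T F r₁ u₀ * (m * k₃ * m⁻¹) * (m * k₁ * m⁻¹) * (m * k₂ * m⁻¹) =
      sn T F r₁ u₀ * (m * k₃ * m⁻¹ * (m * k₁ * m⁻¹) * (m * k₂ * m⁻¹)) by group, ← d3]
  group

end Cfsg.Agent.CoxTorus
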