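import Cfsg.Agent.Lib.CoxTorus.LangTorus
import Cfsg.Agent.Lib.CoxTorus.Lang6
import Cfsg.Agent.Lib.CoxTorus.SL2
import Cfsg.Agent.Lib.CoxTorus.E7Regular

/-! The torus of order `Φ₁₂(q) (q³ + 1) / gcd (2, q - 1)` in type E7. -/

set_option autoImplicit false
set_option maxRecDepth 20000

namespace Cfsg.Agent.CoxTorus

open Cfsg.Lie Cfsg.Agent.Chev Cfsg.Agent.Chev.Tab Cfsg.Agent.ChevAut Matrix Polynomial

/-- A reflection word realised by `n_s(±1)`. -/
theorem exists_reflection_sn {T : Tab} {K : List (List ℕ)} {W : List (ℕ × ℕ × ℕ)} (g : T.GoodW K W)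
    {M : List (List ℤ)} (hM : HasDual T M) {G : Matrix (Fin T.l) (Fin T.l) ℤ} {dd : ℤ} (hG : Form T G dd)
    {F : Type*} [Field F] {s : ℕ} (hs : s < T.n) :
    ∃ S, T.Wd S ∧ (∀ x, dd • (wmat T S *ᵥ x) = dd • x - (avec T s ⬝ᵥ (G *ᵥ x)) • avec T s) ∧
      ∃ (u : F) (d : ℕ → Fˣ), (u = 1 ∨ u = -1) ∧ sn T F s u = sW T F S * hT g F d := by
  have g' := g.toGood
  refine root_induction g' (P := fun s => ∃ S, T.Wd S ∧
    (∀ x, dd • (wmat T S *ᵥ x) = dd • x - (avec T s ⬝ᵥ (G *ᵥ x)) • avec T s) ∧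
      ∃ (u : F) (d : ℕ → Fˣ), (u = 1 ∨ u = -1) ∧ sn T F s u = sW T F S * hT g F d) ?_ ?_ s hs
  · intro i hi
    refine ⟨[i], by simp [Wd, hi], fun x => ?_, 1, 1, Or.inl rfl, by simp [sW]⟩
    rw [wmat_cons, wmat_nil, mul_one, hG.simple_dot x ⟨i, hi⟩, mul_smul, ← smul_sub]
    congr 1
    funext a
    simp only [mulVec, dotProduct, rmat, Matrix.of_apply, sub_mul, ite_mul, one_mul, zero_mul,
      Finset.sum_sub_distrib, Finset.sum_ite_eq, Finset.mem_univ, if_true, Pi.sub_apply, Pi.smul_apply,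
      smul_eq_mul]
    rw [Finset.sum_eq_single (⟨i, hi⟩ : Fin T.l)]
    · simp [avec, mul_comm]
    · intro b _ hb
      rw [if_neg fun e => hb (Fin.ext e)]
    · simp
  · rintro i hi t ht ⟨S, hS, hSx, u, d, hu, hsn⟩
    have hiW : T.Wd [i] := by simp [Wd, hi]
    refine ⟨[i] ++ S ++ [i], Wd.append_iff.2 ⟨Wd.append_iff.2 ⟨hiW, hS⟩, hiW⟩, fun x => ?_, ?_⟩
    · have hR : ∀ y, rmat T i *ᵥ (rmat T i *ᵥ y) = y := fun y => by
        have h := wmat_reverse_mul g' hM hiW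
        simp only [List.reverse_singleton, wmat_cons, wmat_nil, mul_one] at h
        rw [mulVec_mulVec, h, one_mulVec]
      have e : avec T (T.ref i t) ⬝ᵥ (G *ᵥ x) = avec T t ⬝ᵥ (G *ᵥ (rmat T i *ᵥ x)) := by
        have h := hG.invariant hiW (avec T t) (rmat T i *ᵥ x)
        rw [wmat_cons, wmat_nil, mul_one, rmat_avec g' hi ht, hR] at h
        exact h
      simp only [wmat_append, wmat_cons, wmat_nil, mul_one, ← mulVec_mulVec]
      rw [← mulVec_smul, hSx, mulVec_sub, mulVec_smul, mulVec_smul, hR, rmat_avec g' hi ht, e]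
    · obtain ⟨ε, hε, hc⟩ := sW_conj_pair (F := F) g hiW ht
      have h1 := sW_conj_sn g hiW hε hc u
      have hinv : (sW T F [i])⁻¹ = hT g F (Pi.mulSingle i (-1)) * sW T F [i] := by
        rw [hT_single g hi, sW, List.map_singleton, List.prod_singleton, sn_inv_one g' (g'.smp_lt hi), hb,
          Units.val_neg, Units.val_one]
      obtain ⟨d', hd'⟩ := sW_hT_comm (F := F) g hiW (d * Pi.mulSingle i (-1))
      rw [rw'_cons, rw'_nil] at h1
      refine ⟨ε * u, d', ?_, ?_⟩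
      · rcases mul_self_eq_one_iff.1 hε with e | e <;> rcases hu with e' | e' <;> simp [e, e']
      · rw [← h1, hsn, hinv, sW_append, sW_append, mul_assoc _ (sW T F [i]), ← hd', map_mul]
        group

theorem exists_pow_eq {A : Type*} [CommGroup A] [Finite A] [IsCyclic A] {m k : ℕ} (hA : Nat.card A = m * k)
    {x : A} (hx : x ^ k = 1) : ∃ a, a ^ m = x := by
  obtain ⟨z, hz⟩ := IsCyclic.exists_ofOrder_eq_natCard (α := A)
  have hgen : x ∈ Subgroup.zpowers z := by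
    rw [show Subgroup.zpowers z = ⊤ from Subgroup.eq_top_of_card_eq _ (by rw [Nat.card_zpowers, hz])]
    trivial
  obtain ⟨i, rfl⟩ := Subgroup.mem_zpowers_iff.1 hgen
  have hk : 0 < k := Nat.pos_of_ne_zero fun h => by
    have := Nat.card_pos (α := A); rw [hA, h, mul_zero] at this; exact lt_irrefl 0 this
  rw [← zpow_natCast, ← _root_.zpow_mul, ← orderOf_dvd_iff_zpow_eq_one, hz, hA, Nat.cast_mul] at hx
  obtain ⟨j, hj⟩ := Int.dvd_of_mul_dvd_mul_right (by exact_mod_cast hk.ne') hx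
  exact ⟨z ^ j, by rw [← zpow_natCast, ← _root_.zpow_mul, hj, mul_comm]⟩

theorem geom_dvd (x k : ℕ) (h : x - 1 ∣ k) (hx : 1 ≤ x) : x - 1 ∣ ∑ i ∈ Finset.range k, x ^ i := by
  have e : ∑ i ∈ Finset.range k, x ^ i = (∑ i ∈ Finset.range k, (x ^ i - 1)) + k := by
    have e1 : ∑ i ∈ Finset.range k, (x ^ i - 1 + 1) = ∑ i ∈ Finset.range k, x ^ i :=
      Finset.sum_congr rfl fun i _ => Nat.sub_add_cancel (Nat.one_le_pow _ _ (by omega))
    rw [Finset.sum_add_distrib] at e1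
    simpa using e1.symm
  rw [e]
  exact Nat.dvd_add (Finset.dvd_sum fun i _ => by simpa using Nat.sub_dvd_pow_sub_pow x 1 i) h

namespace E7

local notation "T7" => E7Data.tab
local notation "T6" => E6Data.tab

theorem sevenPoly_monic : sevenPoly.Monic := by unfold sevenPoly; monicity!

theorem sevenPoly_natDegree : sevenPoly.natDegree = 7 := by
  rw [show sevenPoly = X ^ 7 - X ^ 5 + X ^ 4 + X ^ 3 - X ^ 2 + 1 by rw [sevenPoly]; ring]
  compute_degree!

theorem orth_of_dot {r s : ℕ} (hr : r < (T7).n) (hs : s < (T7).n)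
    (h : avec T7 r ⬝ᵥ (gram *ᵥ avec T7 s) = 0) : Orth T7 r s := by
  have key : ∀ r < (T7).n, ∀ s < (T7).n, avec T7 r ⬝ᵥ (gram *ᵥ avec T7 s) = 0 →
      s ≠ r ∧ s ≠ (T7).neg r ∧ (T7).cTerms r s = [] := by
    intro r hr s hs h
    have e : sumBelow (fun j => (T7).c r j * (T7).A j s) (T7).l = 0 := by
      rw [dotProduct_mulVec, dotProduct, Finset.sum_congr rfl (fun b _ => by
        rw [sub_eq_zero.1 (vecMul_avec r hr b)])] at h
      rw [sumBelow_eq_sum, Finset.sum_range]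
      simp only [mul_assoc, ← Finset.mul_sum] at h
      exact (mul_eq_zero.1 h).resolve_left (by norm_num)
    obtain ⟨a, b, c⟩ := orth_terms r hr s hs e
    exact ⟨a, b, List.length_eq_zero_iff.1 c⟩
  have hneg : ∀ {u : ℕ}, u < (T7).n → avec T7 ((T7).neg u) = -avec T7 u := fun hu => by
    funext j
    exact ((gW.toGood.sign' hu).1 j j.2).2.2.2
  intro a ha b hb
  simp only [List.mem_cons, List.not_mem_nil, or_false] at ha hb
  rcases ha with rfl | rfl <;> rcases hb with rfl | rfl <;>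
    refine key _ (by first | exact hr | exact Tab.neg_lt hr) _ (by first | exact hs | exact Tab.neg_lt hs) ?_
  all_goals simp [hneg hr, hneg hs, mulVec_neg, dotProduct_neg, neg_dotProduct, h]

theorem main {F : Type*} [Field F] [Fintype F] (q : ℕ) (hF : Fintype.card F = q) :
    ∃ H : Subgroup ↥(chevE7.group F), IsCyclic ↥H ∧
      Nat.card ↥H = (q ^ 4 - q ^ 2 + 1) * (q ^ 3 + 1) / Nat.gcd 2 (q - 1) ∧
      Subgroup.centralizer (H : Set ↥(chevE7.group F)) = H := by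
  classical
  have hqp : IsPrimePow q := hF ▸ FiniteField.isPrimePow_card F
  have hq : 2 ≤ q := hqp.one_lt
  obtain ⟨E, _, _, φ, σ, L, ht, t, hcE, hσ, hL, hlang, hchar, y, hy0, hy⟩ := E6.exists_lang hF
  have g6 := E6.gW
  have g7 := gW
  have g := g7.toGood
  set R := L.reverse with hR
  have hRW : (T6).Wd R := hL.reverse
  obtain ⟨r₁, r₂, r₃, tr⟩ := exists_triple hRW hchar hy0 hy
  -- the larger field
  obtain ⟨p, hp⟩ := CharP.exists F
  haveI : Fact p.Prime := ⟨CharP.char_is_prime F p⟩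
  haveI : CharP E p := charP_of_injective_ringHom φ.injective p
  haveI : Finite E := Finite.of_fintype E
  set k := q ^ 12 - 1 with hk
  have hq12 : 2 ≤ q ^ 12 := le_trans hq (Nat.le_self_pow (by norm_num) q)
  haveI : NeZero k := ⟨by omega⟩
  let E' := FiniteField.Extension E p k
  haveI : Fintype E' := Fintype.ofFinite E'
  have hcE' : Fintype.card E' = (q ^ 12) ^ k := by
    rw [← Nat.card_eq_fintype_card, FiniteField.natCard_extension, Nat.card_eq_fintype_card, hcE]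
  obtain ⟨τ, hτ⟩ := TwField.exists_powHom (K := E') hqp (show Fintype.card E' = q ^ (12 * k) by
    rw [hcE', ← pow_mul])
  let ψ : E →+* E' := algebraMap E E'
  have hψσ : ψ.comp σ = τ.comp ψ := RingHom.ext fun x => by simp [hσ, hτ]
  have hcard' : Nat.card E'ˣ = (q ^ 6 - 1) * ((q ^ 6 + 1) * ∑ i ∈ Finset.range k, (q ^ 12) ^ i) := by
    rw [Nat.card_units, Nat.card_eq_fintype_card, hcE', ← mul_assoc,
      show (q ^ 6 - 1) * (q ^ 6 + 1) = q ^ 12 - 1 by
        rw [mul_comm, ← Nat.sq_sub_sq, one_pow, ← pow_mul], mul_comm,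
      geom_sum_mul_of_one_le (Nat.one_le_pow _ _ (by omega))]
  have hkd : q ^ 12 - 1 ∣ ∑ i ∈ Finset.range k, (q ^ 12) ^ i := geom_dvd _ _ dvd_rfl (by omega)
  have h12card : q ^ 12 - 1 ∣ Nat.card E'ˣ := by
    rw [hcard', ← mul_assoc]; exact dvd_mul_of_dvd_right hkd _
  -- the element of E7
  let Ψ := subHom T6 T7 E' g6.toGood g subOK
  set ht7 := Ψ (stMap T6 ψ ht) with hht7
  set m := stMap T7 τ ht7 * ht7⁻¹ with hm
  set t7 : ℕ → E'ˣ := fun j => if j < (T6).l then Units.map ψ.toMonoidHom (t j) else 1 with ht7def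
  have hL7 : (T7).Wd L := wd7 hL
  have hm' : m = sW T7 E' L * hT g7 E' t7 := by
    rw [hm, hht7, ← subHom_stMap g6.toGood g subOK τ, stMap_comp g6.toGood, ← hψσ,
      ← stMap_comp g6.toGood, ← map_inv, ← map_mul, ← map_inv, ← map_mul, hlang, map_mul, map_mul,
      stMap_sW g6.toGood, subHom_sW g6.toGood g subOK hL, stMap_hT g6, subHom_hT (gU := g7) subOK]
  -- its action on the three roots
  have hinv : wmat T7 L * wmat T7 R = 1 := by
    have := wmat_reverse_mul g hasDual (wd7 hRW)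
    rwa [hR, List.reverse_reverse] at this
  have hnext : ∀ {a b : ℕ}, a < (T7).n → b < (T7).n → wmat T7 R *ᵥ avec T7 b = avec T7 a →
      (T7).rw' L a = b := fun {a b} ha hb e => avec_inj (rw'_lt g hL7 ha) hb (by
        rw [← wmat_avec g hL7 ha, ← e, mulVec_mulVec, hinv, one_mulVec])
  have hconj : ∀ {a b : ℕ}, a < (T7).n → b < (T7).n → wmat T7 R *ᵥ avec T7 b = avec T7 a →
      ∃ μ : Eˣ, (∀ u, m * sx T7 E' a u * m⁻¹ = sx T7 E' b (ψ μ * u)) ∧
        ∀ u, m * sx T7 E' ((T7).neg a) u * m⁻¹ = sx T7 E' ((T7).neg b) ((ψ μ)⁻¹ * u) := by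
    intro a b ha hb e
    obtain ⟨ε, hε, hc⟩ := sW_conj_pair (F := E') g7 hL7 ha
    rw [hnext ha hb e] at hc
    have hinvε : ε⁻¹ = ε := inv_eq_of_mul_eq_one_right hε
    obtain ⟨μ₁, hμ₁⟩ : ∃ μ₁ : Eˣ, ψ μ₁ = ε := by
      rcases mul_self_eq_one_iff.1 hε with h | h
      · exact ⟨1, by rw [h, Units.val_one, map_one]⟩
      · exact ⟨-1, by rw [h, Units.val_neg, Units.val_one, map_neg, map_one]⟩
    obtain ⟨μ₂, hμ₂⟩ : ∃ μ₂ : Eˣ, ψ μ₂ = (wt T7 E' t7 a : E') := by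
      refine ⟨wt T7 E (fun j => if j < (T6).l then t j else 1) a, ?_⟩
      show ((Units.map ψ.toMonoidHom _ : E'ˣ) : E') = _
      congr 1
      simp only [wt, map_prod, map_zpow]
      refine Finset.prod_congr rfl fun j _ => ?_
      congr 1
      simp only [ht7def]
      split_ifs <;> simp
    refine ⟨μ₁ * μ₂, fun u => ?_, fun u => ?_⟩
    · rw [hm', show ∀ x y z : (T7).D.SteinbergGroup E', x * y * z * (x * y)⁻¹ = x * (y * z * y⁻¹) * x⁻¹
        from fun x y z => by group, hT_conj_sx g7 _ ha, (hc _).1, Units.val_mul, map_mul, hμ₁, hμ₂,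
        mul_assoc]
    · rw [hm', show ∀ x y z : (T7).D.SteinbergGroup E', x * y * z * (x * y)⁻¹ = x * (y * z * y⁻¹) * x⁻¹
        from fun x y z => by group, hT_conj_sx g7 _ (Tab.neg_lt ha), wt_neg g ha, (hc _).2, Units.val_mul,
        map_mul, hμ₁, hμ₂, mul_inv, hinvε, Units.val_inv_eq_inv_val, mul_assoc]
  obtain ⟨μ₁, a1, b1⟩ := hconj tr.lt1 tr.lt2 tr.e2
  obtain ⟨μ₂, a2, b2⟩ := hconj tr.lt2 tr.lt3 tr.e3
  obtain ⟨μ₃, a3, b3⟩ := hconj tr.lt3 tr.lt1 tr.e1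
  obtain ⟨S₀, hS₀, hS₀r, u₀, d, hu₀, hsn⟩ :=
    exists_reflection_sn (F := E') g7 hasDual form tr.lt1
  -- the constants
  set ν : Eˣ := Units.map σ.toMonoidHom μ₁ * Units.map σ.toMonoidHom (Units.map σ.toMonoidHom μ₂) *
    Units.map σ.toMonoidHom (Units.map σ.toMonoidHom (Units.map σ.toMonoidHom μ₃)) with hν
  obtain ⟨a, ha⟩ : ∃ a : E'ˣ, a ^ (q ^ 6 - 1) = Units.map ψ.toMonoidHom (-ν⁻¹) := by
    refine exists_pow_eq hcard' ?_
    rw [mul_comm, pow_mul]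
    obtain ⟨c, hc⟩ := hkd
    have h1 : (-ν⁻¹) ^ (q ^ 12 - 1) = 1 := by
      rw [← hcE]
      refine Units.ext ?_
      rw [Units.val_pow_eq_pow_val, Units.val_one]
      exact FiniteField.pow_card_sub_one_eq_one _ (Units.ne_zero _)
    rw [hc, pow_mul, ← map_pow, h1, map_one, one_pow, one_pow]
  have hq6 : 1 ≤ q ^ 6 := Nat.one_le_pow _ _ (by omega)
  have hτ6 : ∀ x : E', τ (τ (τ (τ (τ (τ x))))) = x ^ q ^ 6 := fun x => by
    simp only [hτ, ← pow_mul]; congr 1; ring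
  have hτ3 : ∀ x : E', τ (τ (τ x)) = x ^ q ^ 3 := fun x => by
    simp only [hτ, ← pow_mul]; congr 1; ring
  have heq : τ (ψ μ₁) * τ (τ (ψ μ₂)) * τ (τ (τ (ψ μ₃))) * τ (τ (τ (τ (τ (τ (a : E')))))) = -(a : E') := by
    have hcomp : ∀ x, τ (ψ x) = ψ (σ x) := fun x => (DFunLike.congr_fun hψσ x).symm
    have h1 : ((a : E') ^ (q ^ 6 - 1)) = ψ (-((ν : E)⁻¹)) := by
      have := congrArg Units.val ha
      simpa using this
    rw [hτ6, show q ^ 6 = q ^ 6 - 1 + 1 by omega, pow_succ, h1]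
    simp only [hcomp]
    rw [← map_mul, ← map_mul, ← mul_assoc, ← map_mul,
      show σ (μ₁ : E) * σ (σ (μ₂ : E)) * σ (σ (σ (μ₃ : E))) = (ν : E) by simp [hν],
      mul_neg, mul_inv_cancel₀ ν.ne_zero, map_neg, map_one, neg_one_mul]
  obtain ⟨ω, hω⟩ : ∃ ω : E', τ (τ (τ ω)) + ω = 1 := by
    obtain ⟨z₀, hz₀⟩ := IsCyclic.exists_ofOrder_eq_natCard (α := E'ˣ)
    set z := z₀ ^ (Nat.card E'ˣ / (q ^ 6 - 1)) with hz
    have hdvd : q ^ 6 - 1 ∣ Nat.card E'ˣ := hcard' ▸ dvd_mul_right _ _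
    have h6 : 2 ≤ q ^ 6 := le_trans hq (Nat.le_self_pow (by norm_num) q)
    have hoz : orderOf z = q ^ 6 - 1 := by
      rw [hz, orderOf_pow_of_dvd (Nat.div_pos (Nat.le_of_dvd Nat.card_pos hdvd) (by omega)).ne'
        (by rw [hz₀]; exact Nat.div_dvd_of_dvd hdvd), hz₀, Nat.div_div_self hdvd Nat.card_pos.ne']
    set s := τ (τ (τ (z : E'))) + z with hs
    have hz6 : τ (τ (τ (τ (τ (τ (z : E')))))) = z := by
      have := congrArg Units.val (pow_orderOf_eq_one z)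
      rw [hoz, Units.val_pow_eq_pow_val, Units.val_one] at this
      rw [hτ6, show q ^ 6 = q ^ 6 - 1 + 1 by omega, pow_succ, this, one_mul]
    have hs0 : s ≠ 0 := fun h0 => by
      rw [hs, hτ3, add_eq_zero_iff_eq_neg] at h0
      have h3 : 1 ≤ q ^ 3 := Nat.one_le_pow _ _ (by omega)
      have e : z ^ (2 * (q ^ 3 - 1)) = 1 := by
        refine Units.ext (mul_right_cancel₀ (pow_ne_zero 2 (Units.ne_zero z)) ?_)
        rw [Units.val_one, one_mul, Units.val_pow_eq_pow_val, ← pow_add,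
          show 2 * (q ^ 3 - 1) + 2 = q ^ 3 * 2 by omega, pow_mul, h0, neg_sq]
      have h1 := orderOf_dvd_of_pow_eq_one e
      rw [hoz, show q ^ 6 - 1 = (q ^ 3 + 1) * (q ^ 3 - 1) by
        rw [← Nat.sq_sub_sq, one_pow, ← pow_mul]] at h1
      have h8 : 2 ^ 3 ≤ q ^ 3 := Nat.pow_le_pow_left hq 3
      have := Nat.le_of_dvd (by norm_num) (Nat.dvd_of_mul_dvd_mul_right (by omega) h1)
      omega
    refine ⟨(z : E') / s, ?_⟩
    have hfix : τ (τ (τ s)) = s := by rw [hs, map_add, map_add, map_add, hz6, add_comm]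
    rw [map_div₀, map_div₀, map_div₀, hfix, ← add_div, ← hs, div_self hs0]
  have hu0 : u₀ ≠ 0 := by rcases hu₀ with rfl | rfl <;> simp
  obtain ⟨kk, hkk⟩ := lang_step g7 tr.lt1 tr.lt2 tr.lt3 (orth_of_dot tr.lt1 tr.lt2 tr.o12)
    (orth_of_dot tr.lt1 tr.lt3 tr.o13) (orth_of_dot tr.lt2 tr.lt3 tr.o23)
    (m := m) ((map_ne_zero ψ).2 μ₁.ne_zero) ((map_ne_zero ψ).2 μ₂.ne_zero)
    ((map_ne_zero ψ).2 μ₃.ne_zero) a1 b1 a2 b2 a3 b3 τ hu0
    (by rcases hu₀ with rfl | rfl <;> simp) (Units.ne_zero a) hω heq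
  obtain ⟨d', hd'⟩ := sW_hT_comm (F := E') g7 hL7 d
  have hlang7 : stMap T7 τ (kk * ht7) * (kk * ht7)⁻¹ = sW T7 E' (S₀ ++ L) * hT g7 E' (d' * t7) := by
    calc stMap T7 τ (kk * ht7) * (kk * ht7)⁻¹ = stMap T7 τ kk * m * kk⁻¹ := by rw [map_mul, hm]; group
      _ = sn T7 E' r₁ u₀ * m := hkk
      _ = sW T7 E' S₀ * (hT g7 E' d * sW T7 E' L) * hT g7 E' t7 := by rw [hsn, hm']; group
      _ = _ := by rw [hd', sW_append, map_mul]; group
  -- the reflection
  have hS : (T7).Wd S₀.reverse := hS₀.reverse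
  have hrefl : ∀ x, (2 : ℤ) • (wmat T7 S₀.reverse *ᵥ x) =
      (2 : ℤ) • x - (avec T7 r₁ ⬝ᵥ (gram *ᵥ x)) • avec T7 r₁ := fun x => by
    conv_lhs => rw [← refl_refl tr hS₀r x, mulVec_mulVec, wmat_reverse_mul g hasDual hS₀, one_mulVec]
    exact hS₀r x
  obtain ⟨x, hx⟩ := exists_unit hRW hchar hy0 hy tr hS hrefl
  -- the prime
  obtain ⟨r, hr, hrd, hprim⟩ := LEZsig.zsigmondy q 12 (by omega) (by omega)
    (fun h => by simp at h) (fun h => by omega)
  haveI : Fact r.Prime := ⟨hr⟩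
  have hr6 : ¬ r ∣ q ^ 6 - 1 := hprim 6 (by norm_num) (by norm_num)
  have hq24 : q ^ 2 ≤ q ^ 4 := Nat.pow_le_pow_right (by omega) (by norm_num)
  have hfac : (q ^ 6 + 1) = (q ^ 2 + 1) * (q ^ 4 - q ^ 2 + 1) := by
    zify [hq24]; ring
  have hrΦ : r ∣ q ^ 4 - q ^ 2 + 1 := by
    rw [show q ^ 12 - 1 = (q ^ 6 + 1) * (q ^ 6 - 1) by rw [← Nat.sq_sub_sq, one_pow, ← pow_mul], hfac] at hrd
    rcases (hr.dvd_mul.1 hrd) with h | h
    · rcases hr.dvd_mul.1 h with h | h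
      · refine absurd (h.trans ?_) (hprim 4 (by norm_num) (by norm_num))
        exact ⟨q ^ 2 - 1, by rw [← Nat.sq_sub_sq, one_pow, ← pow_mul]⟩
      · exact h
    · exact absurd h hr6
  have h12 : 12 < r := by
    have hrq : ¬ r ∣ q := fun h => hr.one_lt.ne' <| Nat.dvd_one.1 <| by
      have h1 := Nat.dvd_sub (dvd_pow h (by norm_num : (12 : ℕ) ≠ 0)) hrd
      rwa [Nat.sub_sub_self (by omega)] at h1
    have hcast : ∀ j, (r ∣ q ^ j - 1 ↔ ((q : ℕ) : ZMod r) ^ j = 1) := fun j => by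
      rw [← ZMod.natCast_eq_zero_iff, Nat.cast_sub (Nat.one_le_pow _ _ (by omega)), Nat.cast_pow,
        Nat.cast_one, sub_eq_zero]
    have hroot : IsPrimitiveRoot ((q : ℕ) : ZMod r) 12 := (IsPrimitiveRoot.iff (by omega)).2
      ⟨(hcast 12).1 hrd, fun j hj hjd h => hprim j hj hjd ((hcast j).2 h)⟩
    have h1 : 12 ∣ r - 1 := hroot.dvd_of_pow_eq_one _ (ZMod.pow_card_sub_one_eq_one (by
      rwa [Ne, ZMod.natCast_eq_zero_iff]))
    have := Nat.le_of_dvd (by have := hr.two_le; omega) h1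
    omega
  have hN : (q ^ 4 - q ^ 2 + 1) * (q ^ 3 + 1) ∣ Nat.card E'ˣ := by
    refine Dvd.dvd.trans ?_ h12card
    refine ⟨(q ^ 2 + 1) * (q ^ 3 - 1), ?_⟩
    have h3 : 1 ≤ q ^ 3 := Nat.one_le_pow _ _ (by omega)
    zify [hq24, h3, (by omega : 1 ≤ q ^ 12)]
    ring
  have hrev : (S₀ ++ L).reverse = R ++ S₀.reverse := by rw [hR, List.reverse_append]
  refine exists_torus_of_lang (T := E7Data.tab) g7 e7_data.big e7_data.emb E6.dual8OK (dd := 2) (by norm_num)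
    dualOK (z := [0, 1, 0, 0, 1, 0, 1]) glueOK ⟨1, by decide, by decide⟩ hF (ψ.comp φ) hτ
    ((Dvd.dvd.trans ((Nat.sub_dvd_pow_sub_pow q 1 12).trans (by rw [one_pow])) h12card)) hN
    (Wd.append_iff.2 ⟨hS₀, hL7⟩) (ht := kk * ht7) hlang7 sevenPoly_monic
    (by rw [sevenPoly_natDegree]; rfl) (by decide)
    (by rw [hrev]; exact aeval_seven hRW hchar hy0 hy tr hrefl)
    (by rw [sevenPoly]; push_cast [Nat.cast_sub hq24]; simp) (v := x) ?_ fun e he heN => ?_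
  · rw [hrev]
    rcases Int.isUnit_iff.1 hx with e | e <;> rw [e]
    · exact isCoprime_one_left
    · exact isCoprime_one_left.neg_left
  · rw [hrev] at he
    exact regular_gen hRW hchar hy0 hy tr hrefl hq hr h12 hr6 hrΦ he heN

end E7

end Cfsg.Agent.CoxTorus
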