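import Cfsg.Agent.Lib.CoxTorus.SC

/-! A subsystem with the same constants gives a map between the groups of Steinberg's relations. -/

set_option autoImplicit false

namespace Cfsg.Agent.CoxTorus

open Cfsg.Lie Cfsg.Agent.Chev Cfsg.Agent.Chev.Tab

variable {T U : Tab} {e : List ℕ} {K K' : List (List ℕ)} {W W' : List (ℕ × ℕ × ℕ)}

/-- `e` sends the roots of `T` to roots of `U` with the same commutator constants. -/
def checkSub (T U : Tab) (e : List ℕ) : Bool :=
  Nat.ble T.l U.l &&
  allBelow (fun r => Nat.blt (e.getD r 0) U.n && Nat.beq (e.getD (T.neg r) 0) (U.neg (e.getD r 0)) &&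
    allBelow (fun s => Nat.beq s r || Nat.beq s (T.neg r) ||
      (!Nat.beq (e.getD s 0) (e.getD r 0) && !Nat.beq (e.getD s 0) (U.neg (e.getD r 0)) &&
        decide (U.cTerms (e.getD r 0) (e.getD s 0) = (T.cTerms r s).map fun c => (e.getD c.1 0, c.2))))
      T.n) T.n &&
  allBelow (fun i => Nat.beq (e.getD (T.smp i) 0) (U.smp i)) T.l

structure Sub (T U : Tab) (e : List ℕ) : Prop where
  le : T.l ≤ U.l
  lt : ∀ r < T.n, e.getD r 0 < U.n
  neg : ∀ r < T.n, e.getD (T.neg r) 0 = U.neg (e.getD r 0)
  terms : ∀ r < T.n, ∀ s < T.n, s ≠ r → s ≠ T.neg r →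
    e.getD s 0 ≠ e.getD r 0 ∧ e.getD s 0 ≠ U.neg (e.getD r 0) ∧
    U.cTerms (e.getD r 0) (e.getD s 0) = (T.cTerms r s).map fun c => (e.getD c.1 0, c.2)
  smp : ∀ i < T.l, e.getD (T.smp i) 0 = U.smp i

theorem sub_of_check (h : checkSub T U e = true) : Sub T U e := by
  simp only [checkSub, Bool.and_eq_true, allBelow_eq_true, nat_blt, Bool.or_eq_true, nat_beq,
    Bool.not_eq_true', nat_beq_false, decide_eq_true_eq, nat_ble] at h
  obtain ⟨⟨hl, hr⟩, hs⟩ := h
  refine ⟨hl, fun r hr' => (hr r hr').1.1, fun r hr' => (hr r hr').1.2, fun r hr' s hs' h1 h2 => ?_, hs⟩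
  rcases (hr r hr').2 s hs' with (h | h) | h
  · exact absurd h h1
  · exact absurd h h2
  · exact ⟨h.1.1, h.1.2, h.2⟩

variable {F : Type*} [Field F]

theorem exists_subHom (g : T.Good) (gU : U.Good) (h : Sub T U e) :
    ∃ Ψ : T.D.SteinbergGroup F →* U.D.SteinbergGroup F,
      ∀ r < T.n, ∀ t : F, Ψ (sx T F r t) = sx U F (e.getD r 0) t := by
  set f := fun p : Fin T.D.nroots × F => sx U F (e.getD p.1 0) p.2 with hf
  have hX : ∀ r, r < T.n → ∀ t : F, FreeGroup.lift f (T.D.stX r t) = sx U F (e.getD r 0) t :=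
    fun r hr t => by simp [ChevalleyDatum.stX, g.nroots_eq, hr, f]
  have hrel : ∀ x ∈ T.D.steinbergRels F, FreeGroup.lift f x = 1 := by
    rintro x ((⟨r, a, b, hr, rfl⟩ | ⟨r, s, t, u, hr, hs, h1, h2, rfl⟩) | ⟨r, a, b, hr, ha, hb, rfl⟩)
    · rw [g.nroots_eq] at hr
      simp only [map_mul, map_inv, hX r hr, sx_add gU, mul_inv_cancel]
    · rw [g.nroots_eq] at hr hs
      rw [g.neg_eq hr] at h2
      obtain ⟨n1, n2, hterms⟩ := h.terms r hr s hs h1 h2
      have hW : FreeGroup.lift f (T.D.stWord (cVal T F r s t u)) =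
          sWord U F (cVal U F (e.getD r 0) (e.getD s 0) t u) := by
        rw [ChevalleyDatum.stWord, map_list_prod, cVal, cVal, hterms, sWord]
        simp only [List.map_map]
        refine congrArg List.prod (List.map_congr_left fun c hc => ?_)
        simp only [Function.comp_apply, hX _ (cTerms_mem g hr hs hc).1]
      simp only [map_mul, map_inv, hX r hr, hX s hs, commWord_eq g hr hs, hW]
      rw [mul_inv_eq_one]
      have := sx_comm gU (h.lt r hr) (h.lt s hs) n1 n2 t u
      rw [mul_assoc ((sx U F _ u)⁻¹ * _), this]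
      group
    · rw [g.nroots_eq] at hr
      have hH : ∀ c : F, FreeGroup.lift f (T.D.stH r c) = sh U F (e.getD r 0) c := by
        intro c
        have hn := h.neg r hr
        simp only [List.getD_eq_getElem?_getD] at hn
        rw [ChevalleyDatum.stH, ChevalleyDatum.stWord, map_list_prod]
        simp [ChevalleyDatum.hWord, ChevalleyDatum.nWord, g.neg_eq hr, sh, sn,
          hX r hr, hX _ (neg_lt hr), hn, mul_assoc]
      simp only [map_mul, map_inv, hH, sh_mul gU (h.lt r hr) ha hb, mul_inv_cancel]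
  refine ⟨PresentedGroup.toGroup hrel, fun r hr t => ?_⟩
  rw [sx, ChevalleyDatum.stGen, ChevalleyDatum.stX, dif_pos (by rw [g.nroots_eq]; exact hr)]
  exact PresentedGroup.toGroup.of _

variable (T U F) in
/-- The map induced by a subsystem. -/
noncomputable def subHom (g : T.Good) (gU : U.Good) (h : Sub T U e) :
    T.D.SteinbergGroup F →* U.D.SteinbergGroup F :=
  (exists_subHom (F := F) g gU h).choose

variable (g : T.Good) (gU : U.Good) (h : Sub T U e)

theorem subHom_sx {r : ℕ} (hr : r < T.n) (t : F) :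
    subHom T U F g gU h (sx T F r t) = sx U F (e.getD r 0) t :=
  (exists_subHom (F := F) g gU h).choose_spec r hr t

theorem subHom_sn {r : ℕ} (hr : r < T.n) (t : F) :
    subHom T U F g gU h (sn T F r t) = sn U F (e.getD r 0) t := by
  simp only [sn, map_mul, subHom_sx g gU h hr, subHom_sx g gU h (neg_lt hr), h.neg r hr]

theorem subHom_sW {L : List ℕ} (hL : T.Wd L) :
    subHom T U F g gU h (sW T F L) = sW U F L := by
  rw [sW, map_list_prod, List.map_map, sW]
  refine congrArg List.prod (List.map_congr_left fun i hi => ?_)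
  simp only [Function.comp_apply, subHom_sn g gU h (g.smp_lt (hL i hi)), h.smp i (hL i hi)]

theorem subHom_stMap {E : Type*} [Field E] (σ : F →+* E) (x : T.D.SteinbergGroup F) :
    subHom T U E g gU h (stMap T σ x) = stMap U σ (subHom T U F g gU h x) := by
  have e' : (subHom T U E g gU h).comp (stMap T σ) = (stMap U σ).comp (subHom T U F g gU h) := by
    refine PresentedGroup.ext fun p => ?_
    have hr : (p.1 : ℕ) < T.n := g.nroots_eq ▸ p.1.isLt
    have hp : (PresentedGroup.of p : T.D.SteinbergGroup F) = sx T F p.1 p.2 := by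
      rw [sx, ChevalleyDatum.stGen, ChevalleyDatum.stX, dif_pos p.1.isLt]; rfl
    rw [MonoidHom.comp_apply, MonoidHom.comp_apply, hp, stMap_sx g, subHom_sx g gU h hr,
      subHom_sx g gU h hr, stMap_sx gU]
  exact DFunLike.congr_fun e' x

theorem subHom_hT {g : T.GoodW K W} {gU : U.GoodW K' W'} (h : Sub T U e) (c : ℕ → Fˣ) :
    subHom T U F g.toGood gU.toGood h (hT g F c) = hT gU F fun j => if j < T.l then c j else 1 := by
  show subHom T U F g.toGood gU.toGood h (hP T F (List.range T.l) c) =
    hP U F (List.range U.l) fun j => if j < T.l then c j else 1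
  obtain ⟨k, hk⟩ := Nat.exists_eq_add_of_le h.le
  rw [hk, List.range_add, hP, hP, List.map_append, List.prod_append, map_list_prod, List.map_map]
  rw [List.prod_eq_one (l := List.map _ (List.map _ _)) (fun x hx => ?_), mul_one]
  · refine congrArg List.prod (List.map_congr_left fun i hi => ?_)
    have hi' := List.mem_range.1 hi
    simp only [Function.comp_apply, hb, sh, map_mul,
      subHom_sn g.toGood gU.toGood h (g.toGood.smp_lt hi'), h.smp i hi', if_pos hi']
  · simp only [List.mem_map, List.mem_range] at hx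
    obtain ⟨_, ⟨a, ha, rfl⟩, rfl⟩ := hx
    rw [if_neg (by omega), hb, Units.val_one, sh_one gU.toGood]

end Cfsg.Agent.CoxTorus
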