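import Cfsg.Agent.Lib.CoxTorus.E6Extra
import Cfsg.Agent.Lib.CoxTorus.Emb
import Cfsg.Agent.Lib.Lie.OrderE7

/-! Tables of type E7 relative to its subsystem of type E6. -/

set_option autoImplicit false
set_option maxRecDepth 20000

namespace Cfsg.Agent.CoxTorus.E7

open Cfsg.Lie Cfsg.Agent.Chev Cfsg.Agent.Chev.Tab Cfsg.Agent.ChevAut Matrix Polynomial

/-- twice the inverse Cartan matrix -/
def dual : List (List ℤ) :=
  [[4, 4, 6, 8, 6, 4, 2], [4, 7, 8, 12, 9, 6, 3], [6, 8, 12, 16, 12, 8, 4], [8, 12, 16, 24, 18, 12, 6],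
   [6, 9, 12, 18, 15, 10, 5], [4, 6, 8, 12, 10, 8, 4], [2, 3, 4, 6, 5, 4, 3]]

/-- the triangular factor -/
def upper : List (List ℤ) :=
  [[2, 2, 3, 4, 3, 2, 1], [0, 3, 2, 4, 3, 2, 1], [0, 0, 5, 4, 3, 2, 1], [0, 0, 0, 4, 3, 2, 1],
   [0, 0, 0, 0, 3, 2, 1], [0, 0, 0, 0, 0, 2, 1], [0, 0, 0, 0, 0, 0, 1]]

/-- the roots of E6 -/
def sub6 : List ℕ := [6, 10, 13, 15, 16, 19, 21, 22, 24, 25, 26, 28, 29, 30, 31, 32, 35, 37, 38, 40, 41, 42, 44, 45, 46, 47, 49, 50, 51, 52, 54, 55, 56, 58, 59, 61, 64, 66, 67, 69, 70, 71, 73, 74, 75, 76, 78, 79, 80, 81, 83, 84, 85, 87, 88, 90, 93, 94, 95, 96, 97, 99, 100, 101, 103, 104, 106, 109, 110, 112, 115, 119]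

theorem gW : E7Data.tab.GoodW
    [[4, 4, 6, 8, 6, 4, 2], [4, 7, 8, 12, 9, 6, 3], [6, 8, 12, 16, 12, 8, 4], [8, 12, 16, 24, 18, 12, 6],
     [6, 9, 12, 18, 15, 10, 5], [4, 6, 8, 12, 10, 8, 4], [2, 3, 4, 6, 5, 4, 3]]
    [(1, 125, 0), (7, 122, 0), (2, 124, 0), (3, 123, 0), (4, 122, 0), (5, 121, 0), (6, 120, 0)] :=
  ⟨⟨⟨E7Data.good, by decide +kernel⟩, by decide +kernel⟩, by decide +kernel⟩

theorem dualOK : checkDual E7Data.tab 2 dual = true := by decide +kernel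

theorem combOK : checkComb E7Data.tab dual = true := by decide +kernel

theorem hasDual : HasDual E7Data.tab dual := ⟨2, by norm_num, dualOK⟩

theorem hl : E7Data.tab.l = 7 := rfl

theorem subOK : Sub E6Data.tab E7Data.tab sub6 := sub_of_check (by decide +kernel)

theorem glueOK : ∀ s < E7Data.tab.n,
    (∑ j ∈ Finset.range E7Data.tab.l, ([0, 1, 0, 0, 1, 0, 1] : List ℤ).getD j 0 * E7Data.tab.A j s) %
      ((2 : ℕ) : ℤ) = 0 := by
  decide +kernel

theorem cardW : Nat.card (wG gW.toGood) = 2903040 := by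
  have h := card_wG gW.toGood E7Data.chainOK
  rw [show ((E7Data.steps.map fun e => evalL (1 : ℤ) (lenPoly e.2)).prod) = (2903040 : ℤ) by
    decide +kernel] at h
  exact_mod_cast h

/-- the scaled form -/
abbrev gram : Matrix (Fin E7Data.tab.l) (Fin E7Data.tab.l) ℤ := lmat E7Data.tab.l dual

theorem upperDet : (∏ i, lmat E7Data.tab.l upper i i) ≠ 0 := by decide +kernel

theorem upperTri : ∀ i j : Fin E7Data.tab.l, j < i → lmat E7Data.tab.l upper i j = 0 := fun i j h =>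
  (if_pos (c := (j : ℕ) < i) h).symm.trans ((show ∀ i j : Fin 7, (if (j : ℕ) < i then
    lmat 7 upper i j else 0) = 0 by decide +kernel) i j)

theorem gramCert : (30 : ℤ) • gram = (lmat E7Data.tab.l upper)ᵀ *
    diagonal (fun i : Fin E7Data.tab.l => ([30, 10, 2, 3, 5, 10, 30] : List ℤ).getD (i : ℕ) 0) *
      lmat E7Data.tab.l upper :=
  Matrix.ext (by decide +kernel)

theorem gram_det : gram.det = 64 := by
  have h := det_of_cert gramCert upperTri
  rw [show ((∏ i, lmat E7Data.tab.l upper i i) ^ 2 * ∏ i : Fin E7Data.tab.l,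
    ([30, 10, 2, 3, 5, 10, 30] : List ℤ).getD (i : ℕ) 0) = (30 : ℤ) ^ 7 * 64 by decide +kernel] at h
  exact mul_left_cancel₀ (pow_ne_zero _ (by norm_num)) h

theorem isoOK : ∀ i : Fin E7Data.tab.l, (rmat E7Data.tab i)ᵀ * gram * rmat E7Data.tab i = gram := fun i =>
  Matrix.ext fun a b =>
    (show ∀ (i a b : Fin E7Data.tab.l),
      ((rmat E7Data.tab i)ᵀ * gram * rmat E7Data.tab i) a b - gram a b = 0 by decide +kernel) i a b
      |> fun h => sub_eq_zero.1 h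

theorem simpleOK (i j : Fin E7Data.tab.l) :
    (avec E7Data.tab (E7Data.tab.smp i) ᵥ* gram) j = if i = j then (2 : ℤ) else 0 :=
  sub_eq_zero.1 ((show ∀ (i j : Fin E7Data.tab.l),
    (avec E7Data.tab (E7Data.tab.smp i) ᵥ* gram) j - (if i = j then (2 : ℤ) else 0) = 0 by
      decide +kernel) i j)

theorem form : Form E7Data.tab gram 2 where
  symm := Matrix.ext fun a b => sub_eq_zero.1
    ((show ∀ a b : Fin E7Data.tab.l, gramᵀ a b - gram a b = 0 by decide +kernel) a b)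
  iso := fun i hi => isoOK ⟨i, hi⟩
  simple := simpleOK
  definite := fun x hx => definite_of_cert gram (lmat _ upper) _ (k := 30) (by decide +kernel) gramCert
    (by rw [det_of_isUpperTriangular fun i j hij => upperTri i j hij]; exact upperDet) x hx
  pos := by norm_num

/-- the projection to the weights of E6 -/
def proj : Matrix (Fin E6Data.tab.l) (Fin E7Data.tab.l) ℤ :=
  Matrix.of fun a b => if (a : ℕ) = b then 1 else 0

/-- the functional orthogonal to E6 -/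
def phi : Fin E7Data.tab.l → ℤ := fun b => ([2, 3, 4, 6, 5, 4, 3] : List ℤ).getD (b : ℕ) 0

/-- twice the coefficient of the last root -/
def lvl (x : Fin E7Data.tab.l → ℤ) : ℤ := phi ⬝ᵥ x

/-- the projection of a vector -/
def pr (x : Fin E7Data.tab.l → ℤ) : Fin E6Data.tab.l → ℤ := proj *ᵥ x

theorem projOK : ∀ i : Fin 6, proj * rmat E7Data.tab i = rmat E6Data.tab i * proj := fun i =>
  Matrix.ext fun a b => sub_eq_zero.1 ((show ∀ i : Fin 6, ∀ a : Fin E6Data.tab.l, ∀ b : Fin E7Data.tab.l,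
    (proj * rmat E7Data.tab i) a b - (rmat E6Data.tab i * proj) a b = 0 by decide +kernel) i a b)

theorem phiOK : ∀ i : Fin 6, phi ᵥ* rmat E7Data.tab i = phi := fun i =>
  funext fun b => sub_eq_zero.1 ((show ∀ i : Fin 6, ∀ b : Fin E7Data.tab.l,
    (phi ᵥ* rmat E7Data.tab i) b - phi b = 0 by decide +kernel) i b)

theorem gram_split : (3 : ℤ) • gram = (2 : ℤ) • (projᵀ * E6.gram * proj) + vecMulVec phi phi :=
  Matrix.ext fun a b => sub_eq_zero.1 ((show ∀ a b : Fin E7Data.tab.l, ((3 : ℤ) • gram) a b -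
    ((2 : ℤ) • (projᵀ * E6.gram * proj) + vecMulVec phi phi) a b = 0 by decide +kernel) a b)

theorem rootOver : ∀ v ∈ E6.weights, ∃ s < E7Data.tab.n,
    (List.ofFn (pr (avec E7Data.tab s))) = v ∧ lvl (avec E7Data.tab s) = 2 := by
  decide +kernel

theorem liftOK : ∀ v ∈ E6.weights, (-1 - ([2, 3, 4, 6, 5, 4].zipWith (· * ·) v).sum) % 3 = (0 : ℤ) := by
  decide +kernel

theorem root_cases : ∀ s < E7Data.tab.n,
    (lvl (avec E7Data.tab s) = 0 ∧ ∃ t < E6Data.tab.n,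
      List.ofFn (pr (avec E7Data.tab s)) = List.ofFn (avec E6Data.tab t)) ∨
    (lvl (avec E7Data.tab s) = 2 ∧ List.ofFn (pr (avec E7Data.tab s)) ∈ E6.weights) ∨
    (lvl (avec E7Data.tab s) = -2 ∧ List.ofFn (-pr (avec E7Data.tab s)) ∈ E6.weights) := by
  decide +kernel

theorem root_norm : ∀ s < E7Data.tab.n, avec E7Data.tab s ⬝ᵥ (gram *ᵥ avec E7Data.tab s) = 4 := by
  decide +kernel

theorem avec_list : ∀ s < E7Data.tab.n, ∀ t < E7Data.tab.n,
    List.ofFn (avec E7Data.tab s) = List.ofFn (avec E7Data.tab t) → s = t := by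
  decide +kernel

theorem avec_inj {s t : ℕ} (hs : s < E7Data.tab.n) (ht : t < E7Data.tab.n)
    (h : avec E7Data.tab s = avec E7Data.tab t) : s = t :=
  avec_list s hs t ht (by rw [h])

theorem vecMul_avec : ∀ r < E7Data.tab.n, ∀ b : Fin E7Data.tab.l,
    (avec E7Data.tab r ᵥ* gram) b - 2 * E7Data.tab.c r b = 0 := by
  decide +kernel

theorem orth_terms : ∀ r < E7Data.tab.n, ∀ s < E7Data.tab.n,
    sumBelow (fun j => E7Data.tab.c r j * E7Data.tab.A j s) E7Data.tab.l = 0 →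
      s ≠ r ∧ s ≠ E7Data.tab.neg r ∧ (E7Data.tab.cTerms r s).length = 0 := by
  decide +kernel

/-- the inner products of the iterates of the chosen vector -/
def gl (g₁ : ℤ) : List ℤ := [3, g₁, 1, -1, -1, -g₁, -1]

/-- the triangular factors -/
def gUp : Bool → List (List ℤ)
  | true => [[3, 1, 1, -1, -1, -1, -1], [0, 4, 1, 2, -1, -1, -1], [0, 0, 5, 2, 3, -1, -1],
      [0, 0, 0, 4, 1, 3, -2], [0, 0, 0, 0, 3, 1, 2], [0, 0, 0, 0, 0, 2, 1], [0, 0, 0, 0, 0, 0, 1]]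
  | false => [[3, -1, 1, -1, -1, 1, -1], [0, 4, -1, 1, -2, -1, 1], [0, 0, 5, -1, 2, -3, -1],
      [0, 0, 0, 6, -2, 3, -4], [0, 0, 0, 0, 2, 0, 1], [0, 0, 0, 0, 0, 1, 0], [0, 0, 0, 0, 0, 0, 1]]

/-- the diagonal factors -/
def gDiag : Bool → List ℤ
  | true => [10, 5, 3, 3, 5, 10, 30]
  | false => [10, 5, 3, 2, 10, 30, 30]

theorem gDet (b : Bool) :
    (Matrix.of fun i j : Fin E7Data.tab.l =>
      (gl (bif b then 1 else -1)).getD ((i : ℕ) - j + ((j : ℕ) - i)) 0).det = 64 := by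
  have hc : (30 : ℤ) • (Matrix.of fun i j : Fin E7Data.tab.l =>
      (gl (bif b then 1 else -1)).getD ((i : ℕ) - j + ((j : ℕ) - i)) 0) = (lmat E7Data.tab.l (gUp b))ᵀ *
        diagonal (fun i : Fin E7Data.tab.l => (gDiag b).getD (i : ℕ) 0) * lmat E7Data.tab.l (gUp b) := by
    cases b <;> exact Matrix.ext (by decide +kernel)
  have ht : ∀ i j : Fin E7Data.tab.l, j < i → lmat E7Data.tab.l (gUp b) i j = 0 := fun i j h =>
    (if_pos (c := (j : ℕ) < i) h).symm.trans ((show ∀ b : Bool, ∀ i j : Fin 7, (if (j : ℕ) < i then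
      lmat 7 (gUp b) i j else 0) = 0 by decide +kernel) b i j)
  have h := det_of_cert hc ht
  rw [show ((∏ i, lmat E7Data.tab.l (gUp b) i i) ^ 2 * ∏ i : Fin E7Data.tab.l,
    (gDiag b).getD (i : ℕ) 0) = (30 : ℤ) ^ 7 * 64 by cases b <;> decide +kernel] at h
  exact mul_left_cancel₀ (pow_ne_zero _ (by norm_num)) h

end Cfsg.Agent.CoxTorus.E7
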