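import Cfsg.Agent.Lib.CoxTorus.E7Data

/-! The element `-X` of `W(E7)` for an element `X` of `W(E6)` with polynomial `Φ₁₂Φ₃`. -/

set_option autoImplicit false
set_option maxRecDepth 20000

namespace Cfsg.Agent.CoxTorus.E7

open Cfsg.Lie Cfsg.Agent.Chev Cfsg.Agent.Chev.Tab Cfsg.Agent.ChevAut Matrix Polynomial

local notation "T7" => E7Data.tab
local notation "T6" => E6Data.tab
local notation "⟪" x ", " y "⟫" => dotProduct x (gram *ᵥ y)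
local notation "⟪" x ", " y "⟫₆" => dotProduct x (E6.gram *ᵥ y)

theorem wd7 {L : List ℕ} (hL : (T6).Wd L) : (T7).Wd L := fun i hi =>
  lt_of_lt_of_le (show i < 6 from hL i hi) (show 6 ≤ 7 by norm_num)

theorem proj_wmat {L : List ℕ} (hL : (T6).Wd L) : proj * wmat T7 L = wmat T6 L * proj := by
  induction L with
  | nil => simp
  | cons i L ih =>
    obtain ⟨hi, hL'⟩ := Wd.cons_iff.1 hL
    rw [wmat_cons, wmat_cons, ← Matrix.mul_assoc, projOK ⟨i, hi⟩, Matrix.mul_assoc, ih hL',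
      Matrix.mul_assoc]

theorem phi_wmat {L : List ℕ} (hL : (T6).Wd L) : phi ᵥ* wmat T7 L = phi := by
  induction L with
  | nil => simp
  | cons i L ih =>
    obtain ⟨hi, hL'⟩ := Wd.cons_iff.1 hL
    rw [wmat_cons, ← vecMul_vecMul, phiOK ⟨i, hi⟩, ih hL']

theorem pr_wmat {L : List ℕ} (hL : (T6).Wd L) (x : Fin (T7).l → ℤ) :
    pr (wmat T7 L *ᵥ x) = wmat T6 L *ᵥ pr x := by
  rw [pr, pr, mulVec_mulVec, proj_wmat hL, mulVec_mulVec]

theorem lvl_wmat {L : List ℕ} (hL : (T6).Wd L) (x : Fin (T7).l → ℤ) :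
    lvl (wmat T7 L *ᵥ x) = lvl x := by
  rw [lvl, lvl, dotProduct_mulVec, phi_wmat hL]

theorem pr_pow {L : List ℕ} (hL : (T6).Wd L) (k : ℕ) (x : Fin (T7).l → ℤ) :
    pr (wmat T7 L ^ k *ᵥ x) = wmat T6 L ^ k *ᵥ pr x := by
  rw [← wmat_rep, pr_wmat (rep_wd hL k), wmat_rep]

theorem lvl_pow {L : List ℕ} (hL : (T6).Wd L) (k : ℕ) (x : Fin (T7).l → ℤ) :
    lvl (wmat T7 L ^ k *ᵥ x) = lvl x := by
  rw [← wmat_rep, lvl_wmat (rep_wd hL k)]

theorem dot_split (x y : Fin (T7).l → ℤ) : 3 * ⟪x, y⟫ = 2 * ⟪pr x, pr y⟫₆ + lvl x * lvl y := by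
  have h := congrArg (fun M => x ⬝ᵥ (M *ᵥ y)) gram_split
  simp only [smul_mulVec, add_mulVec, dotProduct_smul, dotProduct_add, smul_eq_mul, ← mulVec_mulVec,
    dotProduct_mulVec x projᵀ, vecMul_transpose, vecMulVec_mulVec] at h
  rw [h, pr, pr, lvl, lvl, dotProduct_comm phi x]
  simp [dotProduct_smul, mul_comm]

/-- A vector with given projection and last coordinate. -/
def mk (u : Fin (T6).l → ℤ) (e : ℤ) : Fin (T7).l → ℤ :=
  fun b => if h : (b : ℕ) < (T6).l then u ⟨b, h⟩ else e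

theorem pr_apply (x : Fin (T7).l → ℤ) (a : Fin (T6).l) :
    pr x a = x ⟨a, lt_of_lt_of_le a.2 (show 6 ≤ 7 by norm_num)⟩ := by
  simp only [pr, proj, mulVec, dotProduct, Matrix.of_apply, ite_mul, one_mul, zero_mul]
  rw [Finset.sum_eq_single (⟨a, lt_of_lt_of_le a.2 (show 6 ≤ 7 by norm_num)⟩ : Fin (T7).l)]
  · simp
  · intro b _ hb
    rw [if_neg fun e => hb (Fin.ext e.symm)]
  · simp

theorem pr_mk (u : Fin (T6).l → ℤ) (e : ℤ) : pr (mk u e) = u := by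
  funext a
  rw [pr_apply, mk, dif_pos a.2]

theorem lvl_last : lvl (Pi.single ⟨6, by decide⟩ 1) = 3 := by decide +kernel

theorem vec_ext {x y : Fin (T7).l → ℤ} (h1 : pr x = pr y) (h2 : lvl x = lvl y) : x = y := by
  set d := x - y with hd
  have hlow : ∀ b : Fin (T7).l, (b : ℕ) < (T6).l → d b = 0 := fun b hb => by
    have := congrFun h1 ⟨b, hb⟩
    rw [pr_apply, pr_apply] at this
    rw [hd, Pi.sub_apply, sub_eq_zero]
    exact this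
  have hd' : d = d ⟨6, by decide⟩ • Pi.single ⟨6, by decide⟩ 1 := by
    funext b
    by_cases hb : (b : ℕ) < (T6).l
    · rw [hlow b hb]
      have : b ≠ (⟨6, by decide⟩ : Fin (T7).l) := fun e => by
        rw [e] at hb; exact absurd hb (by decide)
      simp [Pi.single_eq_of_ne this]
    · have h7 : (b : ℕ) < 7 := b.2
      have h6 : ¬ (b : ℕ) < 6 := hb
      have : b = (⟨6, by decide⟩ : Fin (T7).l) := Fin.ext (show (b : ℕ) = 6 by omega)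
      simp [this]
  have h3 : lvl d = 0 := by rw [hd, lvl, dotProduct_sub, ← lvl, ← lvl, h2, sub_self]
  rw [hd', lvl, dotProduct_smul, ← lvl, lvl_last, smul_eq_mul] at h3
  rw [show d ⟨6, by decide⟩ = 0 by omega, zero_smul] at hd'
  exact sub_eq_zero.1 hd'

theorem lift_level : ∀ v ∈ E6.weights, (-1 - lvl (mk (E6.toV v) 0)) % 3 = 0 := by decide +kernel

theorem exists_lift {u : Fin (T6).l → ℤ} (hu : E6.IsWeight u) : ∃ x, pr x = u ∧ lvl x = -1 := by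
  obtain ⟨v, hv, rfl⟩ := hu
  obtain ⟨e, he⟩ := Int.dvd_of_emod_eq_zero (lift_level v hv)
  refine ⟨mk (E6.toV v) 0 + e • Pi.single ⟨6, by decide⟩ 1, ?_, ?_⟩
  · funext a
    rw [pr_apply, Pi.add_apply, Pi.smul_apply, mk, dif_pos a.2, Pi.single_eq_of_ne (fun h => by
      have h1 : (a : ℕ) = 6 := congrArg Fin.val h
      have h2 : (a : ℕ) < 6 := a.2
      omega), smul_zero, add_zero]
  · rw [lvl, dotProduct_add, dotProduct_smul, ← lvl, ← lvl, lvl_last, smul_eq_mul]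
    omega

theorem ofFn_inj {n : ℕ} {a : Fin n → ℤ} {v : List ℤ} (h : List.ofFn a = v) (b : Fin n) :
    v.getD (b : ℕ) 0 = a b := by
  subst h
  simp

theorem exists_root {u : Fin (T6).l → ℤ} (hu : E6.IsWeight u) :
    ∃ s < (T7).n, pr (avec T7 s) = u ∧ lvl (avec T7 s) = 2 := by
  obtain ⟨v, hv, rfl⟩ := hu
  obtain ⟨s, hs, h1, h2⟩ := rootOver v hv
  exact ⟨s, hs, funext fun a => (ofFn_inj h1 a).symm, h2⟩

/-- Three orthogonal roots permuted by the element. -/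
structure Triple (L : List ℕ) (r₁ r₂ r₃ : ℕ) : Prop where
  lt1 : r₁ < (T7).n
  lt2 : r₂ < (T7).n
  lt3 : r₃ < (T7).n
  e1 : wmat T7 L *ᵥ avec T7 r₁ = avec T7 r₃
  e3 : wmat T7 L *ᵥ avec T7 r₃ = avec T7 r₂
  e2 : wmat T7 L *ᵥ avec T7 r₂ = avec T7 r₁
  o12 : ⟪avec T7 r₁, avec T7 r₂⟫ = 0
  o13 : ⟪avec T7 r₁, avec T7 r₃⟫ = 0
  o23 : ⟪avec T7 r₂, avec T7 r₃⟫ = 0
  wgt : E6.IsWeight (pr (avec T7 r₁))
  per : wmat T6 L ^ 3 *ᵥ pr (avec T7 r₁) = pr (avec T7 r₁)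
  lev : lvl (avec T7 r₁) = 2

variable {L : List ℕ} (hL : (T6).Wd L) (hchar : (wmat T6 L).charpoly = sixPoly)
  {y : Fin (T6).l → ℤ} (hy0 : y ≠ 0) (hy : aeval (wmat T6 L) (cyclotomic 12 ℤ) *ᵥ y = 0)
include hL hchar hy0 hy

theorem exists_triple : ∃ r₁ r₂ r₃, Triple L r₁ r₂ r₃ := by
  obtain ⟨w, hw, hw3⟩ := E6.exists_periodic hL hchar hy0 hy
  obtain ⟨t1, t2, t3⟩ := E6.triple hL hchar hy0 hy hw hw3
  obtain ⟨r, hr, hpr, hlev⟩ := exists_root hw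
  have g := gW.toGood
  have hL7 := wd7 hL
  have h1 := rw'_lt g hL7 hr
  have h2 := rw'_lt g hL7 h1
  have e1 : wmat T7 L *ᵥ avec T7 r = avec T7 ((T7).rw' L r) := wmat_avec g hL7 hr
  have e3 : wmat T7 L *ᵥ avec T7 ((T7).rw' L r) = avec T7 ((T7).rw' L ((T7).rw' L r)) :=
    wmat_avec g hL7 h1
  set v₁ := avec T7 r
  set v₃ := avec T7 ((T7).rw' L r)
  set v₂ := avec T7 ((T7).rw' L ((T7).rw' L r))
  have p3 : pr v₃ = wmat T6 L *ᵥ w := by rw [← e1, pr_wmat hL, hpr]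
  have p2 : pr v₂ = wmat T6 L ^ 2 *ᵥ w := by
    rw [← e3, pr_wmat hL, p3, mulVec_mulVec, ← pow_two]
  have l3 : lvl v₃ = 2 := by rw [← e1, lvl_wmat hL, hlev]
  have l2 : lvl v₂ = 2 := by rw [← e3, lvl_wmat hL, l3]
  refine ⟨r, _, _, hr, h2, h1, e1, e3, ?_, ?_, ?_, ?_, ?_, ?_, hlev⟩
  · refine vec_ext ?_ (by rw [lvl_wmat hL, hlev, l2])
    rw [pr_wmat hL, p2, hpr, mulVec_mulVec, ← pow_succ', hw3]
  · have := dot_split v₁ v₂
    rw [hpr, p2, hlev, l2, t2] at this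
    linarith
  · have := dot_split v₁ v₃
    rw [hpr, p3, hlev, l3, t1] at this
    linarith
  · have := dot_split v₂ v₃
    rw [p3, p2, l3, l2, E6.form.comm, t3] at this
    linarith
  · rwa [hpr]
  · rwa [hpr]

variable {r₁ r₂ r₃ : ℕ} (t : Triple L r₁ r₂ r₃) {S : List ℕ} (hS : (T7).Wd S)
  (hrefl : ∀ x, (2 : ℤ) • (wmat T7 S *ᵥ x) = (2 : ℤ) • x - ⟪avec T7 r₁, x⟫ • avec T7 r₁)

omit hchar hy0 hy in
include t in
theorem move (x : Fin (T7).l → ℤ) :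
    ⟪wmat T7 L *ᵥ x, avec T7 r₁⟫ = ⟪x, avec T7 r₂⟫ ∧
    ⟪wmat T7 L *ᵥ x, avec T7 r₂⟫ = ⟪x, avec T7 r₃⟫ ∧
    ⟪wmat T7 L *ᵥ x, avec T7 r₃⟫ = ⟪x, avec T7 r₁⟫ := by
  have hi := form.invariant (wd7 hL) (x := x)
  refine ⟨?_, ?_, ?_⟩
  · conv_lhs => rw [← t.e2]
    exact hi _
  · conv_lhs => rw [← t.e3]
    exact hi _
  · conv_lhs => rw [← t.e1]
    exact hi _

omit hL hchar hy0 hy in
include hrefl in
theorem refl_fix {x : Fin (T7).l → ℤ} (hx : ⟪x, avec T7 r₁⟫ = 0) : wmat T7 S *ᵥ x = x := by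
  refine smul_right_injective (Fin (T7).l → ℤ) (show (2 : ℤ) ≠ 0 by norm_num) ?_
  show (2 : ℤ) • (wmat T7 S *ᵥ x) = (2 : ℤ) • x
  rw [hrefl, form.comm, hx, zero_smul, sub_zero]

omit hL hchar hy0 hy in
include t hrefl in
theorem refl_self : wmat T7 S *ᵥ avec T7 r₁ = -avec T7 r₁ := by
  refine smul_right_injective (Fin (T7).l → ℤ) (show (2 : ℤ) ≠ 0 by norm_num) ?_
  show (2 : ℤ) • (wmat T7 S *ᵥ avec T7 r₁) = (2 : ℤ) • -avec T7 r₁
  rw [hrefl, root_norm r₁ t.lt1]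
  module

omit hL hchar hy0 hy in
include t hrefl in
theorem refl_refl (x : Fin (T7).l → ℤ) : wmat T7 S *ᵥ (wmat T7 S *ᵥ x) = x := by
  refine smul_right_injective (Fin (T7).l → ℤ) (show (2 : ℤ) ≠ 0 by norm_num) ?_
  show (2 : ℤ) • (wmat T7 S *ᵥ (wmat T7 S *ᵥ x)) = (2 : ℤ) • x
  rw [← mulVec_smul, hrefl, mulVec_sub, mulVec_smul, mulVec_smul, hrefl, refl_self t hrefl]
  module

omit hchar hy0 hy in
include t hrefl in
theorem twisted_roots :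
    wmat T7 (L ++ S) *ᵥ avec T7 r₁ = -avec T7 r₃ ∧ wmat T7 (L ++ S) *ᵥ avec T7 r₃ = avec T7 r₂ ∧
      wmat T7 (L ++ S) *ᵥ avec T7 r₂ = avec T7 r₁ := by
  simp only [wmat_append, ← mulVec_mulVec]
  refine ⟨?_, ?_, ?_⟩
  · rw [refl_self t hrefl, mulVec_neg, t.e1]
  · rw [refl_fix hrefl (by rw [form.comm]; exact t.o13), t.e3]
  · rw [refl_fix hrefl (by rw [form.comm]; exact t.o12), t.e2]

/-- Orthogonal to the three roots. -/
def Perp (r₁ r₂ r₃ : ℕ) (x : Fin (T7).l → ℤ) : Prop :=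
  ⟪x, avec T7 r₁⟫ = 0 ∧ ⟪x, avec T7 r₂⟫ = 0 ∧ ⟪x, avec T7 r₃⟫ = 0

omit hchar hy0 hy in
include t hrefl in
theorem perp_pow {x : Fin (T7).l → ℤ} (hx : Perp r₁ r₂ r₃ x) (k : ℕ) :
    wmat T7 (L ++ S) ^ k *ᵥ x = wmat T7 L ^ k *ᵥ x ∧ Perp r₁ r₂ r₃ (wmat T7 L ^ k *ᵥ x) := by
  induction k with
  | zero => simp [hx]
  | succ k ih =>
    obtain ⟨e, h1, h2, h3⟩ := ih
    refine ⟨?_, ?_⟩
    · rw [pow_succ', ← mulVec_mulVec, e, wmat_append, ← mulVec_mulVec, refl_fix hrefl h1,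
        mulVec_mulVec, ← pow_succ']
    · obtain ⟨m1, m2, m3⟩ := move hL t (wmat T7 L ^ k *ᵥ x)
      rw [pow_succ', ← mulVec_mulVec]
      exact ⟨m1.trans h2, m2.trans h3, m3.trans h1⟩

/-- `Φ₁₂ (X³ + 1)`. -/
noncomputable def sevenPoly : ℤ[X] := (X ^ 4 - X ^ 2 + 1) * (X ^ 3 + 1)

include t hrefl in
theorem perp_kill {x : Fin (T7).l → ℤ} (hx : Perp r₁ r₂ r₃ x) :
    aeval (wmat T7 (L ++ S)) (X ^ 4 - X ^ 2 + 1 : ℤ[X]) *ᵥ x = 0 := by
  obtain ⟨q4, p4⟩ := perp_pow hL t hrefl hx 4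
  obtain ⟨q2, p2⟩ := perp_pow hL t hrefl hx 2
  simp only [map_add, map_sub, map_pow, aeval_X, map_one, add_mulVec, sub_mulVec, one_mulVec, q4, q2]
  set z := wmat T7 L ^ 4 *ᵥ x - wmat T7 L ^ 2 *ᵥ x + x with hz
  have hzp : Perp r₁ r₂ r₃ z := by
    simp only [Perp, hz, sub_dotProduct, add_dotProduct, p4.1, p4.2.1, p4.2.2, p2.1, p2.2.1, p2.2.2,
      hx.1, hx.2.1, hx.2.2]
    norm_num
  have hprz : pr z + wmat T6 L *ᵥ pr z + wmat T6 L ^ 2 *ᵥ pr z = 0 := by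
    have e : pr z = aeval (wmat T6 L) (X ^ 4 - X ^ 2 + 1 : ℤ[X]) *ᵥ pr x := by
      simp only [map_add, map_sub, map_pow, aeval_X, map_one, add_mulVec, sub_mulVec, one_mulVec,
        ← pr_pow hL]
      simp only [hz, pr, mulVec_add, mulVec_sub]
    have h6 : aeval (wmat T6 L) (X ^ 2 + X + 1 : ℤ[X]) *ᵥ pr z = 0 := by
      rw [e, mulVec_mulVec, ← map_mul, mul_comm, ← sixPoly_factor,
        show aeval (wmat T6 L) sixPoly = 0 from E6.aeval_six hL hchar, zero_mulVec]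
    simp only [map_add, map_pow, aeval_X, map_one, add_mulVec, one_mulVec] at h6
    rw [← h6]; abel
  have hp1 := dot_split z (avec T7 r₁)
  have hp3 := dot_split z (avec T7 r₃)
  have hp2 := dot_split z (avec T7 r₂)
  have l3 : lvl (avec T7 r₃) = 2 := by rw [← t.e1, lvl_wmat hL, t.lev]
  have l2 : lvl (avec T7 r₂) = 2 := by rw [← t.e3, lvl_wmat hL, l3]
  have q3 : pr (avec T7 r₃) = wmat T6 L *ᵥ pr (avec T7 r₁) := by rw [← t.e1, pr_wmat hL]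
  have q2' : pr (avec T7 r₂) = wmat T6 L ^ 2 *ᵥ pr (avec T7 r₁) := by
    rw [← t.e3, pr_wmat hL, q3, mulVec_mulVec, ← pow_two]
  rw [hzp.1, t.lev] at hp1
  rw [hzp.2.2, l3, q3] at hp3
  rw [hzp.2.1, l2, q2'] at hp2
  have hs := congrArg (fun u => ⟪pr z, u⟫₆) (E6.sum_periodic hL hchar hy0 hy t.per)
  simp only [mulVec_add, dotProduct_add, mulVec_zero, dotProduct_zero] at hs
  have hlz : lvl z = 0 := by linarith
  have hpz : pr z = 0 := E6.periodic_orth hL hchar hy0 hy t.wgt t.per hprz (by rw [hlz] at hp1; linarith)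
    (by rw [hlz] at hp3; linarith)
  exact vec_ext (hpz.trans (mulVec_zero _).symm) (hlz.trans (dotProduct_zero _).symm)

omit hchar hy0 hy in
include t hrefl in
theorem root_cube {r : ℕ} (hr : r = r₁ ∨ r = r₂ ∨ r = r₃) :
    wmat T7 (L ++ S) ^ 3 *ᵥ avec T7 r = -avec T7 r := by
  obtain ⟨a, b, c⟩ := twisted_roots hL t hrefl
  simp only [pow_succ, pow_zero, one_mul, ← mulVec_mulVec]
  rcases hr with rfl | rfl | rfl
  · rw [a, mulVec_neg, b, mulVec_neg, c]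
  · rw [c, a, mulVec_neg, b]
  · rw [b, c, a]

omit hchar hy0 hy in
include t hrefl in
theorem comb_kill (a b c : ℤ) :
    aeval (wmat T7 (L ++ S)) (X ^ 3 + 1 : ℤ[X]) *ᵥ
      (a • avec T7 r₁ + b • avec T7 r₂ + c • avec T7 r₃) = 0 := by
  simp only [map_add, map_pow, aeval_X, map_one, add_mulVec, one_mulVec, mulVec_add, mulVec_smul,
    root_cube hL t hrefl (Or.inl rfl), root_cube hL t hrefl (Or.inr (Or.inl rfl)),
    root_cube hL t hrefl (Or.inr (Or.inr rfl))]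
  module

omit hL hchar hy0 hy in
include t in
theorem decompose (x : Fin (T7).l → ℤ) :
    ∃ p, Perp r₁ r₂ r₃ p ∧ (4 : ℤ) • x = p + (⟪x, avec T7 r₁⟫ • avec T7 r₁ +
      ⟪x, avec T7 r₂⟫ • avec T7 r₂ + ⟪x, avec T7 r₃⟫ • avec T7 r₃) := by
  refine ⟨_, ?_, (sub_add_cancel _ _).symm⟩
  have a := root_norm r₁ t.lt1
  have b := root_norm r₂ t.lt2
  have c := root_norm r₃ t.lt3
  simp only [Perp, sub_dotProduct, add_dotProduct, smul_dotProduct, smul_eq_mul, a, b, c, t.o12,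
    t.o13, t.o23, form.comm (avec T7 r₂) (avec T7 r₁), form.comm (avec T7 r₃) (avec T7 r₁),
    form.comm (avec T7 r₃) (avec T7 r₂)]
  refine ⟨?_, ?_, ?_⟩ <;> ring

include t hrefl in
theorem aeval_seven : aeval (wmat T7 (L ++ S)) sevenPoly = 0 := by
  refine ext_of_mulVec_single fun j => ?_
  obtain ⟨p, hp, e⟩ := decompose t (Pi.single j 1)
  refine smul_right_injective (Fin (T7).l → ℤ) (show (4 : ℤ) ≠ 0 by norm_num) ?_
  show (4 : ℤ) • (aeval (wmat T7 (L ++ S)) sevenPoly *ᵥ Pi.single j 1) = (4 : ℤ) • ((0 : Matrix _ _ ℤ) *ᵥ _)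
  rw [zero_mulVec, smul_zero, ← mulVec_smul, e, mulVec_add, sevenPoly]
  conv_lhs =>
    congr
    · rw [mul_comm, map_mul, ← mulVec_mulVec, perp_kill hL hchar hy0 hy t hrefl hp, mulVec_zero]
    · rw [map_mul, ← mulVec_mulVec, comb_kill hL t hrefl, mulVec_zero]
  rw [add_zero]

include t hS hrefl in
theorem exists_unit : ∃ x, IsUnit (krylov (wmat T7 (L ++ S)) x).det := by
  obtain ⟨u, hu, hune⟩ := E6.exists_not_periodic hL hchar
  set A := wmat T6 L with hA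
  set w := pr (avec T7 r₁) with hw
  have hiso6 : ∀ a b, ⟪A *ᵥ a, A *ᵥ b⟫₆ = ⟪a, b⟫₆ := E6.form.invariant hL
  have hperne : ∀ k : ℕ, A ^ 3 *ᵥ (A ^ k *ᵥ u) ≠ A ^ k *ᵥ u := fun k h => by
    refine hune (eq_of_sub_eq_zero ?_)
    have hinj : Function.Injective (A ^ k *ᵥ ·) := Function.LeftInverse.injective
      (g := (A ^ (11 * k) *ᵥ ·)) fun z => by
        show A ^ (11 * k) *ᵥ (A ^ k *ᵥ z) = z
        rw [mulVec_mulVec, ← pow_add, show 11 * k + k = 12 * k by ring, pow_mul,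
          E6.pow_twelve' hL hchar, one_pow, one_mulVec]
    refine sub_eq_zero.2 (hinj ?_)
    show A ^ k *ᵥ (A ^ 3 *ᵥ u) = A ^ k *ᵥ u
    rw [mulVec_mulVec, ← pow_add, add_comm, pow_add, ← mulVec_mulVec]
    exact h
  obtain ⟨u', hu', hune', d1, d2, d3⟩ : ∃ u', E6.IsWeight u' ∧ A ^ 3 *ᵥ u' ≠ u' ∧
      ⟪u', w⟫₆ = 1 ∧ ⟪u', A *ᵥ w⟫₆ = -2 ∧ ⟪u', A ^ 2 *ᵥ w⟫₆ = 1 := by
    have hsum : ∀ z, ⟪z, w⟫₆ + ⟪z, A *ᵥ w⟫₆ + ⟪z, A ^ 2 *ᵥ w⟫₆ = 0 := fun z => by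
      have := congrArg (fun u => ⟪z, u⟫₆) (E6.sum_periodic hL hchar hy0 hy t.per)
      simpa only [mulVec_add, dotProduct_add, mulVec_zero, dotProduct_zero] using this
    have hne4 : ∀ z, E6.IsWeight z → A ^ 3 *ᵥ z ≠ z → ∀ z', E6.IsWeight z' → A ^ 3 *ᵥ z' = z' →
        ⟪z, z'⟫₆ = 1 ∨ ⟪z, z'⟫₆ = -2 := by
      intro z hz hzn z' hz' hzp
      have h := E6.weight_dot hz hz'
      simp only [List.mem_cons, List.not_mem_nil, or_false] at h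
      rcases h with h | h
      · exact absurd (E6.eq_of_dot_four hz hz' h ▸ hzp) hzn
      · exact h
    have hp1 : A ^ 3 *ᵥ (A *ᵥ w) = A *ᵥ w := by
      rw [mulVec_mulVec, ← pow_succ, pow_succ', ← mulVec_mulVec, t.per]
    have hp2 : A ^ 3 *ᵥ (A ^ 2 *ᵥ w) = A ^ 2 *ᵥ w := by
      rw [mulVec_mulVec, ← pow_add, show 3 + 2 = 2 + 3 by rfl, pow_add, ← mulVec_mulVec, t.per]
    have shift : ∀ z, ⟪A *ᵥ z, w⟫₆ = ⟪z, A ^ 2 *ᵥ w⟫₆ ∧ ⟪A *ᵥ z, A *ᵥ w⟫₆ = ⟪z, w⟫₆ ∧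
        ⟪A *ᵥ z, A ^ 2 *ᵥ w⟫₆ = ⟪z, A *ᵥ w⟫₆ := fun z => by
      refine ⟨?_, hiso6 z w, ?_⟩
      · have hw3 : A ^ 3 *ᵥ w = w := t.per
        rw [pow_succ', ← mulVec_mulVec] at hw3
        conv_lhs => rw [← hw3]
        exact hiso6 _ _
      · conv_lhs => rw [pow_two, ← mulVec_mulVec]
        exact hiso6 _ _
    have a1 := hne4 u hu hune w t.wgt t.per
    have a2 := hne4 u hu hune (A *ᵥ w) (t.wgt.mulVec hL) hp1
    have a3 := hne4 u hu hune (A ^ 2 *ᵥ w) (t.wgt.pow hL 2) hp2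
    have s := hsum u
    obtain ⟨s1, s2, s3⟩ := shift u
    obtain ⟨q1, q2, q3⟩ := shift (A *ᵥ u)
    rcases (by omega : ⟪u, A *ᵥ w⟫₆ = -2 ∨ ⟪u, w⟫₆ = -2 ∨ ⟪u, A ^ 2 *ᵥ w⟫₆ = -2) with h | h | h
    · exact ⟨u, hu, hune, by omega, h, by omega⟩
    · refine ⟨A *ᵥ u, hu.mulVec hL, by simpa using hperne 1, ?_, ?_, ?_⟩ <;> omega
    · refine ⟨A *ᵥ (A *ᵥ u), (hu.mulVec hL).mulVec hL, ?_, ?_, ?_, ?_⟩
      · rw [mulVec_mulVec u A A, ← pow_two]; exact hperne 2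
      all_goals omega
  obtain ⟨g0, g1, g2, g3, -⟩ := E6.weight_seq hL hchar hu' hune'
  obtain ⟨x, hx, hlx⟩ := exists_lift hu'
  have l3 : lvl (avec T7 r₃) = 2 := by rw [← t.e1, lvl_wmat hL, t.lev]
  have l2 : lvl (avec T7 r₂) = 2 := by rw [← t.e3, lvl_wmat hL, l3]
  have q3 : pr (avec T7 r₃) = A *ᵥ w := by rw [← t.e1, pr_wmat hL]
  have q2 : pr (avec T7 r₂) = A ^ 2 *ᵥ w := by rw [← t.e3, pr_wmat hL, q3, mulVec_mulVec, ← pow_two]
  have b1 : ⟪x, avec T7 r₁⟫ = 0 := by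
    have := dot_split x (avec T7 r₁); rw [hx, hlx, t.lev, ← hw, d1] at this; linarith
  have b2 : ⟪x, avec T7 r₂⟫ = 0 := by
    have := dot_split x (avec T7 r₂); rw [hx, hlx, l2, q2, d3] at this; linarith
  have b3 : ⟪x, avec T7 r₃⟫ = -2 := by
    have := dot_split x (avec T7 r₃); rw [hx, hlx, l3, q3, d2] at this; linarith
  set M := wmat T7 L with hM
  set Y := wmat T7 (L ++ S) with hY
  have hYM : ∀ z, Y *ᵥ z = M *ᵥ (wmat T7 S *ᵥ z) := fun z => by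
    rw [hY, hM, wmat_append, ← mulVec_mulVec]
  have y1 : Y ^ 1 *ᵥ x = M ^ 1 *ᵥ x := by rw [pow_one, pow_one, hYM, refl_fix hrefl b1]
  obtain ⟨m1, m2, m3⟩ := move hL t x
  rw [pow_one, pow_one] at y1
  have y2 : Y ^ 2 *ᵥ x = M ^ 2 *ᵥ x := by
    rw [pow_two, pow_two, ← mulVec_mulVec, ← mulVec_mulVec, y1, hYM, refl_fix hrefl (m1.trans b2)]
  obtain ⟨n1, n2, n3⟩ := move hL t (M *ᵥ x)
  have hB : ⟪M ^ 2 *ᵥ x, avec T7 r₁⟫ = -2 := by
    rw [pow_two, ← mulVec_mulVec]; exact n1.trans (m2.trans b3)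
  have y3 : Y ^ 3 *ᵥ x = M ^ 3 *ᵥ x + avec T7 r₃ := by
    have e : wmat T7 S *ᵥ (M ^ 2 *ᵥ x) = M ^ 2 *ᵥ x + avec T7 r₁ := by
      refine smul_right_injective (Fin (T7).l → ℤ) (show (2 : ℤ) ≠ 0 by norm_num) ?_
      show (2 : ℤ) • (wmat T7 S *ᵥ (M ^ 2 *ᵥ x)) = (2 : ℤ) • (M ^ 2 *ᵥ x + avec T7 r₁)
      rw [hrefl, form.comm, hB]
      module
    rw [pow_succ', ← mulVec_mulVec, y2, hYM, e, mulVec_add, mulVec_mulVec, ← pow_succ', ← t.e1]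
  have hxk : ∀ k, 3 * ⟪x, M ^ k *ᵥ x⟫ = 2 * gseq E6.gram A u' k + 1 := fun k => by
    rw [dot_split, hM, pr_pow hL, lvl_pow hL, hx, hlx]; rfl
  have hiso : ∀ a b, ⟪Y *ᵥ a, Y *ᵥ b⟫ = ⟪a, b⟫ := form.invariant (Wd.append_iff.2 ⟨wd7 hL, hS⟩)
  set g := gseq gram Y x with hg
  have k0 : g 0 = 3 := by
    have := hxk 0
    rw [g0, pow_zero] at this
    rw [hg, gseq, pow_zero]; linarith
  have k1 : 3 * g 1 = 2 * gseq E6.gram A u' 1 + 1 := by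
    have := hxk 1
    rwa [pow_one, ← y1, ← pow_one Y] at this
  have k2 : g 2 = 1 := by
    have := hxk 2
    rw [g2, ← y2] at this
    rw [hg, gseq]; linarith
  have k3 : g 3 = -1 := by
    have := hxk 3
    rw [g3] at this
    rw [hg, gseq, y3, mulVec_add, dotProduct_add, b3]; linarith
  have hrec : ∀ a : ℕ, g (a - 7 + (7 - a)) - g (a - 5 + (5 - a)) + g (a - 4 + (4 - a)) +
      g (a - 3 + (3 - a)) - g (a - 2 + (2 - a)) + g (a - 0 + (0 - a)) = 0 := by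
    intro a
    rw [hg, ← gram_eq hiso form.comm, ← gram_eq hiso form.comm, ← gram_eq hiso form.comm,
      ← gram_eq hiso form.comm, ← gram_eq hiso form.comm, ← gram_eq hiso form.comm,
      ← dotProduct_sub, ← dotProduct_add, ← dotProduct_add, ← dotProduct_sub, ← dotProduct_add,
      ← mulVec_sub, ← mulVec_add, ← mulVec_add, ← mulVec_sub, ← mulVec_add]
    have e : Y ^ 7 *ᵥ x - Y ^ 5 *ᵥ x + Y ^ 4 *ᵥ x + Y ^ 3 *ᵥ x - Y ^ 2 *ᵥ x + Y ^ 0 *ᵥ x = 0 := by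
      have h0 : aeval Y (X ^ 7 - X ^ 5 + X ^ 4 + X ^ 3 - X ^ 2 + 1 : ℤ[X]) *ᵥ x = 0 := by
        rw [show (X ^ 7 - X ^ 5 + X ^ 4 + X ^ 3 - X ^ 2 + 1 : ℤ[X]) = sevenPoly by rw [sevenPoly]; ring,
          hY, aeval_seven hL hchar hy0 hy t hrefl, zero_mulVec]
      simpa [add_mulVec, sub_mulVec] using h0
    rw [e, mulVec_zero, dotProduct_zero]
  have a3 := hrec 3
  have a2 := hrec 2
  have a1 := hrec 1
  norm_num at a3 a2 a1
  obtain ⟨b, hb⟩ : ∃ b : Bool, g 1 = bif b then 1 else -1 := by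
    rcases g1 with h | h <;> rw [h] at k1
    · exact ⟨true, by simp; linarith⟩
    · exact ⟨false, by simp; linarith⟩
  refine ⟨x, IsUnit.of_mul_eq_one (krylov Y x).det ?_⟩
  have e := congrArg Matrix.det (krylov_gram (v := x) hiso form.comm)
  rw [det_mul, det_mul, det_transpose, gram_det, ← hg] at e
  have hmat : (Matrix.of fun i j : Fin (T7).l => g ((i : ℕ) - j + ((j : ℕ) - i))) =
      Matrix.of fun i j : Fin (T7).l =>
        (gl (bif b then 1 else -1)).getD ((i : ℕ) - j + ((j : ℕ) - i)) 0 := by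
    ext i j
    have hi : (i : ℕ) < 7 := i.2
    have hj : (j : ℕ) < 7 := j.2
    simp only [Matrix.of_apply]
    generalize hk : (i : ℕ) - j + ((j : ℕ) - i) = k
    have hk7 : k < 7 := by omega
    interval_cases k <;> simp only [gl, List.getD_cons_succ, List.getD_cons_zero, ← hb] <;> omega
  rw [hmat, gDet] at e
  linarith

end Cfsg.Agent.CoxTorus.E7
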