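import Cfsg.Agent.Lib.CoxTorus.Cert
import Cfsg.Agent.Lib.Lie.OrderE8

/-! The torus of order `Φ₃₀(q)` in type E8. -/

set_option autoImplicit false
set_option maxRecDepth 20000

namespace Cfsg.Agent.CoxTorus.E8

open Cfsg.Lie Cfsg.Agent.Chev Cfsg.Agent.Chev.Tab Cfsg.Agent.ChevAut Matrix Polynomial

/-- the inverse Cartan matrix -/
def dual : List (List ℤ) :=
  [[4, 5, 7, 10, 8, 6, 4, 2], [5, 8, 10, 15, 12, 9, 6, 3], [7, 10, 14, 20, 16, 12, 8, 4],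
   [10, 15, 20, 30, 24, 18, 12, 6], [8, 12, 16, 24, 20, 15, 10, 5], [6, 9, 12, 18, 15, 12, 8, 4],
   [4, 6, 8, 12, 10, 8, 6, 3], [2, 3, 4, 6, 5, 4, 3, 2]]

/-- the triangular factor -/
def upper : List (List ℤ) :=
  [[4, 5, 7, 10, 8, 6, 4, 2], [0, 7, 5, 10, 8, 6, 4, 2], [0, 0, 6, 5, 4, 3, 2, 1],
   [0, 0, 0, 5, 4, 3, 2, 1], [0, 0, 0, 0, 4, 3, 2, 1], [0, 0, 0, 0, 0, 3, 2, 1],
   [0, 0, 0, 0, 0, 0, 2, 1], [0, 0, 0, 0, 0, 0, 0, 1]]

theorem dualOK : checkDual E8Data.tab 1 dual = true := by decide +kernel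

theorem combOK : checkComb E8Data.tab dual = true := by decide +kernel

theorem upperOK : ∀ i j : Fin E8Data.tab.l, j < i → lmat E8Data.tab.l upper i j = 0 := fun i j h =>
  (if_pos (c := (j : ℕ) < i) h).symm.trans ((show ∀ i j : Fin 8, (if (j : ℕ) < i then
    lmat 8 upper i j else 0) = 0 by decide +kernel) i j)

theorem detOK (K : Matrix (Fin E8Data.tab.l) (Fin E8Data.tab.l) ℤ)
    (hK : ∀ k, ∃ s < E8Data.tab.n, (fun i => K i k) = avec E8Data.tab s) : K.det.natAbs ≤ 16 :=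
  det_bound (G := dual) (U := upper) (w := [105, 15, 10, 14, 21, 35, 70, 210]) (k := 420)
    (b := 2) (dG := 1) (by decide +kernel) (by norm_num) (by decide +kernel)
    (Matrix.ext (by decide +kernel)) upperOK (by decide +kernel) (by norm_num)
    (by decide +kernel) K hK

theorem gA : E8Data.tab.GoodA := ⟨E8Data.good, by decide +kernel⟩

theorem cardW : Nat.card (wG gA.toGood) = 696729600 := by
  have h := card_wG gA.toGood E8Data.chainOK
  rw [show ((E8Data.steps.map fun e => evalL (1 : ℤ) (lenPoly e.2)).prod) = (696729600 : ℤ) by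
    decide +kernel] at h
  exact_mod_cast h

theorem cyclo30 (x : ℤ) :
    (cyclotomic 30 ℤ).eval x = x ^ 8 + x ^ 7 - x ^ 5 - x ^ 4 - x ^ 3 + x + 1 := by
  have h1 := cyclotomic_expand_eq_cyclotomic_mul (p := 3) (n := 2) Nat.prime_three (by norm_num) ℤ
  rw [cyclotomic_two, map_add, expand_X, map_one, show (2 * 3 : ℕ) = 6 from rfl] at h1
  have h6 : cyclotomic 6 ℤ = X ^ 2 - X + 1 := by
    refine mul_right_cancel₀ (show (X + 1 : ℤ[X]) ≠ 0 from X_add_C_ne_zero 1) ?_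
    rw [← h1]; ring
  have h2 := cyclotomic_expand_eq_cyclotomic_mul (p := 5) (n := 6) (by norm_num) (by norm_num) ℤ
  rw [h6, map_add, map_sub, map_pow, expand_X, map_one, show (6 * 5 : ℕ) = 30 from rfl] at h2
  have h3 : cyclotomic 30 ℤ = X ^ 8 + X ^ 7 - X ^ 5 - X ^ 4 - X ^ 3 + X + 1 := by
    refine mul_right_cancel₀ (show (X ^ 2 - X + 1 : ℤ[X]) ≠ 0 from ?_) ?_
    · rw [← h6]; exact cyclotomic_ne_zero 6 ℤ
    · rw [← h2]; ring
  simp [h3]

/-- The value of the polynomial has no prime divisor up to sixteen. -/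
theorem no_small (k : ℕ) (hk : k.Prime) (hk16 : k ≤ 16) (q : ℕ) :
    ((q : ZMod k) ^ 8 + (q : ZMod k) ^ 7 - (q : ZMod k) ^ 5 - (q : ZMod k) ^ 4 - (q : ZMod k) ^ 3 +
      (q : ZMod k) + 1) ≠ 0 := by
  have h2 := hk.two_le
  have key : k = 2 ∨ k = 3 ∨ k = 5 ∨ k = 7 ∨ k = 11 ∨ k = 13 := by
    interval_cases k <;> first | omega | norm_num at hk
  rcases key with rfl | rfl | rfl | rfl | rfl | rfl
  · exact (by decide : ∀ a : ZMod 2, a ^ 8 + a ^ 7 - a ^ 5 - a ^ 4 - a ^ 3 + a + 1 ≠ 0) _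
  · exact (by decide : ∀ a : ZMod 3, a ^ 8 + a ^ 7 - a ^ 5 - a ^ 4 - a ^ 3 + a + 1 ≠ 0) _
  · exact (by decide : ∀ a : ZMod 5, a ^ 8 + a ^ 7 - a ^ 5 - a ^ 4 - a ^ 3 + a + 1 ≠ 0) _
  · exact (by decide : ∀ a : ZMod 7, a ^ 8 + a ^ 7 - a ^ 5 - a ^ 4 - a ^ 3 + a + 1 ≠ 0) _
  · exact (by decide : ∀ a : ZMod 11, a ^ 8 + a ^ 7 - a ^ 5 - a ^ 4 - a ^ 3 + a + 1 ≠ 0) _
  · exact (by decide : ∀ a : ZMod 13, a ^ 8 + a ^ 7 - a ^ 5 - a ^ 4 - a ^ 3 + a + 1 ≠ 0) _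

theorem cast_value {q : ℕ} (hq : 2 ≤ q) :
    ((q ^ 8 + q ^ 7 - q ^ 5 - q ^ 4 - q ^ 3 + q + 1 : ℕ) : ℤ) =
      (q : ℤ) ^ 8 + (q : ℤ) ^ 7 - (q : ℤ) ^ 5 - (q : ℤ) ^ 4 - (q : ℤ) ^ 3 + q + 1 := by
  have h7 : q ^ 5 + q ^ 4 + q ^ 3 ≤ q ^ 7 + q ^ 8 := by
    have a := Nat.pow_le_pow_right (show 0 < q by omega) (show 5 ≤ 7 by norm_num)
    have b := Nat.pow_le_pow_right (show 0 < q by omega) (show 4 ≤ 7 by norm_num)
    have c := Nat.pow_le_pow_right (show 0 < q by omega) (show 3 ≤ 7 by norm_num)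
    have e : 2 * q ^ 7 ≤ q ^ 8 := by rw [pow_succ' q 7]; exact Nat.mul_le_mul_right _ hq
    omega
  push_cast [Nat.cast_sub (show q ^ 5 ≤ q ^ 8 + q ^ 7 by omega),
    Nat.cast_sub (show q ^ 4 ≤ q ^ 8 + q ^ 7 - q ^ 5 by omega),
    Nat.cast_sub (show q ^ 3 ≤ q ^ 8 + q ^ 7 - q ^ 5 - q ^ 4 by omega)]
  ring

theorem main {F : Type*} [Field F] [Fintype F] (q : ℕ) (hF : Fintype.card F = q) :
    ∃ H : Subgroup ↥(chevE8.group F), IsCyclic ↥H ∧
      Nat.card ↥H = q ^ 8 + q ^ 7 - q ^ 5 - q ^ 4 - q ^ 3 + q + 1 ∧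
      Subgroup.centralizer (H : Set ↥(chevE8.group F)) = H := by
  have hq2 : 2 ≤ q := hF ▸ Fintype.one_lt_card
  refine exists_torus gA dualOK combOK (d := 30) (by norm_num) (by norm_num) (by decide +kernel)
    E8Data.torOK rfl E8Data.chainOK E8Data.polyOK (by decide) (B := 16) detOK ?_ hF
    (by rw [cyclo30, cast_value hq2]) ?_
  · intro r hr hd
    have h30 : 30 ≤ r - 1 := Nat.le_of_dvd (by have := hr.two_le; omega) hd
    refine ⟨by omega, fun h => ?_⟩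
    rw [cardW, show (696729600 : ℕ) = 2 ^ 14 * 3 ^ 5 * 5 ^ 2 * 7 by norm_num] at h
    rcases hr.dvd_mul.1 h with h | h
    · rcases hr.dvd_mul.1 h with h | h
      · rcases hr.dvd_mul.1 h with h | h
        · have := (Nat.prime_dvd_prime_iff_eq hr Nat.prime_two).1 (hr.dvd_of_dvd_pow h); omega
        · have := (Nat.prime_dvd_prime_iff_eq hr Nat.prime_three).1 (hr.dvd_of_dvd_pow h); omega
      · have := (Nat.prime_dvd_prime_iff_eq hr Nat.prime_five).1 (hr.dvd_of_dvd_pow h); omega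
    · have := Nat.le_of_dvd (by norm_num) h; omega
  · intro L hL hΦ
    have hs : E8Data.tab.smp 0 < E8Data.tab.n := gA.toGood.smp_lt (by decide +kernel)
    refine ⟨_, hs, Int.isCoprime_iff_gcd_eq_one.2 (Nat.coprime_of_dvd fun k hk h1 h2 => ?_)⟩
    have hne := krylov_det_ne_zero (by decide +kernel : E8Data.tab.l = Nat.totient 30) (by norm_num) hΦ
      (avec_ne_zero gA.toGood hs)
    have hb := detOK _ (krylov_col_root gA.toGood hL hs)
    have hk16 := (Nat.le_of_dvd (Int.natAbs_pos.2 hne) h1).trans hb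
    refine no_small k hk hk16 q ?_
    have h3 := (ZMod.natCast_eq_zero_iff _ k).2 h2
    rw [Int.natAbs_natCast] at h3
    rw [← Int.cast_natCast, cast_value hq2] at h3
    push_cast at h3
    exact h3

end Cfsg.Agent.CoxTorus.E8
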