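import Cfsg.Agent.Lib.CoxTorus.Cert
import Cfsg.Agent.Lib.Lie.OrderF4
import Cfsg.Agent.Lib.ChevAut.F4InvBase

/-! The torus of order `q⁴ + 1` in type F4. -/

set_option autoImplicit false
set_option maxRecDepth 20000

namespace Cfsg.Agent.CoxTorus.F4

open Cfsg.Lie Cfsg.Agent.Chev Cfsg.Agent.Chev.Tab Cfsg.Agent.ChevAut Matrix Polynomial

local notation "T" => F4Data.tab

/-- the inverse Cartan matrix -/
def dual : List (List ℤ) := [[2, 3, 2, 1], [3, 6, 4, 2], [4, 8, 6, 3], [2, 4, 3, 2]]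

theorem dualOK : checkDual T 1 dual = true := by decide +kernel

theorem combOK : checkComb T dual = true := by decide +kernel

theorem detU : ∀ i j : Fin F4Data.tab.l, j < i →
    lmat F4Data.tab.l [[2, 3, 4, 2], [0, 3, 4, 2], [0, 0, 2, 1], [0, 0, 0, 1]] i j = 0 := fun i j h =>
  (if_pos (c := (j : ℕ) < i) h).symm.trans ((show ∀ i j : Fin 4, (if (j : ℕ) < i then
    lmat 4 [[2, 3, 4, 2], [0, 3, 4, 2], [0, 0, 2, 1], [0, 0, 0, 1]] i j else 0) = 0 by
      decide +kernel) i j)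

theorem detOK (K : Matrix (Fin F4Data.tab.l) (Fin F4Data.tab.l) ℤ)
    (hK : ∀ k, ∃ s < F4Data.tab.n, (fun i => K i k) = avec F4Data.tab s) : K.det.natAbs ≤ 8 :=
  det_bound (G := [[2, 3, 4, 2], [3, 6, 8, 4], [4, 8, 12, 6], [2, 4, 6, 4]])
    (U := [[2, 3, 4, 2], [0, 3, 4, 2], [0, 0, 2, 1], [0, 0, 0, 1]]) (w := [3, 1, 2, 6]) (k := 6)
    (b := 4) (dG := 4) (by decide +kernel) (by norm_num) (by decide +kernel)
    (Matrix.ext (by decide +kernel)) detU (by decide +kernel) (by norm_num)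
    (by decide +kernel) K hK

theorem gA : F4Data.tab.GoodA := ⟨F4Data.good, by decide +kernel⟩

theorem cardW : Nat.card (wG gA.toGood) = 1152 := by
  have h := card_wG gA.toGood F4Data.chainOK
  rw [show ((F4Data.steps.map fun e => evalL (1 : ℤ) (lenPoly e.2)).prod) = (1152 : ℤ) by
    decide +kernel] at h
  exact_mod_cast h

theorem cyclo8 : cyclotomic 8 ℤ = X ^ 4 + 1 := by
  rw [show (8 : ℕ) = 2 ^ (2 + 1) from rfl, cyclotomic_prime_pow_eq_geom_sum Nat.prime_two]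
  simp [Finset.sum_range_succ, add_comm]

theorem small_primes (k : ℕ) (hk : k.Prime) (hk8 : k ≤ 8) (q : ℕ) (h : k ∣ q ^ 4 + 1) : k = 2 := by
  have h2 := hk.two_le
  by_contra hne
  rw [← ZMod.natCast_eq_zero_iff, Nat.cast_add, Nat.cast_pow, Nat.cast_one] at h
  have key : k = 3 ∨ k = 5 ∨ k = 7 := by
    interval_cases k <;> first | omega | norm_num at hk
  rcases key with rfl | rfl | rfl
  · exact absurd h ((by decide : ∀ a : ZMod 3, a ^ 4 + 1 ≠ 0) _)
  · exact absurd h ((by decide : ∀ a : ZMod 5, a ^ 4 + 1 ≠ 0) _)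
  · exact absurd h ((by decide : ∀ a : ZMod 7, a ^ 4 + 1 ≠ 0) _)

/-- A vector not killed by the cube of `A + 1` generates the space. -/
theorem krylov_odd {X' : Matrix (Fin 4) (Fin 4) ℤ} {v : Fin 4 → ℤ} {A Y : Matrix (Fin 4) (Fin 4) (ZMod 2)}
    (hA : A = (Int.castRingHom (ZMod 2)).mapMatrix X') (hY : Y = A + 1)
    (hY2 : Y ^ 2 = A ^ 2 + 1) (hY3 : Y ^ 3 = A ^ 3 + A ^ 2 + A + 1) (hY4 : Y ^ 4 = 0)
    (hne : Y ^ 3 *ᵥ (fun j => ((v j : ℤ) : ZMod 2)) ≠ 0) : ¬ (2 : ℤ) ∣ (krylov X' v).det := by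
  intro hdvd
  let f := (Int.castRingHom (ZMod 2)).mapMatrix (m := Fin 4)
  set u : Fin 4 → ZMod 2 := fun j => ((v j : ℤ) : ZMod 2) with hu
  have hdet : (f (krylov X' v)).det = 0 := by
    rw [← RingHom.map_det]
    exact (ZMod.intCast_zmod_eq_zero_iff_dvd _ 2).2 hdvd
  obtain ⟨a, ha, hKa⟩ := exists_mulVec_eq_zero_iff.2 hdet
  have hcol : ∀ k : Fin 4,
      (fun j => f (krylov X' (v)) j k) = A ^ (k : ℕ) *ᵥ u := by
    intro k
    funext j
    rw [hA, ← map_pow]
    exact RingHom.map_mulVec (Int.castRingHom (ZMod 2)) (X' ^ (k : ℕ))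
      (v) j
  have hsum : ∑ k, a k • (A ^ (k : ℕ) *ᵥ u) = 0 := by
    rw [← hKa]
    funext j
    rw [Finset.sum_apply]
    show _ = ∑ k, f (krylov X' (v)) j k * a k
    refine Finset.sum_congr rfl fun k _ => ?_
    rw [Pi.smul_apply, smul_eq_mul, ← congrFun (hcol k) j, mul_comm]
  have hsum' : (a 0 + a 1 + a 2 + a 3) • u + (a 1 + a 3) • (Y *ᵥ u) + (a 2 + a 3) • (Y ^ 2 *ᵥ u) +
      a 3 • (Y ^ 3 *ᵥ u) = 0 := by
    rw [← hsum]
    rw [hY3, hY2, hY, Fin.sum_univ_four]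
    simp only [add_mulVec, one_mulVec, Fin.val_zero, Fin.val_one, Fin.val_two, pow_zero, pow_one,
      show ((3 : Fin 4) : ℕ) = 3 from rfl]
    funext j
    simp only [Pi.add_apply, Pi.smul_apply, smul_eq_mul]
    have hz : ∀ z : ZMod 2, z + z = 0 := CharTwo.add_self_eq_zero
    linear_combination hz (a 1 * u j) + hz (a 2 * u j) + hz (a 3 * u j) + hz (a 3 * u j) +
      hz (a 3 * ((A *ᵥ u) j)) + hz (a 3 * ((A ^ 2 *ᵥ u) j))
  have hy : ∀ m, 4 ≤ m → Y ^ m *ᵥ u = 0 := fun m hm => by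
    rw [show m = 4 + (m - 4) by omega, pow_add, hY4, zero_mul, zero_mulVec]
  have happ : ∀ k, (a 0 + a 1 + a 2 + a 3) • (Y ^ k *ᵥ u) + (a 1 + a 3) • (Y ^ (k + 1) *ᵥ u) +
      (a 2 + a 3) • (Y ^ (k + 2) *ᵥ u) + a 3 • (Y ^ (k + 3) *ᵥ u) = 0 := fun k => by
    have := congrArg (Y ^ k *ᵥ ·) hsum'
    simp only [mulVec_add, mulVec_smul, mulVec_mulVec, ← pow_succ, ← pow_add, mulVec_zero] at this
    exact this
  have hz : ∀ z : ZMod 2, z • (Y ^ 3 *ᵥ u) = 0 → z = 0 := fun z h =>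
    (smul_eq_zero.1 h).resolve_right hne
  have e0 := happ 3
  simp only [hy _ (show 4 ≤ 3 + 1 by norm_num), hy _ (show 4 ≤ 3 + 2 by norm_num),
    hy _ (show 4 ≤ 3 + 3 by norm_num), smul_zero, add_zero] at e0
  have b0 := hz _ e0
  have e1 := happ 2
  simp only [b0, zero_smul, zero_add, hy _ (show 4 ≤ 2 + 2 by norm_num),
    hy _ (show 4 ≤ 2 + 3 by norm_num), smul_zero, add_zero] at e1
  have b1 := hz _ e1
  have e2 := happ 1
  simp only [b0, b1, zero_smul, zero_add, hy _ (show 4 ≤ 1 + 3 by norm_num), smul_zero, add_zero] at e2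
  have b2 := hz _ e2
  have e3 := happ 0
  simp only [b0, b1, b2, zero_smul, zero_add] at e3
  have b3 := hz _ e3
  rw [b3, add_zero] at b0 b1 b2
  rw [b1, b2, add_zero, add_zero] at b0
  refine ha (funext fun k => ?_)
  fin_cases k <;> assumption

/-- A matrix killed by `X⁴ + 1` has a fundamental root with odd Krylov determinant. -/
theorem exists_odd (X' : Matrix (Fin F4Data.tab.l) (Fin F4Data.tab.l) ℤ)
    (hX : aeval X' (cyclotomic 8 ℤ) = 0) :
    ∃ i < F4Data.tab.l, ¬ (2 : ℤ) ∣ (krylov X' (avec F4Data.tab (F4Data.tab.smp i))).det := by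
  classical
  have hX4 : X' ^ 4 + 1 = 0 := by simpa [cyclo8] using hX
  let f := (Int.castRingHom (ZMod 2)).mapMatrix (m := Fin F4Data.tab.l)
  set A := f X' with hA
  have hA4 : A ^ 4 + 1 = 0 := by
    have := congrArg f hX4
    rwa [map_add, map_pow, map_one, map_zero] at this
  set Y := A + 1 with hY
  have h2 : ∀ Z : Matrix (Fin F4Data.tab.l) (Fin F4Data.tab.l) (ZMod 2), Z + Z = 0 := fun Z =>
    Matrix.ext fun a b => CharTwo.add_self_eq_zero _
  have hY2 : Y ^ 2 = A ^ 2 + 1 := by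
    rw [hY, pow_two, pow_two, add_mul, mul_add, one_mul, mul_one]
    calc A * A + A + (A + 1) = A * A + 1 + (A + A) := by abel
      _ = _ := by rw [h2, add_zero]
  have hY3 : Y ^ 3 = A ^ 3 + A ^ 2 + A + 1 := by
    rw [pow_succ, hY2, hY, add_mul, mul_add, one_mul, mul_one, ← pow_succ]
    abel
  have hY4 : Y ^ 4 = 0 := by
    rw [show 4 = 2 * 2 from rfl, pow_mul, hY2, pow_two, add_mul, mul_add, one_mul, mul_one, ← pow_add]
    calc A ^ 4 + A ^ 2 + (A ^ 2 + 1) = A ^ 4 + 1 + (A ^ 2 + A ^ 2) := by abel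
      _ = 0 := by rw [h2, add_zero, hA4]
  obtain ⟨i, hi, hne⟩ : ∃ i < F4Data.tab.l, Y ^ 3 *ᵥ
      (fun j => ((avec F4Data.tab (F4Data.tab.smp i) j : ℤ) : ZMod 2)) ≠ 0 := by
    by_contra hc
    push Not at hc
    set Q := X' ^ 3 + X' ^ 2 + X' + 1 with hQ
    have hfQ : f Q = Y ^ 3 := by rw [hY3, hQ, map_add, map_add, map_add, map_pow, map_pow, map_one]
    have hQ0 : ∀ a b, (2 : ℤ) ∣ Q a b := by
      intro a b
      have hcol : Q *ᵥ Pi.single b 1 = ∑ i : Fin F4Data.tab.l, (dual.getD (b : ℕ) []).getD (i : ℕ) 0 •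
          (Q *ᵥ avec F4Data.tab (F4Data.tab.smp i)) := by
        rw [(one_zsmul _).symm.trans (single_eq_sum dualOK b)]
        simp only [mulVec_sum, mulVec_smul]
      have := congrFun hcol a
      rw [mulVec_single_one] at this
      rw [show Q a b = Q.col b a from rfl, this, Finset.sum_apply]
      refine Finset.dvd_sum fun i _ => ?_
      rw [Pi.smul_apply, smul_eq_mul]
      refine dvd_mul_of_dvd_right ((ZMod.intCast_zmod_eq_zero_iff_dvd _ 2).1 ?_) _
      have h1 := congrFun (hc i i.2) a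
      rw [← hfQ] at h1
      exact (RingHom.map_mulVec (Int.castRingHom (ZMod 2)) Q _ a).trans h1
    choose Z hZ using hQ0
    have hprod : (X' - 1) * Q = -2 := by
      have e : (X' - 1) * Q = X' ^ 4 + 1 - 2 := by
        have h := congrArg (aeval X') (show ((X : ℤ[X]) - 1) * (X ^ 3 + X ^ 2 + X + 1) = X ^ 4 + 1 - 2
          by ring)
        simpa [hQ, map_ofNat] using h
      rw [e, hX4, zero_sub]
    have hQZ : Q = (2 : ℤ) • Matrix.of Z := Matrix.ext fun a b => by simp [hZ a b]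
    have hinv : (X' - 1) * (-Matrix.of Z) = 1 := by
      refine Matrix.ext fun a b => ?_
      have e := congrFun (congrFun hprod a) b
      rw [hQZ, Matrix.mul_smul, Matrix.smul_apply, smul_eq_mul, Matrix.neg_apply] at e
      rw [Matrix.mul_neg, Matrix.neg_apply]
      have e2 : (2 : Matrix (Fin F4Data.tab.l) (Fin F4Data.tab.l) ℤ) a b =
          2 * (1 : Matrix (Fin F4Data.tab.l) (Fin F4Data.tab.l) ℤ) a b := by
        rw [← one_add_one_eq_two, Matrix.add_apply]; ring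
      rw [e2] at e
      linarith
    have hYu : Y * f (-Matrix.of Z) = 1 := by
      have e := congrArg f hinv
      rw [map_mul, map_sub, map_one, ← hA] at e
      rwa [hY, ← sub_neg_eq_add, show -(1 : Matrix (Fin F4Data.tab.l) (Fin F4Data.tab.l) (ZMod 2)) = 1
        from neg_eq_of_add_eq_zero_left (h2 1)]
    have hd := congrArg Matrix.det hYu
    have hd4 := congrArg Matrix.det hY4
    rw [det_pow] at hd4
    haveI : Nonempty (Fin F4Data.tab.l) := ⟨⟨0, by decide⟩⟩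
    rw [det_zero] at hd4
    rw [det_mul, det_one, pow_eq_zero_iff (by norm_num) |>.1 hd4, zero_mul] at hd
    exact zero_ne_one hd
  exact ⟨i, hi, krylov_odd hA hY hY2 hY3 hY4 hne⟩

theorem main {F : Type*} [Field F] [Fintype F] (q : ℕ) (hF : Fintype.card F = q) :
    ∃ H : Subgroup ↥(chevF4.group F), IsCyclic ↥H ∧ Nat.card ↥H = q ^ 4 + 1 ∧
      Subgroup.centralizer (H : Set ↥(chevF4.group F)) = H := by
  refine exists_torus gA dualOK combOK (d := 8) (by norm_num) (by norm_num) (by decide +kernel)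
    F4Data.torOK rfl F4Data.chainOK F4Data.polyOK (by decide) (B := 8) detOK ?_ hF
    (by rw [cyclo8]; push_cast; simp) ?_
  · intro r hr hd
    have h9 : 8 ≤ r - 1 := Nat.le_of_dvd (by have := hr.two_le; omega) hd
    refine ⟨by omega, fun h => ?_⟩
    rw [cardW, show (1152 : ℕ) = 2 ^ 7 * 3 ^ 2 by norm_num] at h
    rcases hr.dvd_mul.1 h with h | h
    · have := (Nat.prime_dvd_prime_iff_eq hr Nat.prime_two).1 (hr.dvd_of_dvd_pow h); omega
    · have := (Nat.prime_dvd_prime_iff_eq hr Nat.prime_three).1 (hr.dvd_of_dvd_pow h); omega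
  · intro L hL hΦ
    obtain ⟨i, hi, hodd⟩ := exists_odd _ hΦ
    refine ⟨_, gA.toGood.smp_lt hi, Int.isCoprime_iff_gcd_eq_one.2
      (Nat.coprime_of_dvd fun k hk h1 h2 => ?_)⟩
    have hne := krylov_det_ne_zero (by decide +kernel : F4Data.tab.l = Nat.totient 8) (by norm_num) hΦ
      (avec_ne_zero gA.toGood (gA.toGood.smp_lt hi))
    have hb := detOK _ (krylov_col_root gA.toGood hL (gA.toGood.smp_lt hi))
    have hk8 := (Nat.le_of_dvd (Int.natAbs_pos.2 hne) h1).trans hb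
    obtain rfl := small_primes k hk hk8 q h2
    exact hodd (Int.natCast_dvd.2 h1)

end Cfsg.Agent.CoxTorus.F4
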