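import Cfsg.Agent.Lib.CoxTorus.Weyl
import Cfsg.Agent.Lib.CoxTorus.Bound

/-! The invariant form, reflections as words, and elements with a fixed vector. -/

set_option autoImplicit false

namespace Cfsg.Agent.CoxTorus

open Cfsg.Lie Cfsg.Agent.Chev Cfsg.Agent.Chev.Tab Cfsg.Agent.ChevAut Matrix

variable {T : Tab}

/-- Properties of an invariant form. -/
structure Form (T : Tab) (G : Matrix (Fin T.l) (Fin T.l) ℤ) (dd : ℤ) : Prop where
  symm : Gᵀ = G
  iso : ∀ i < T.l, (rmat T i)ᵀ * G * rmat T i = G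
  simple : ∀ i j : Fin T.l, (avec T (T.smp i) ᵥ* G) j = if i = j then dd else 0
  definite : ∀ x, x ⬝ᵥ (G *ᵥ x) = 0 → x = 0
  pos : 0 < dd

theorem definite_of_cert {n : ℕ} (G U : Matrix (Fin n) (Fin n) ℤ) (w : Fin n → ℤ) {k : ℤ}
    (hw : ∀ i, 0 < w i) (hG : k • G = Uᵀ * diagonal w * U) (hU : U.det ≠ 0) (x : Fin n → ℤ)
    (hx : x ⬝ᵥ (G *ᵥ x) = 0) : x = 0 := by
  have h1 : (U *ᵥ x) ⬝ᵥ (diagonal w *ᵥ (U *ᵥ x)) = 0 := by
    have : x ⬝ᵥ ((k • G) *ᵥ x) = 0 := by rw [smul_mulVec, dotProduct_smul, hx, smul_zero]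
    rwa [hG, ← mulVec_mulVec, ← mulVec_mulVec, dotProduct_mulVec, vecMul_transpose] at this
  have h2 : U *ᵥ x = 0 := by
    funext i
    by_contra hne
    have hpos : 0 < (U *ᵥ x) ⬝ᵥ (diagonal w *ᵥ (U *ᵥ x)) := by
      refine Finset.sum_pos' (fun j _ => ?_) ⟨i, Finset.mem_univ _, ?_⟩
      · rw [mulVec_diagonal]; nlinarith [hw j, sq_nonneg ((U *ᵥ x) j)]
      · rw [mulVec_diagonal]
        have : 0 < (U *ᵥ x) i * (U *ᵥ x) i := mul_self_pos.2 hne
        nlinarith [hw i]
    omega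
  by_contra hne
  exact hU (exists_mulVec_eq_zero_iff.1 ⟨x, hne, h2⟩)

namespace Form

variable {G : Matrix (Fin T.l) (Fin T.l) ℤ} {dd : ℤ} (hG : Form T G dd)
include hG

theorem comm (x y : Fin T.l → ℤ) : x ⬝ᵥ (G *ᵥ y) = y ⬝ᵥ (G *ᵥ x) := by
  conv_lhs => rw [← hG.symm]
  rw [mulVec_transpose, dotProduct_comm, ← dotProduct_mulVec]

theorem wmat_iso : ∀ {L : List ℕ}, T.Wd L → (wmat T L)ᵀ * G * wmat T L = G
  | [], _ => by simp
  | i :: L, h => by
    obtain ⟨hi, hL⟩ := Wd.cons_iff.1 h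
    rw [wmat_cons, transpose_mul]
    calc _ = (wmat T L)ᵀ * ((rmat T i)ᵀ * G * rmat T i) * wmat T L := by simp only [Matrix.mul_assoc]
      _ = _ := by rw [hG.iso i hi, wmat_iso hL]

theorem invariant {L : List ℕ} (hL : T.Wd L) (x y : Fin T.l → ℤ) :
    (wmat T L *ᵥ x) ⬝ᵥ (G *ᵥ (wmat T L *ᵥ y)) = x ⬝ᵥ (G *ᵥ y) := by
  conv_rhs => rw [← wmat_iso hG hL, ← mulVec_mulVec, ← mulVec_mulVec, dotProduct_mulVec,
    vecMul_transpose]

theorem simple_dot (x : Fin T.l → ℤ) (i : Fin T.l) :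
    avec T (T.smp i) ⬝ᵥ (G *ᵥ x) = dd * x i := by
  rw [dotProduct_mulVec, dotProduct, Finset.sum_eq_single i]
  · rw [hG.simple, if_pos rfl]
  · intro j _ hj
    rw [hG.simple, if_neg (Ne.symm hj), zero_mul]
  · simp

/-- The reflection in a root is given by a word. -/
theorem exists_reflection (g : T.Good) {M : List (List ℤ)} (hM : HasDual T M) {s : ℕ} (hs : s < T.n) :
    ∃ S, T.Wd S ∧ ∀ x, dd • (wmat T S *ᵥ x) = dd • x - (avec T s ⬝ᵥ (G *ᵥ x)) • avec T s := by
  refine root_induction g (P := fun s => ∃ S, T.Wd S ∧ ∀ x, dd • (wmat T S *ᵥ x) =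
    dd • x - (avec T s ⬝ᵥ (G *ᵥ x)) • avec T s) ?_ ?_ s hs
  · intro i hi
    refine ⟨[i], by simp [Wd, hi], fun x => ?_⟩
    rw [wmat_cons, wmat_nil, mul_one, simple_dot hG x ⟨i, hi⟩, mul_smul, ← smul_sub]
    congr 1
    funext a
    simp only [mulVec, dotProduct, rmat, Matrix.of_apply, sub_mul, ite_mul, one_mul, zero_mul,
      Finset.sum_sub_distrib, Finset.sum_ite_eq, Finset.mem_univ, if_true, Pi.sub_apply, Pi.smul_apply,
      smul_eq_mul]
    rw [Finset.sum_eq_single (⟨i, hi⟩ : Fin T.l)]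
    · simp [avec, mul_comm]
    · intro b _ hb
      rw [if_neg fun e => hb (Fin.ext e)]
    · simp
  · rintro i hi t ht ⟨S, hS, hSx⟩
    have hiW : T.Wd [i] := by simp [Wd, hi]
    refine ⟨[i] ++ S ++ [i], Wd.append_iff.2 ⟨Wd.append_iff.2 ⟨hiW, hS⟩, hiW⟩, fun x => ?_⟩
    have hR : ∀ y, rmat T i *ᵥ (rmat T i *ᵥ y) = y := fun y => by
      have h := wmat_reverse_mul g hM hiW
      simp only [List.reverse_singleton, wmat_cons, wmat_nil, mul_one] at h
      rw [mulVec_mulVec, h, one_mulVec]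
    have e : avec T (T.ref i t) ⬝ᵥ (G *ᵥ x) = avec T t ⬝ᵥ (G *ᵥ (rmat T i *ᵥ x)) := by
      have h := invariant hG hiW (avec T t) (rmat T i *ᵥ x)
      rw [wmat_cons, wmat_nil, mul_one, rmat_avec g hi ht, hR] at h
      exact h
    simp only [wmat_append, wmat_cons, wmat_nil, mul_one, ← mulVec_mulVec]
    rw [← mulVec_smul, hSx, mulVec_sub, mulVec_smul, mulVec_smul, hR, rmat_avec g hi ht, e]

end Form

/-- The sets of vectors certify that words avoiding one letter have no eigenvalue of large order. -/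
structure ParabolicCert (T : Tab) (bound : ℕ) (sets : ℕ → List (List ℤ))
    (basis cobasis : ℕ → List (List ℤ)) (scale : ℕ → ℤ) : Prop where
  small : ∀ i < T.l, (sets i).length ≤ bound
  closed : ∀ i < T.l, ∀ j < T.l, j ≠ i → ∀ v ∈ sets i, (List.ofFn fun a : Fin T.l =>
    (rmat T j *ᵥ fun b : Fin T.l => v.getD (b : ℕ) 0) a) ∈ sets i
  mem : ∀ i < T.l, ∀ k : Fin T.l, (List.ofFn fun a : Fin T.l =>
    ((basis i).getD (a : ℕ) []).getD (k : ℕ) 0) ∈ sets i
  inv : ∀ i < T.l, (Matrix.of fun a b : Fin T.l => ((basis i).getD (a : ℕ) []).getD (b : ℕ) 0) *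
    (Matrix.of fun a b : Fin T.l => ((cobasis i).getD (a : ℕ) []).getD (b : ℕ) 0) = scale i • 1
  scale_ne : ∀ i < T.l, scale i ≠ 0

/-- The product of `X^k - 1` for `k` up to a bound. -/
noncomputable def periodPoly (bound : ℕ) : Polynomial ℤ :=
  ∏ k ∈ Finset.Icc 1 bound, (Polynomial.X ^ k - 1)

theorem coprime_periodPoly {d bound : ℕ} (hd : bound < d) :
    IsCoprime (Polynomial.cyclotomic d ℚ) ((periodPoly bound).map (Int.castRingHom ℚ)) := by
  refine (Polynomial.cyclotomic.irreducible_rat (by omega : 0 < d)).coprime_iff_not_dvd.2 fun hdvd => ?_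
  have hζ := Complex.isPrimitiveRoot_exp d (by omega)
  set ζ := Complex.exp (2 * Real.pi * Complex.I / d)
  have h1 := Polynomial.eval₂_dvd (f := algebraMap ℚ ℂ) (x := ζ) hdvd
  rw [← Polynomial.eval_map, Polynomial.map_cyclotomic, ← Polynomial.eval_map, Polynomial.map_map,
    hζ.isRoot_cyclotomic (by omega), zero_dvd_iff, periodPoly, Polynomial.map_prod,
    Polynomial.eval_prod, Finset.prod_eq_zero_iff] at h1
  obtain ⟨k, hk, h0⟩ := h1
  rw [Finset.mem_Icc] at hk
  simp only [Polynomial.map_sub, Polynomial.map_pow, Polynomial.map_X, Polynomial.map_one,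
    Polynomial.eval_sub, Polynomial.eval_pow, Polynomial.eval_X, Polynomial.eval_one, sub_eq_zero] at h0
  exact hζ.pow_ne_one_of_pos_of_lt (by omega) (by omega) h0

theorem eq_zero_of_coprime {n : ℕ} {A : Matrix (Fin n) (Fin n) ℤ} {p r : Polynomial ℤ}
    (hco : IsCoprime (p.map (Int.castRingHom ℚ)) (r.map (Int.castRingHom ℚ))) {y : Fin n → ℤ}
    (hp : Polynomial.aeval A p *ᵥ y = 0) (hr : Polynomial.aeval A r *ᵥ y = 0) : y = 0 := by
  obtain ⟨u, w, huw⟩ := hco
  set AQ := (Int.castRingHom ℚ).mapMatrix A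
  set yQ : Fin n → ℚ := fun i => (y i : ℚ) with hyQ
  have hz : ∀ f : Polynomial ℤ, Polynomial.aeval A f *ᵥ y = 0 →
      Polynomial.aeval AQ (f.map (Int.castRingHom ℚ)) *ᵥ yQ = 0 := fun f hf => by
    rw [aeval_map_rat]
    funext i
    have := RingHom.map_mulVec (Int.castRingHom ℚ) (Polynomial.aeval A f) y i
    rw [hf] at this
    simpa [hyQ, Function.comp_def] using this.symm
  have h := congrArg (fun f => Polynomial.aeval AQ f *ᵥ yQ) huw
  simp only [map_add, map_mul, add_mulVec, ← mulVec_mulVec, hz p hp, hz r hr, mulVec_zero, add_zero,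
    map_one, one_mulVec] at h
  funext i
  simpa [hyQ] using (congrFun h i).symm

theorem dot_nonneg_of_simple {M : List (List ℤ)} (hM : HasDual T M) (hcomb : checkComb T M = true)
    {φ : Fin T.l → ℤ} (hφ : ∀ k < T.l, 0 ≤ φ ⬝ᵥ avec T (T.smp k)) {s : ℕ} (hN : T.N ≤ s)
    (hs : s < T.n) : 0 ≤ φ ⬝ᵥ avec T s := by
  obtain ⟨d, hd, hM⟩ := hM
  refine nonneg_of_mul_nonneg_right (a := (d : ℤ)) ?_ (by exact_mod_cast hd)
  rw [dot_avec hM φ s]
  refine Finset.sum_nonneg fun k _ => mul_nonneg ?_ (hφ k k.2)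
  have := allBelow_eq_true.1 (allBelow_eq_true.1 hcomb (s - T.N) (by
    have := n_def (T := T); omega)) k k.2
  rw [show T.N + (s - T.N) = s by omega] at this
  exact mem_decide this

/-- A word fixing a dominant functional agrees with a word avoiding a letter outside its kernel. -/
theorem exists_word_avoid (g : T.Good) {M : List (List ℤ)} (hM : HasDual T M)
    (hcomb : checkComb T M = true) {φ : Fin T.l → ℤ}
    (hφ : ∀ k < T.l, 0 ≤ φ ⬝ᵥ avec T (T.smp k)) {i₀ : ℕ}
    (hi₀ : φ ⬝ᵥ avec T (T.smp i₀) ≠ 0) : ∀ (m : ℕ) {L : List ℕ}, T.Wd L → (T.invSet L).card ≤ m →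
      (∀ s < T.n, φ ⬝ᵥ avec T (T.rw' L s) = φ ⬝ᵥ avec T s) →
      ∃ L', T.Wd L' ∧ i₀ ∉ L' ∧ ∀ s < T.n, T.rw' L s = T.rw' L' s := by
  intro m
  induction m with
  | zero =>
    intro L hL hc _
    refine ⟨[], by simp [Wd], List.not_mem_nil, fun s hs => ?_⟩
    exact (nWd_torus_of_pos (F := ℚ) g _ le_rfl hL (invSet_empty g (Nat.le_zero.1 hc))).2 s hs
  | succ m ih =>
    intro L hL hc hfix
    by_cases hc' : (T.invSet L).card ≤ m
    · exact ih hL hc' hfix
    obtain ⟨i, hi, hneg, hcard, -⟩ := invSet_peel g hL (m := m) (by omega)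
    have hz : φ ⬝ᵥ avec T (T.smp i) = 0 := by
      refine le_antisymm ?_ (hφ i hi)
      rw [← hfix _ (g.smp_lt hi)]
      have ht := rw'_lt g hL (g.smp_lt hi)
      have h1 := dot_nonneg_of_simple hM hcomb hφ ((N_le_neg_iff ht).2 hneg) (Tab.neg_lt ht)
      have h3 : avec T (T.neg (T.rw' L (T.smp i))) = -avec T (T.rw' L (T.smp i)) := by
        funext j
        exact ((g.sign' ht).1 j j.2).2.2.2
      rw [h3, dotProduct_neg] at h1
      linarith
    have hi' : T.Wd [i] := by simp [Wd, hi]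
    have hR : ∀ s < T.n, φ ⬝ᵥ avec T (T.ref i s) = φ ⬝ᵥ avec T s := fun s hs => by
      have e : avec T (T.ref i s) = avec T s - T.A i s • avec T (T.smp i) := by
        funext j
        simp only [avec, Pi.sub_apply, Pi.smul_apply, smul_eq_mul, A_ref g hi j.2 hs]
        ring
      rw [e, dotProduct_sub, dotProduct_smul, hz, smul_zero, sub_zero]
    have hLi : T.Wd (L ++ [i]) := Wd.append_iff.2 ⟨hL, hi'⟩
    obtain ⟨L', hL', hnot, heq⟩ := ih hLi hcard fun s hs => by
      rw [rw'_append, rw'_cons, rw'_nil, hfix _ (g.ref_lt hi hs), hR s hs]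
    refine ⟨L' ++ [i], Wd.append_iff.2 ⟨hL', hi'⟩, ?_, fun s hs => ?_⟩
    · rw [List.mem_append, List.mem_singleton, not_or]
      exact ⟨hnot, fun e => hi₀ (e ▸ hz)⟩
    · rw [rw'_append, rw'_cons, rw'_nil, ← heq _ (g.ref_lt hi hs), rw'_append, rw'_cons, rw'_nil,
        g.ref_ref hi hs]

/-- An element fixing a nonzero vector has no eigenvalue of order above the bound. -/
theorem no_fixed_vector (g : T.Good) {M : List (List ℤ)} (hM : HasDual T M)
    (hcomb : checkComb T M = true) {G : Matrix (Fin T.l) (Fin T.l) ℤ} {dd : ℤ} (hG : Form T G dd)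
    {bound : ℕ} {sets basis cobasis : ℕ → List (List ℤ)} {scale : ℕ → ℤ}
    (hP : ParabolicCert T bound sets basis cobasis scale) {d : ℕ} (hd : bound < d)
    {L : List ℕ} (hL : T.Wd L) {u : Fin T.l → ℤ} (hu : u ≠ 0) (hfix : wmat T L *ᵥ u = u)
    {y : Fin T.l → ℤ} (hy : Polynomial.aeval (wmat T L) (Polynomial.cyclotomic d ℤ) *ᵥ y = 0) :
    y = 0 := by
  classical
  haveI : Fintype ↥(wG g) := Fintype.ofFinite _
  set φ : Fin T.l → ℤ := u ᵥ* G with hφdef
  have hφinv : ∀ x, φ ⬝ᵥ (wmat T L *ᵥ x) = φ ⬝ᵥ x := fun x => by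
    have h := hG.invariant hL u x
    rw [hfix] at h
    rwa [dotProduct_mulVec, dotProduct_mulVec u] at h
  let h : ↥(wG g) → ℤ := fun w => ∑ j, (φ ᵥ* wmat T w.2.choose) j
  obtain ⟨w, -, hw⟩ := Finset.exists_max_image Finset.univ h ⟨1, Finset.mem_univ _⟩
  set P := w.2.choose with hPdef
  have hPW : T.Wd P := w.2.choose_spec.1
  set ψ := φ ᵥ* wmat T P with hψ
  have hpos : ∀ k < T.l, 0 ≤ ψ ⬝ᵥ avec T (T.smp k) := by
    intro k hk
    have hWd : T.Wd (P ++ [k]) := Wd.append_iff.2 ⟨hPW, by simp [Wd, hk]⟩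
    let w' : ↥(wG g) := ⟨pL g (P ++ [k]), P ++ [k], hWd, rfl⟩
    have h1 := hw w' (Finset.mem_univ _)
    have h2 : wmat T w'.2.choose = wmat T (P ++ [k]) :=
      wmat_congr g hM w'.2.choose_spec.1 hWd
        ((pL_eq_iff g w'.2.choose_spec.1 hWd).1 w'.2.choose_spec.2)
    simp only [h, h2, ← hPdef, wmat_append, wmat_cons, wmat_nil, mul_one, ← vecMul_vecMul, ← hψ] at h1
    rw [sum_vecMul_rmat _ hk] at h1
    linarith
  obtain ⟨i₀, hi₀, hne⟩ : ∃ i < T.l, ψ ⬝ᵥ avec T (T.smp i) ≠ 0 := by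
    by_contra hc
    push Not at hc
    obtain ⟨d', hd', hM'⟩ := id hM
    have hψ0 : ψ = 0 := funext fun j => by
      have e := congrArg (ψ ⬝ᵥ ·) (single_eq_sum hM' j)
      simp only [dotProduct_smul, dotProduct_single, mul_one, smul_eq_mul, dotProduct_sum] at e
      rw [Finset.sum_eq_zero fun i _ => by rw [hc i i.2, mul_zero]] at e
      exact (mul_eq_zero.1 e).resolve_left (Int.natCast_ne_zero.2 hd'.ne')
    have hrev := wmat_reverse_mul g hM hPW.reverse
    rw [List.reverse_reverse] at hrev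
    have hφ0 : φ = 0 := by
      rw [← vecMul_one φ, ← hrev, ← vecMul_vecMul, ← hψ, hψ0, zero_vecMul]
    refine hu (hG.definite u ?_)
    rw [dotProduct_mulVec, ← hφdef, hφ0, zero_dotProduct]
  set L' := P.reverse ++ L ++ P with hL'def
  have hL' : T.Wd L' := Wd.append_iff.2 ⟨Wd.append_iff.2 ⟨hPW.reverse, hL⟩, hPW⟩
  have hfix' : ∀ s < T.n, ψ ⬝ᵥ avec T (T.rw' L' s) = ψ ⬝ᵥ avec T s := by
    intro s hs
    have hu1 := rw'_lt g hPW hs
    rw [vecMul_dot_avec g φ hPW (rw'_lt g hL' hs), vecMul_dot_avec g φ hPW hs, hL'def, rw'_append,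
      rw'_append, rw'_rev' g hPW (rw'_lt g hL hu1), ← wmat_avec g hL hu1, hφinv]
  obtain ⟨J, hJ, hJnot, hJeq⟩ := exists_word_avoid g hM hcomb hpos hne _ hL' le_rfl hfix'
  have hmat : wmat T L' = wmat T J := wmat_congr g hM hL' hJ hJeq
  set y' := wmat T P.reverse *ᵥ y with hy'
  have hrevP : wmat T P * wmat T P.reverse = 1 := by
    have := wmat_reverse_mul g hM hPW.reverse
    rwa [List.reverse_reverse] at this
  have hy1 : y = wmat T P *ᵥ y' := by rw [hy', mulVec_mulVec, hrevP, one_mulVec]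
  have hconj : ∀ p : Polynomial ℤ, Polynomial.aeval (wmat T J) p * wmat T P.reverse =
      wmat T P.reverse * Polynomial.aeval (wmat T L) p := by
    intro p
    induction p using Polynomial.induction_on' with
    | add a b ha hb => rw [map_add, map_add, add_mul, mul_add, ha, hb]
    | monomial k a =>
      rw [Polynomial.aeval_monomial, Polynomial.aeval_monomial, Algebra.algebraMap_eq_smul_one]
      simp only [Matrix.smul_mul, Matrix.mul_smul, Matrix.one_mul]
      congr 1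
      induction k with
      | zero => simp
      | succ k ih =>
        have e : wmat T J * wmat T P.reverse = wmat T P.reverse * wmat T L := by
          rw [← hmat, hL'def, wmat_append, wmat_append, mul_assoc, hrevP, mul_one]
        rw [pow_succ, pow_succ, mul_assoc, e, ← mul_assoc, ih, mul_assoc]
  have hyJ : Polynomial.aeval (wmat T J) (Polynomial.cyclotomic d ℤ) *ᵥ y' = 0 := by
    rw [hy', mulVec_mulVec, hconj, ← mulVec_mulVec, hy, mulVec_zero]
  set S := sets i₀ with hS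
  set toV : List ℤ → Fin T.l → ℤ := fun v b => v.getD (b : ℕ) 0 with htoV
  have hJstab : ∀ v ∈ S, ∃ v' ∈ S, toV v' = wmat T J *ᵥ toV v := by
    intro v hv
    clear hconj hyJ hmat hJeq
    induction J with
    | nil => exact ⟨v, hv, by simp⟩
    | cons j J ih =>
      obtain ⟨hj, hJ'⟩ := Wd.cons_iff.1 hJ
      rw [List.mem_cons, not_or] at hJnot
      obtain ⟨v', hv', e⟩ := ih hJ' hJnot.2
      refine ⟨_, hP.closed i₀ hi₀ j hj (Ne.symm hJnot.1) v' hv', ?_⟩
      rw [wmat_cons, ← mulVec_mulVec, ← e]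
      funext b
      simp [htoV]
  have hinvJ : wmat T J.reverse * wmat T J = 1 := wmat_reverse_mul g hM hJ
  have hkill : ∀ v ∈ S, Polynomial.aeval (wmat T J) (periodPoly bound) *ᵥ toV v = 0 := by
    intro v hv
    have hiter : ∀ k : ℕ, ∃ v' ∈ S, toV v' = wmat T J ^ k *ᵥ toV v := by
      intro k
      induction k with
      | zero => exact ⟨v, hv, by simp⟩
      | succ k ih =>
        obtain ⟨v', hv', e⟩ := ih
        obtain ⟨v'', hv'', e'⟩ := hJstab v' hv'
        exact ⟨v'', hv'', by rw [pow_succ', ← mulVec_mulVec, ← e, e']⟩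
    choose f hf hfe using hiter
    obtain ⟨a, b, hab, he⟩ : ∃ a b : Fin (bound + 1), a < b ∧ f a = f b := by
      have hcard : (S.toFinset).card < Fintype.card (Fin (bound + 1)) := by
        have := List.toFinset_card_le S
        have := hP.small i₀ hi₀
        rw [Fintype.card_fin, hS] at *
        omega
      obtain ⟨a, -, b, -, hne', he⟩ := Finset.exists_ne_map_eq_of_card_lt_of_maps_to
        (s := (Finset.univ : Finset (Fin (bound + 1)))) (t := S.toFinset) (f := fun k => f k)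
        (by simpa using hcard) (fun k _ => List.mem_toFinset.2 (hf k))
      rcases lt_or_gt_of_ne hne' with h | h
      · exact ⟨a, b, h, he⟩
      · exact ⟨b, a, h, he.symm⟩
    set k := (b : ℕ) - (a : ℕ) with hk
    have hk1 : k ∈ Finset.Icc 1 bound := by
      rw [Finset.mem_Icc]
      have := b.2
      have : (a : ℕ) < b := hab
      omega
    have hper : wmat T J ^ k *ᵥ toV v = toV v := by
      have h1 : wmat T J ^ (b : ℕ) *ᵥ toV v = wmat T J ^ (a : ℕ) *ᵥ toV v := by rw [← hfe, ← hfe, he]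
      have hleft : ∀ n : ℕ, wmat T J.reverse ^ n * wmat T J ^ n = 1 := by
        intro n
        induction n with
        | zero => simp
        | succ n ih =>
          rw [pow_succ, pow_succ', mul_assoc, ← mul_assoc (wmat T J.reverse) (wmat T J), hinvJ, one_mul,
            ih]
      have h2 := congrArg (wmat T J.reverse ^ (a : ℕ) *ᵥ ·) h1
      simp only [mulVec_mulVec] at h2
      rwa [show (b : ℕ) = a + k by have : (a : ℕ) < b := hab; omega, pow_add, ← mul_assoc, hleft,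
        one_mul, one_mulVec] at h2
    rw [periodPoly, ← Finset.prod_erase_mul _ _ hk1, map_mul, ← mulVec_mulVec, map_sub, map_pow,
      Polynomial.aeval_X, map_one, sub_mulVec, hper, one_mulVec, sub_self, mulVec_zero]
  have hH : Polynomial.aeval (wmat T J) (periodPoly bound) = 0 := by
    set B : Matrix (Fin T.l) (Fin T.l) ℤ :=
      Matrix.of fun a b : Fin T.l => ((basis i₀).getD (a : ℕ) []).getD (b : ℕ) 0 with hB
    have h1 : Polynomial.aeval (wmat T J) (periodPoly bound) * B = 0 := by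
      refine ext_of_mulVec_single fun k => ?_
      rw [← mulVec_mulVec, mulVec_single_one, zero_mulVec]
      have h2 := hkill _ (hP.mem i₀ hi₀ k)
      have e : toV (List.ofFn fun a : Fin T.l => ((basis i₀).getD (a : ℕ) []).getD (k : ℕ) 0) = B.col k := by
        funext a
        simp [htoV, hB]
      rwa [e] at h2
    have h2 := congrArg (· * Matrix.of fun a b : Fin T.l => ((cobasis i₀).getD (a : ℕ) []).getD (b : ℕ) 0) h1
    simp only [mul_assoc, zero_mul, hP.inv i₀ hi₀, hB] at h2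
    rw [mul_smul_comm, mul_one] at h2
    exact (smul_eq_zero.1 h2).resolve_left (hP.scale_ne i₀ hi₀)
  have hy0 : y' = 0 := eq_zero_of_coprime
    (p := Polynomial.cyclotomic d ℤ) (r := periodPoly bound)
    (by rw [Polynomial.map_cyclotomic_int]; exact coprime_periodPoly hd) hyJ
    (by rw [hH, zero_mulVec])
  rw [hy1, hy0, mulVec_zero]

end Cfsg.Agent.CoxTorus
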