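import Cfsg.Agent.Lib.CoxTorus.SC
import Cfsg.Agent.Lib.CoxTorus.Main

/-! The cyclic self-centralising torus attached to a given solution of Lang's equation. -/

set_option autoImplicit false

namespace Cfsg.Agent.CoxTorus

open Cfsg.Lie Cfsg.Agent.Chev Cfsg.Agent.Chev.Tab Cfsg.Agent.ChevAut Polynomial
open scoped Matrix

variable {T : Tab} {K : List (List ℕ)} {W : List (ℕ × ℕ × ℕ)}

theorem coord_pow_of_tor {E : Type*} [Field E] (g : T.Good) {dd : ℕ} {M : List (List ℤ)}
    (hM : checkDual T dd M = true) {c : ℕ → Eˣ} (h : tor T E c = 1) {j : ℕ} (hj : j < T.l) :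
    c j ^ dd = 1 := by
  rw [pow_coord hM c hj]
  refine Finset.prod_eq_one fun i hi => ?_
  have h1 := (tor_eq_iff_wt (F := E) g (c := c) (d := 1)).1 (by rw [h, map_one]) i (Finset.mem_range.1 hi)
  rw [div_one] at h1
  rw [h1, _root_.one_zpow]

/-- The torus of a solution of Lang's equation is self-centralising when its generator is regular. -/
theorem exists_torus_of_lang (g : T.GoodW K W) {U : Tab} {P : ℕ} {MU : List (List ℤ)} (gU : U.GoodA)
    (hemb : checkEmb T U P = true) (hMU : checkDual U 1 MU = true) {dd : ℕ} (hdd : 0 < dd)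
    {M : List (List ℤ)} (hM : checkDual T dd M = true)
    {z : List ℤ} (hz : ∀ s < T.n, (∑ j ∈ Finset.range T.l, z.getD j 0 * T.A j s) % (dd : ℤ) = 0)
    (hz1 : ∃ j < T.l, (z.getD j 0).natAbs.Coprime dd)
    {F E : Type*} [Field F] [Fintype F] [Field E] [Fintype E] {q : ℕ} (hF : Fintype.card F = q)
    (φ : F →+* E) {σ : E →+* E} (hσ : ∀ t, σ t = t ^ q) (hq1 : q - 1 ∣ Nat.card Eˣ) {N : ℕ}
    (hNE : N ∣ Nat.card Eˣ) {L : List ℕ} (hL : T.Wd L) {ht : T.D.SteinbergGroup E} {t : ℕ → Eˣ}
    (hlang : stMap T σ ht * ht⁻¹ = sW T E L * hT g E t)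
    {Φ : ℤ[X]} {v : Fin T.l → ℤ} (hmon : Φ.Monic) (hdeg' : Φ.natDegree = T.l) (hl0 : 0 < T.l)
    (hΦ : aeval (wmat T L.reverse) Φ = 0) (hΦN : Φ.eval (q : ℤ) = N)
    (hv : IsCoprime (krylov (wmat T L.reverse) v).det (N : ℤ))
    (hreg : ∀ e : Fin T.l → Eˣ, Twist e (wmat T L.reverse) q → orderOf e = N →
      (∀ s < T.n, chi e (avec T s) ≠ 1) ∧ ∀ L', T.Wd L' →
        (∀ s < T.n, chi e (avec T (T.rw' L' s)) = chi e (avec T s)) → ∀ s < T.n, T.rw' L' s = s) :
    ∃ H : Subgroup ↥(T.D.group F), IsCyclic ↥H ∧ Nat.card ↥H = N / Nat.gcd dd (q - 1) ∧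
      Subgroup.centralizer (H : Set ↥(T.D.group F)) = H := by
  classical
  have gA := g.toGoodA
  have hg := g.toGood
  have hq2 : 2 ≤ q := (hF ▸ FiniteField.isPrimePow_card F : IsPrimePow q).one_lt
  haveI : Finite F := Finite.of_fintype F
  haveI : Finite E := Finite.of_fintype E
  have hφ : ∀ t, σ (φ t) = φ t := fun t => by rw [hσ, ← map_pow, ← hF, FiniteField.pow_card]
  have hrange : ∀ t : E, σ t = t ↔ ∃ s, φ s = t := fun t =>
    ⟨fun h => exists_range_of_fixed φ (by rw [hF, ← hσ, h]), fun ⟨s, hs⟩ => hs ▸ hφ s⟩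
  let ι : ↥(T.D.group F) →* GL T.D.Idx E := (fieldMap T φ).comp (T.D.group F).subtype
  have hιinj : Function.Injective ι :=
    (Units.map_injective (Matrix.map_injective φ.injective)).comp Subtype.val_injective
  let J := stMap T φ
  let Fr := stMap T σ
  have hJ : ∀ u, Fr (J u) = J u := fun u => by
    show stMap T σ (stMap T φ u) = stMap T φ u
    rw [stMap_comp hg, show σ.comp φ = φ from RingHom.ext hφ]
  have hιθ : ∀ u : T.D.SteinbergGroup F, ι (θG gA F u) = θ0 gA E (J u) := fun u =>
    (θ0_stMap gA φ u).symm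
  set h := θ0 gA E ht with hθh'
  have hh : h ∈ T.D.group E := (θG gA E ht).2
  have hθh : θ0 gA E ht = h := hθh'.symm
  have hkerhT : ∀ u : T.D.SteinbergGroup E, ∀ e, θ0 gA E u = tor T E e → ∃ e', u = hT g E e' := by
    intro u e hu
    obtain ⟨c', hc', -⟩ := ker_mem g (x := u * (hT g E e)⁻¹)
      (by rw [map_mul, map_inv, hu, θ0_hT, mul_inv_cancel])
    exact ⟨c' * e, by rw [map_mul, ← hc', inv_mul_cancel_right]⟩
  have hσtor : ∀ e : ℕ → Eˣ, Fr (hT g E e) = hT g E (e ^ q) := fun e => by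
    show stMap T σ (hT g E e) = _
    rw [stMap_hT]
    congr 1
    funext j
    exact Units.ext (by simp [hσ])
  set m := Fr ht * ht⁻¹ with hm
  have hmc : ∀ (u) (e : ℕ → Eˣ), ht * J u * ht⁻¹ = hT g E e → m * hT g E e * m⁻¹ = hT g E (e ^ q) :=
    fun u e he => by
      rw [← hσtor, ← he, map_mul, map_mul, hJ, map_inv, hm]
      group
  set X' := wmat T L.reverse with hX'
  have hWL : T.Wd L.reverse := hL.reverse
  have htwist : ∀ e : ℕ → Eˣ, sW T E L * hT g E e * (sW T E L)⁻¹ = hT g E (e ^ q) ↔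
      Twist (fun j : Fin T.l => e j) X' q := by
    intro e
    obtain ⟨c', hc', hchi⟩ := sW_conj_hT_eq g hL e
    constructor
    · intro he x'
      rw [hX', ← hchi]
      rw [hc'] at he
      simp only [hT_inj g gU hemb hMU he (Fin.is_lt _), chi, Pi.pow_apply, ← Finset.prod_pow]
      exact Finset.prod_congr rfl fun j _ => by
        rw [← zpow_natCast, ← zpow_natCast, ← _root_.zpow_mul, ← _root_.zpow_mul, mul_comm]
    · intro he
      rw [hc']
      refine hT_congr g fun j hj => ?_
      have h1 := hchi (Pi.single ⟨j, hj⟩ 1)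
      rw [← hX', he, chi_single, chi_single] at h1
      exact h1
  have hmn : ∀ e, m * hT g E e * m⁻¹ = sW T E L * hT g E e * (sW T E L)⁻¹ := by
    intro e
    rw [show m = sW T E L * hT g E t from hlang,
      show ∀ a b y : T.D.SteinbergGroup E, a * b * y * (a * b)⁻¹ = a * (b * y * b⁻¹) * a⁻¹ from
        fun a b y => by group, ← map_inv, ← map_mul, ← map_mul, mul_right_comm, mul_inv_cancel,
      one_mul]
  -- the torus
  let S := twistGroup T.l Eˣ X' q
  let θ : ↥S →* GL T.D.Idx E :=
    (MulAut.conj h⁻¹).toMonoidHom.comp ((tor T E).comp ((extC T E).comp S.subtype))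
  have hθ : ∀ s : ↥S, θ s = h⁻¹ * tor T E (extC T E s.1) * h := fun s => by
    simp [θ, MulAut.conj_apply]
  have hext : ∀ (u : Fin T.l → Eˣ) (j : Fin T.l), extC T E u j = u j := fun u j => by
    simp [extC, j.2]
  let H : Subgroup ↥(T.D.group F) := θ.range.comap ι
  have hsub : θ.range ≤ ι.range := by
    rintro _ ⟨s, rfl⟩
    set u := ht⁻¹ * hT g E (extC T E s.1) * ht with hu
    have hfix : Fr u = u := by
      have hs : Twist (fun j : Fin T.l => extC T E s.1 j) X' q := by
        simp only [hext]; exact s.2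
      have h2 : Fr ht = m * ht := by rw [hm]; group
      rw [hu, map_mul, map_mul, map_inv, h2, hσtor, ← ((htwist _).2 hs), ← hmn]
      group
    have hfix' : entryHom T σ (θ0 gA E u) = θ0 gA E u := by
      conv_rhs => rw [← hfix]
      exact (θ0_stMap gA σ u).symm
    obtain ⟨l, hl, e, -, r', hr', hdec⟩ := fixed_decomp gA (θG gA E u).2 hfix'
    have hfixJ : fixElem hg σ ≤ J.range.map (θ0 gA E) := by
      refine (Subgroup.closure_le _).2 ?_
      rintro _ ⟨i, t₀, ht₀, rfl⟩
      obtain ⟨t₁, rfl⟩ := (hrange t₀).1 ht₀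
      exact ⟨J (Tab.sx T F i t₁), ⟨_, rfl⟩, by rw [θ0_stMap, θ0_sx, fieldMap_xg]⟩
    obtain ⟨_, ⟨l', rfl⟩, rfl⟩ := hfixJ hl
    obtain ⟨_, ⟨r'', rfl⟩, rfl⟩ := hfixJ hr'
    obtain ⟨e', he'⟩ := hkerhT ((J l')⁻¹ * u * (J r'')⁻¹) e (by
      rw [map_mul, map_mul, map_inv, map_inv]
      show _ * θ0 gA E u * _ = _
      rw [show (θ0 gA E u) = _ from hdec]
      group)
    have hfe : hT g E (e' ^ q) = hT g E e' := by
      rw [← hσtor, ← he', map_mul, map_mul, map_inv, map_inv, hJ, hJ, hfix]
    have hco : ∀ j < T.l, ∃ b : Fˣ, Units.map φ.toMonoidHom b = e' j := by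
      intro j hj
      have h1 := hT_inj g gU hemb hMU hfe hj
      obtain ⟨b, hb⟩ := exists_range_of_fixed φ (e := ((e' j : Eˣ) : E)) (by
        rw [hF]; simpa using congrArg Units.val h1)
      exact ⟨Units.mk0 b (fun h0 => (e' j).ne_zero (by rw [← hb, h0, map_zero])), Units.ext hb⟩
    choose b hb using hco
    have he'' : hT g E e' = J (hT g F fun j => if hj : j < T.l then b j hj else 1) := by
      show _ = stMap T φ _
      rw [stMap_hT]
      exact hT_congr g fun j hj => by simp only [dif_pos hj, hb j hj]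
    refine ⟨θG gA F (l' * (hT g F fun j => if hj : j < T.l then b j hj else 1) * r''), ?_⟩
    rw [hιθ, map_mul J, map_mul J, ← he'', ← he', hθ, show J l' * ((J l')⁻¹ * u * (J r'')⁻¹) * J r'' = u by
      group, hu, map_mul, map_mul, map_inv, hθh, θ0_hT]
  have hmap : H.map ι = θ.range := Subgroup.map_comap_eq_self hsub
  let e₀ : ↥H ≃* ↥θ.range := (H.equivMapOfInjective ι hιinj).trans (MulEquiv.subgroupCongr hmap)
  obtain ⟨hcyc, hcard⟩ := twistGroup_cyclic_poly (A := Eˣ) hmon hdeg' hl0 hΦ hΦN hNE hv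
  haveI := hcyc
  set G' := Nat.gcd dd (q - 1) with hG'
  have hG0 : 0 < G' := Nat.gcd_pos_of_pos_left _ hdd
  -- the kernel
  have hroots : ∀ {e : ↥S}, θ e = 1 → ∀ s < T.n, chi e.1 (avec T s) = 1 := by
    intro e he s hs
    rw [hθ] at he
    have he' : tor T E (extC T E e.1) = 1 := by
      have := congrArg (fun w => h * w * h⁻¹) he
      simpa [mul_assoc] using this
    have h1 := tor_xg hg (extC T E e.1) hs (1 : E)
    rw [he', one_mul, inv_one, mul_one, mul_one] at h1
    have h2 := (Units.ext (xg_injective hg hs h1).symm : wt T E (extC T E e.1) s = 1)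
    rw [wt_eq_chi] at h2
    simpa only [hext] using h2
  have hker_le : ∀ e ∈ θ.ker, e ^ G' = 1 := by
    intro e he
    have he1 : ∀ s < T.n, chi e.1 (avec T s) = 1 := hroots he
    have hfixe : ∀ L', T.Wd L' → ∀ x', chi e.1 (wmat T L' *ᵥ x') = chi e.1 x' := by
      intro L' hL'
      induction L' with
      | nil => simp
      | cons i L' ih =>
        intro x'
        obtain ⟨hi, hL''⟩ := Wd.cons_iff.1 hL'
        rw [wmat_cons, ← Matrix.mulVec_mulVec, ← ih hL'' x']
        have e1 := chi_conj_simple (extC T E e.1) hi (wmat T L' *ᵥ x')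
        simp only [hext] at e1
        rw [← e1]
        have hw : wt T E (extC T E e.1)⁻¹ (T.smp i) = 1 := by
          rw [wt_eq_chi]
          have : (fun j : Fin T.l => (extC T E e.1)⁻¹ j) = e.1⁻¹ := funext fun j => by simp [hext]
          rw [this, chi_inv_left, he1 _ (hg.smp_lt hi), inv_one]
        simp [hw, hext]
    refine Subtype.ext (funext fun j => pow_gcd_eq_one.2 ⟨?_, ?_⟩)
    · have he' : tor T E (extC T E e.1) = 1 := by
        have he2 : θ e = 1 := he
        rw [hθ] at he2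
        have := congrArg (fun w => h * w * h⁻¹) he2
        simpa [mul_assoc] using this
      have := coord_pow_of_tor hg hM he' j.2
      rwa [hext] at this
    · have h1 := e.2 (Pi.single j 1)
      rw [hX', hfixe _ hWL, chi_single] at h1
      show e.1 j ^ (q - 1) = 1
      exact mul_right_cancel (b := e.1 j) (by rw [← pow_succ, Nat.sub_add_cancel (by omega), ← h1, one_mul])
  have hker : Nat.card θ.ker = G' := by
    refine le_antisymm ?_ ?_
    · calc Nat.card θ.ker ≤ Nat.card {a : ↥S // a ^ G' = 1} :=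
            Nat.card_le_card_of_injective (fun e => ⟨e.1, hker_le e.1 e.2⟩)
              fun a b hab => Subtype.ext (congrArg (fun z : {a : ↥S // a ^ G' = 1} => z.1) hab)
        _ ≤ G' := by
          haveI : Fintype ↥S := Fintype.ofFinite _
          rw [Nat.card_eq_fintype_card, Fintype.card_subtype]
          exact IsCyclic.card_pow_eq_one_le hG0
    · obtain ⟨w, hw⟩ := IsCyclic.exists_ofOrder_eq_natCard (α := Eˣ)
      have hGE : G' ∣ Nat.card Eˣ := (Nat.gcd_dvd_right _ _).trans hq1
      set a := w ^ (Nat.card Eˣ / G') with ha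
      have hoa : orderOf a = G' := by
        rw [ha, orderOf_pow_of_dvd (Nat.div_pos (Nat.le_of_dvd Nat.card_pos hGE) hG0).ne'
          (by rw [hw]; exact Nat.div_dvd_of_dvd hGE), hw, Nat.div_div_self hGE Nat.card_pos.ne']
      set u : Fin T.l → Eˣ := fun j => a ^ z.getD (j : ℕ) 0 with hu
      have hu1 : ∀ s < T.n, chi u (avec T s) = 1 := fun s hs => by
        rw [hu, chi_zpow_left, ← orderOf_dvd_iff_zpow_eq_one, hoa]
        refine (Int.natCast_dvd_natCast.2 (Nat.gcd_dvd_left dd (q - 1))).trans ?_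
        have := hz s hs
        rw [Finset.sum_range] at this
        exact Int.dvd_of_emod_eq_zero this
      have huS : Twist u X' q := by
        have hfixu : ∀ L', T.Wd L' → ∀ x', chi u (wmat T L' *ᵥ x') = chi u x' := by
          intro L' hL'
          induction L' with
          | nil => simp
          | cons i L' ih =>
            intro x'
            obtain ⟨hi, hL''⟩ := Wd.cons_iff.1 hL'
            rw [wmat_cons, ← Matrix.mulVec_mulVec, ← ih hL'' x']
            have e1 := chi_conj_simple (extC T E u) hi (wmat T L' *ᵥ x')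
            simp only [hext] at e1
            rw [← e1]
            have hw : wt T E (extC T E u)⁻¹ (T.smp i) = 1 := by
              rw [wt_eq_chi]
              have : (fun j : Fin T.l => (extC T E u)⁻¹ j) = u⁻¹ := funext fun j => by simp [hext]
              rw [this, chi_inv_left, hu1 _ (hg.smp_lt hi), inv_one]
            simp [hw, hext]
        intro x'
        rw [hX', hfixu _ hWL, hu, chi_zpow_left]
        rw [← zpow_natCast, ← _root_.zpow_mul, zpow_eq_zpow_iff_modEq, hoa]
        refine Int.modEq_iff_dvd.2 ?_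
        rw [show ∀ b : ℤ, b * (q : ℤ) - b = b * ((q : ℤ) - 1) from fun b => by ring]
        refine dvd_mul_of_dvd_right ?_ _
        have := Int.natCast_dvd_natCast.2 (Nat.gcd_dvd_right dd (q - 1))
        rwa [Nat.cast_sub (show 1 ≤ q by omega), Nat.cast_one, ← hG'] at this
      let e : ↥S := ⟨u, huS⟩
      have he : e ∈ θ.ker := by
        rw [MonoidHom.mem_ker, hθ]
        have : tor T E (extC T E u) = 1 := by
          rw [← map_one (tor T E), tor_eq_iff_wt hg]
          intro i hi
          rw [div_one, wt_eq_chi]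
          simp only [hext]
          exact hu1 _ (hg.smp_lt hi)
        rw [show extC T E e.1 = extC T E u from rfl, this, mul_one, inv_mul_cancel]
      obtain ⟨j, hj, hjc⟩ := hz1
      have hoj : G' ∣ orderOf e := by
        have h1 : (a ^ z.getD j 0) ^ orderOf e = 1 := by
          have h2 : e.1 ^ orderOf e = 1 := congrArg Subtype.val (pow_orderOf_eq_one e)
          simpa [hu, e] using congrFun h2 ⟨j, hj⟩
        rw [← zpow_natCast, ← _root_.zpow_mul, ← orderOf_dvd_iff_zpow_eq_one, hoa, Int.natCast_dvd,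
          Int.natAbs_mul, Int.natAbs_natCast] at h1
        exact (Nat.Coprime.coprime_dvd_left (Nat.gcd_dvd_left dd (q - 1)) hjc.symm).dvd_of_dvd_mul_left h1
      calc G' ≤ orderOf e := Nat.le_of_dvd (orderOf_pos e) hoj
        _ = orderOf (⟨e, he⟩ : θ.ker) := (Subgroup.orderOf_coe (⟨e, he⟩ : θ.ker))
        _ ≤ _ := orderOf_le_card
  have hcardR : Nat.card θ.range = N / G' := by
    rw [← Subgroup.index_ker, ← hcard, ← θ.ker.card_mul_index, hker, Nat.mul_div_cancel_left _ hG0]
  haveI : IsCyclic ↥θ.range := isCyclic_of_surjective θ.rangeRestrict θ.rangeRestrict_surjective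
  haveI hHc : IsCyclic ↥H := e₀.isCyclic.2 inferInstance
  have hmemS : ∀ u e, ht * J u * ht⁻¹ = hT g E e → θG gA F u ∈ H := fun u e he => by
    have hs : Twist (fun j : Fin T.l => e j) X' q :=
      (htwist e).1 (by rw [← hmn]; exact hmc u e he)
    refine ⟨⟨_, hs⟩, ?_⟩
    rw [hιθ, hθ, tor_congr hg (c := extC T E fun j : Fin T.l => e j) (d := e)
      (fun j hj => hext _ ⟨j, hj⟩), ← θ0_hT g, ← he, map_mul, map_mul, map_inv, hθh]
    group
  refine ⟨H, hHc, (Nat.card_congr e₀.toEquiv).trans hcardR, le_antisymm ?_ ?_⟩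
  · intro w hw
    obtain ⟨a, ha⟩ := IsCyclic.exists_ofOrder_eq_natCard (α := ↥S)
    rw [hcard] at ha
    obtain ⟨hne, hstab⟩ := hreg a.1 a.2 (by rw [Subgroup.orderOf_coe, ha])
    have hwt : ∀ s, wt T E (extC T E a.1) s = chi a.1 (avec T s) := fun s => by
      rw [wt_eq_chi]; simp only [hext]
    obtain ⟨xa, hxa⟩ := hsub ⟨a, rfl⟩
    have hwx := Subgroup.mem_centralizer_iff.1 hw xa ⟨a, hxa.symm⟩
    obtain ⟨u, rfl⟩ := θG_surjective gA w
    have h1 : Commute (tor T E (extC T E a.1)) (θ0 gA E (ht * J u * ht⁻¹)) := by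
      have e1 : h * ι xa * h⁻¹ = tor T E (extC T E a.1) := by rw [hxa, hθ]; group
      rw [map_mul, map_mul, map_inv, hθh, ← hιθ, ← e1]
      exact (Commute.conj_iff h).2 ((show Commute xa (θG gA F u) from hwx).map ι)
    obtain ⟨e, he⟩ := G2Torus.exists_tor_of_commute' gA
      (fun L' hL' hfix => hstab L' hL' fun s hs => by rw [← hwt, ← hwt, hfix s hs])
      (fun s hs => by rw [hwt]; exact hne s hs) (θG gA E (ht * J u * ht⁻¹)).2 h1
    obtain ⟨e', he'⟩ := hkerhT _ e he
    exact hmemS u e' he'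
  · intro w hw
    refine Subgroup.mem_centralizer_iff.2 fun y' hy' => ?_
    letI := IsCyclic.commGroup (α := ↥H)
    exact congrArg Subtype.val (mul_comm (⟨y', hy'⟩ : ↥H) ⟨w, hw⟩)

end Cfsg.Agent.CoxTorus
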