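import Mathlib

/-! Characters of a lattice compatible with an integer matrix. -/

set_option autoImplicit false

namespace Cfsg.Agent.CoxTorus

open Matrix Polynomial

variable {n : ℕ} {A : Type*} [CommGroup A]

/-- The character of the lattice with given values on the basis. -/
def chi (c : Fin n → A) (x : Fin n → ℤ) : A := ∏ j, c j ^ x j

theorem chi_add (c : Fin n → A) (x y : Fin n → ℤ) : chi c (x + y) = chi c x * chi c y := by
  simp [chi, _root_.zpow_add, Finset.prod_mul_distrib]

theorem chi_zero (c : Fin n → A) : chi c 0 = 1 := by simp [chi]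

theorem chi_smul (c : Fin n → A) (k : ℤ) (x : Fin n → ℤ) : chi c (k • x) = chi c x ^ k := by
  simp only [chi, ← Finset.prod_zpow, ← _root_.zpow_mul, Pi.smul_apply, smul_eq_mul, mul_comm k]

theorem chi_sum {ι : Type*} (c : Fin n → A) (s : Finset ι) (x : ι → Fin n → ℤ) :
    chi c (∑ i ∈ s, x i) = ∏ i ∈ s, chi c (x i) := by
  classical
  induction s using Finset.induction_on with
  | empty => simp [chi_zero]
  | insert a s ha ih => rw [Finset.sum_insert ha, Finset.prod_insert ha, chi_add, ih]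

theorem chi_single (c : Fin n → A) (j : Fin n) : chi c (Pi.single j 1) = c j := by
  rw [chi, Finset.prod_eq_single j] <;> simp +contextual

theorem chi_mul (c d : Fin n → A) (x : Fin n → ℤ) : chi (c * d) x = chi c x * chi d x := by
  simp [chi, mul_zpow, Finset.prod_mul_distrib]

theorem chi_one_left (x : Fin n → ℤ) : chi (1 : Fin n → A) x = 1 := by simp [chi]

theorem chi_inv_left (c : Fin n → A) (x : Fin n → ℤ) : chi c⁻¹ x = (chi c x)⁻¹ := by
  simp [chi, _root_.inv_zpow, Finset.prod_inv_distrib]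

theorem chi_zpow_left (a : A) (e x : Fin n → ℤ) : chi (fun j => a ^ e j) x = a ^ (e ⬝ᵥ x) := by
  classical
  simp only [chi, ← _root_.zpow_mul, dotProduct]
  induction (Finset.univ : Finset (Fin n)) using Finset.induction_on with
  | empty => simp
  | insert b s hb ih => rw [Finset.prod_insert hb, Finset.sum_insert hb, _root_.zpow_add, ih]

theorem chi_mulVec (c : Fin n → A) (K : Matrix (Fin n) (Fin n) ℤ) (x : Fin n → ℤ) :
    chi c (K *ᵥ x) = ∏ j, chi c (fun i => K i j) ^ x j := by
  have h : K *ᵥ x = ∑ j, x j • (fun i => K i j) := by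
    funext i
    simp [mulVec, dotProduct, Finset.sum_apply, mul_comm]
  rw [h, chi_sum]
  exact Finset.prod_congr rfl fun j _ => chi_smul _ _ _

/-- The matrix acts on the character as a power. -/
def Twist (c : Fin n → A) (M : Matrix (Fin n) (Fin n) ℤ) (q : ℕ) : Prop :=
  ∀ x, chi c (M *ᵥ x) = chi c x ^ q

theorem twist_iff {c : Fin n → A} {M : Matrix (Fin n) (Fin n) ℤ} {q : ℕ} :
    Twist c M q ↔ ∀ j, chi c (fun i => M i j) = c j ^ q := by
  constructor
  · intro h j
    have := h (Pi.single j 1)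
    rwa [mulVec_single_one, chi_single] at this
  · intro h x
    simp only [chi_mulVec, h]
    simp only [chi, ← Finset.prod_pow]
    exact Finset.prod_congr rfl fun j _ => by
      rw [← zpow_natCast, ← zpow_natCast, ← _root_.zpow_mul, ← _root_.zpow_mul, mul_comm]

theorem Twist.aeval {c : Fin n → A} {M : Matrix (Fin n) (Fin n) ℤ} {q : ℕ} (h : Twist c M q)
    (p : ℤ[X]) (x : Fin n → ℤ) : chi c (aeval M p *ᵥ x) = chi c x ^ p.eval (q : ℤ) := by
  induction p using Polynomial.induction_on' generalizing x with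
  | add p₁ p₂ h₁ h₂ =>
    rw [map_add, add_mulVec, chi_add, h₁, h₂, eval_add, _root_.zpow_add]
  | monomial k a =>
    induction k generalizing x with
    | zero => rw [monomial_zero_left, aeval_C, Algebra.algebraMap_eq_smul_one, smul_mulVec, one_mulVec,
        chi_smul, eval_C]
    | succ k ih =>
      rw [show monomial (k + 1) a = monomial k a * X from (monomial_mul_X k a).symm, map_mul, aeval_X,
        ← mulVec_mulVec, ih, h, eval_mul, eval_X, ← zpow_natCast, ← _root_.zpow_mul, mul_comm]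

/-- The matrix with columns `v, Mv, M²v, …`. -/
def krylov (M : Matrix (Fin n) (Fin n) ℤ) (v : Fin n → ℤ) : Matrix (Fin n) (Fin n) ℤ :=
  Matrix.of fun i k => ((M ^ (k : ℕ)) *ᵥ v) i

theorem krylov_mulVec (M : Matrix (Fin n) (Fin n) ℤ) (v a : Fin n → ℤ) :
    krylov M v *ᵥ a = aeval M (∑ k, C (a k) * X ^ (k : ℕ)) *ᵥ v := by
  rw [map_sum, Matrix.sum_mulVec]
  funext i
  rw [Finset.sum_apply]
  simp only [mulVec, dotProduct]
  refine Finset.sum_congr rfl fun k _ => ?_
  show _ = (aeval M (C (a k) * X ^ (k : ℕ)) *ᵥ v) i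
  rw [map_mul, aeval_C, map_pow, aeval_X, Algebra.algebraMap_eq_smul_one, smul_mul, one_mul,
    smul_mulVec, Pi.smul_apply, smul_eq_mul, mul_comm]
  rfl

theorem coord_pow_det {c : Fin n → A} {K : Matrix (Fin n) (Fin n) ℤ}
    (h : ∀ k, chi c (fun i => K i k) = 1) (j : Fin n) : c j ^ K.det = 1 := by
  rw [← chi_single c j, ← chi_smul,
    show K.det • (Pi.single j 1 : Fin n → ℤ) = K *ᵥ (K.adjugate *ᵥ Pi.single j 1) by
      rw [mulVec_mulVec, mul_adjugate, smul_mulVec, one_mulVec], chi_mulVec]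
  exact Finset.prod_eq_one fun k _ => by rw [h k, _root_.one_zpow]

theorem Twist.coord_pow_det {c : Fin n → A} {M : Matrix (Fin n) (Fin n) ℤ} {q : ℕ} (h : Twist c M q)
    {v : Fin n → ℤ} (hv : chi c v = 1) (j : Fin n) : c j ^ (krylov M v).det = 1 := by
  refine CoxTorus.coord_pow_det (fun k => ?_) j
  show chi c ((M ^ (k : ℕ)) *ᵥ v) = 1
  have e := h.aeval (X ^ (k : ℕ)) v
  rw [map_pow, aeval_X] at e
  rw [e, hv, _root_.one_zpow]

/-! ### The characteristic polynomial -/

theorem aeval_map_rat (M : Matrix (Fin n) (Fin n) ℤ) (p : ℤ[X]) :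
    aeval ((Int.castRingHom ℚ).mapMatrix M) (p.map (Int.castRingHom ℚ)) =
      (Int.castRingHom ℚ).mapMatrix (aeval M p) := by
  rw [show (Int.castRingHom ℚ) = algebraMap ℤ ℚ from rfl, aeval_map_algebraMap]
  exact aeval_algHom_apply ((algebraMap ℤ ℚ).mapMatrix (m := Fin n)).toIntAlgHom M p

theorem mapMatrix_rat_injective :
    Function.Injective ((Int.castRingHom ℚ).mapMatrix (m := Fin n)) :=
  Matrix.map_injective Int.cast_injective

variable {d q r : ℕ}

theorem aeval_cyclotomic_eq_zero [Fact r.Prime] {M : Matrix (Fin n) (Fin n) ℤ} {c : Fin n → A}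
    (hn : n = Nat.totient d) (hd : 0 < d) {e : ℕ} (he : 0 < e) (hre : ¬ r ∣ e) (hMe : M ^ e = 1)
    (hq : IsPrimitiveRoot ((q : ℤ) : ZMod r) d) (hc : Twist c M q) {j : Fin n} (hj : orderOf (c j) = r) :
    aeval M (cyclotomic d ℤ) = 0 := by
  classical
  set H : ℤ[X] := ∏ k ∈ (Nat.divisors e).erase d, cyclotomic k ℤ with hH
  have hzero : aeval M (H * cyclotomic d ℤ) = 0 := by
    have h1 : aeval M (∏ k ∈ Nat.divisors e, cyclotomic k ℤ) = 0 := by
      rw [prod_cyclotomic_eq_X_pow_sub_one he, map_sub, map_pow, aeval_X, map_one, hMe, sub_self]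
    by_cases hde : d ∈ Nat.divisors e
    · rwa [hH, mul_comm, Finset.mul_prod_erase _ (fun k => cyclotomic k ℤ) hde]
    · rw [hH, Finset.erase_eq_of_notMem hde, map_mul, h1, zero_mul]
  have hne : ((H.eval (q : ℤ) : ℤ) : ZMod r) ≠ 0 := by
    rw [hH, eval_prod, Int.cast_prod]
    refine Finset.prod_ne_zero_iff.2 fun k hk h => ?_
    obtain ⟨hkd, hk⟩ := Finset.mem_erase.1 hk
    haveI : NeZero ((k : ℕ) : ZMod r) := ⟨fun h0 => hre
      (((ZMod.natCast_eq_zero_iff k r).1 h0).trans (Nat.dvd_of_mem_divisors hk))⟩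
    have e1 : IsRoot (cyclotomic k (ZMod r)) ((q : ℤ) : ZMod r) := by
      rw [← map_cyclotomic k (Int.castRingHom (ZMod r)), IsRoot.def,
        ← eq_intCast (Int.castRingHom (ZMod r)) (q : ℤ), eval_map, eval₂_at_apply, eq_intCast]
      exact h
    exact hkd (hq.unique (isRoot_cyclotomic_iff.1 e1)).symm
  by_contra hΦ
  set MQ := (Int.castRingHom ℚ).mapMatrix M with hMQ
  have hH0 : aeval M H = 0 := by
    refine mapMatrix_rat_injective ?_
    rw [map_zero, ← aeval_map_rat, ← hMQ]
    have hirr : Irreducible (cyclotomic d ℚ) := cyclotomic.irreducible_rat hd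
    by_cases h : ¬ cyclotomic d ℚ ∣ MQ.charpoly
    · obtain ⟨u, w, huw⟩ := hirr.coprime_iff_not_dvd.2 h
      have h1 : aeval MQ u * aeval MQ (cyclotomic d ℚ) = 1 := by
        have := congrArg (aeval MQ) huw
        rw [map_add, map_mul, map_mul, aeval_self_charpoly, mul_zero, add_zero, map_one] at this
        exact this
      have h2 : aeval MQ (cyclotomic d ℚ) * aeval MQ (H.map (Int.castRingHom ℚ)) = 0 := by
        rw [← map_mul, ← map_cyclotomic_int d ℚ, ← Polynomial.map_mul, mul_comm, hMQ, aeval_map_rat,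
          hzero, map_zero]
      calc _ = aeval MQ u * (aeval MQ (cyclotomic d ℚ) * aeval MQ (H.map (Int.castRingHom ℚ))) := by
            rw [← mul_assoc, h1, one_mul]
        _ = 0 := by rw [h2, mul_zero]
    · exfalso
      refine hΦ (mapMatrix_rat_injective ?_)
      rw [map_zero, ← aeval_map_rat, ← hMQ, map_cyclotomic_int]
      obtain ⟨t, ht⟩ := not_not.1 h
      have := aeval_self_charpoly MQ
      rw [ht, map_mul] at this
      have hdeg : t = 1 := by
        refine eq_one_of_monic_natDegree_zero (Monic.of_mul_monic_left (cyclotomic.monic d ℚ)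
          (ht ▸ charpoly_monic MQ)) ?_
        have h3 := congrArg natDegree ht
        have ht0 : t ≠ 0 := fun h0 => (charpoly_monic MQ).ne_zero (by rw [ht, h0, mul_zero])
        rw [charpoly_natDegree_eq_dim, natDegree_mul (cyclotomic_ne_zero d ℚ) ht0,
          natDegree_cyclotomic, Fintype.card_fin] at h3
        omega
      rwa [hdeg, map_one, mul_one] at this
  have hdvd := hc.aeval H (Pi.single j 1)
  rw [hH0, zero_mulVec, chi_zero, chi_single] at hdvd
  have := orderOf_dvd_iff_zpow_eq_one.2 hdvd.symm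
  rw [hj] at this
  exact hne ((ZMod.intCast_zmod_eq_zero_iff_dvd _ _).2 this)

theorem krylov_det_ne_zero {M : Matrix (Fin n) (Fin n) ℤ} (hn : n = Nat.totient d) (hd : 0 < d)
    (hΦ : aeval M (cyclotomic d ℤ) = 0) {v : Fin n → ℤ} (hv : v ≠ 0) :
    (krylov M v).det ≠ 0 := by
  intro h0
  obtain ⟨a, ha, hK⟩ := exists_mulVec_eq_zero_iff.2 h0
  set p : ℤ[X] := ∑ k : Fin n, C (a k) * X ^ (k : ℕ) with hp
  rw [krylov_mulVec, ← hp] at hK
  set pQ := p.map (Int.castRingHom ℚ) with hpQ
  have hp0 : pQ ≠ 0 := by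
    rw [hpQ, Ne, Polynomial.map_eq_zero_iff Int.cast_injective]
    intro e
    refine ha (funext fun j => ?_)
    have := congrArg (fun f : ℤ[X] => f.coeff (j : ℕ)) e
    simpa [hp, finset_sum_coeff, coeff_X_pow, Fin.val_inj] using this
  have hlt : pQ.natDegree < n := by
    obtain ⟨j, hj⟩ : ∃ j, a j ≠ 0 := by
      by_contra hc
      exact ha (funext fun j => not_not.1 fun h => hc ⟨j, h⟩)
    have : p.natDegree ≤ n - 1 := natDegree_sum_le_of_forall_le _ _ fun k _ =>
      (natDegree_C_mul_X_pow_le _ _).trans (by omega)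
    have := natDegree_map_le (f := Int.castRingHom ℚ) (p := p)
    have := j.isLt
    rw [hpQ]
    omega
  have hirr : Irreducible (cyclotomic d ℚ) := cyclotomic.irreducible_rat hd
  obtain ⟨u, w, huw⟩ := (hirr.coprime_iff_not_dvd (n := pQ)).2 (by
    intro h
    have := natDegree_le_of_dvd h hp0
    rw [natDegree_cyclotomic] at this
    omega)
  set MQ := (Int.castRingHom ℚ).mapMatrix M with hMQ
  set vQ : Fin n → ℚ := fun i => (v i : ℚ) with hvQ
  have h1 : aeval MQ pQ *ᵥ vQ = 0 := by
    rw [hpQ, hMQ, aeval_map_rat]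
    funext i
    have := RingHom.map_mulVec (Int.castRingHom ℚ) (aeval M p) v i
    rw [hK] at this
    simpa [hvQ, Function.comp_def] using this.symm
  have h2 : aeval MQ (cyclotomic d ℚ) = 0 := by
    rw [← map_cyclotomic_int, hMQ, aeval_map_rat, hΦ, map_zero]
  have h3 : vQ = 0 := by
    have := congrArg (fun f => aeval MQ f *ᵥ vQ) huw
    simp only [map_add, map_mul, h2, mul_zero, zero_add, map_one, one_mulVec, ← mulVec_mulVec, h1,
      mulVec_zero] at this
    exact this.symm
  refine hv (funext fun i => ?_)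
  have := congrFun h3 i
  simpa [hvQ] using this

/-! ### The group of compatible characters -/

variable (n) in
/-- The characters on which the matrix acts as a power. -/
def twistGroup (A : Type*) [CommGroup A] (M : Matrix (Fin n) (Fin n) ℤ) (q : ℕ) :
    Subgroup (Fin n → A) where
  carrier := {c | Twist c M q}
  one_mem' x := by simp [chi_one_left]
  mul_mem' {a b} ha hb x := by rw [chi_mul, chi_mul, ha, hb, mul_pow]
  inv_mem' {a} ha x := by rw [chi_inv_left, chi_inv_left, ha, inv_pow]

theorem twistGroup_cyclic_poly [IsCyclic A] [Finite A] {M : Matrix (Fin n) (Fin n) ℤ}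
    {P : ℤ[X]} (hmon : P.Monic) (hn : P.natDegree = n) (hn0 : 0 < n)
    (hΦ : aeval M P = 0) {N : ℕ} (hN : P.eval (q : ℤ) = N)
    (hNA : N ∣ Nat.card A) {v : Fin n → ℤ} (hv : IsCoprime (krylov M v).det (N : ℤ)) :
    IsCyclic ↥(twistGroup n A M q) ∧ Nat.card ↥(twistGroup n A M q) = N := by
  classical
  haveI : Fintype A := Fintype.ofFinite A
  have hN0 : 0 < N := Nat.pos_of_dvd_of_pos hNA Nat.card_pos
  let ev : ↥(twistGroup n A M q) →* A :=
    { toFun := fun c => chi c.1 v
      map_one' := chi_one_left v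
      map_mul' := fun a b => chi_mul a.1 b.1 v }
  have hkill : ∀ (c : ↥(twistGroup n A M q)) x, chi c.1 x ^ (N : ℤ) = 1 := by
    intro c x
    rw [← hN, ← Twist.aeval c.2 (P) x, hΦ, zero_mulVec, chi_zero]
  have hinj : Function.Injective ev := by
    refine (injective_iff_map_eq_one ev).2 fun c hc => Subtype.ext (funext fun j => ?_)
    obtain ⟨u, w, huw⟩ := hv
    have h1 := Twist.coord_pow_det c.2 (show chi c.1 v = 1 from hc) j
    have h2 := hkill c (Pi.single j 1)
    rw [chi_single] at h2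
    show c.1 j = 1
    rw [← zpow_one (c.1 j), ← huw, _root_.zpow_add, mul_comm u, mul_comm w, _root_.zpow_mul,
      _root_.zpow_mul, h1, h2, _root_.one_zpow, _root_.one_zpow, one_mul]
  refine ⟨isCyclic_of_injective ev hinj, le_antisymm ?_ ?_⟩
  · calc Nat.card ↥(twistGroup n A M q) ≤ Nat.card {a : A // a ^ N = 1} :=
          Nat.card_le_card_of_injective (fun c => ⟨ev c, by
            have := hkill c v
            rwa [zpow_natCast] at this⟩) fun a b h => hinj (congrArg Subtype.val h)
      _ ≤ N := by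
        rw [Nat.card_eq_fintype_card, Fintype.card_subtype]
        exact IsCyclic.card_pow_eq_one_le hN0
  · obtain ⟨z, hz⟩ := IsCyclic.exists_ofOrder_eq_natCard (α := A)
    set a := z ^ (Nat.card A / N) with ha'
    have hoa : orderOf a = N := by
      rw [ha', orderOf_pow_of_dvd (Nat.ne_of_gt (Nat.div_pos (Nat.le_of_dvd Nat.card_pos hNA) hN0))
        (by rw [hz]; exact Nat.div_dvd_of_dvd hNA), hz, Nat.div_div_self hNA Nat.card_pos.ne']
    set K := krylov M v with hK
    set δ := K.det with hδ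
    set ε : (Fin n → ℤ) → ℤ := fun x => (fun k : Fin n => (q : ℤ) ^ (k : ℕ)) ⬝ᵥ (K.adjugate *ᵥ x)
      with hε
    have hlow : ∀ b : Fin n → ℤ,
        ε (K *ᵥ b) = δ * eval (q : ℤ) (∑ k, C (b k) * X ^ (k : ℕ)) := by
      intro b
      simp only [hε, mulVec_mulVec, adjugate_mul, smul_mulVec, one_mulVec, dotProduct_smul,
        smul_eq_mul, eval_finset_sum, eval_mul, eval_C, eval_pow, eval_X, dotProduct, ← hδ]
      rw [Finset.mul_sum]
      refine Finset.sum_congr rfl fun k _ => ?_
      rw [Pi.smul_apply, smul_eq_mul]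
      ring
    have hpoly : ∀ p : ℤ[X], (N : ℤ) ∣ ε (aeval M p *ᵥ v) - δ * p.eval (q : ℤ) := by
      intro p
      set s := p %ₘ P with hs
      have hps : p = s + P * (p /ₘ P) := (modByMonic_add_div p _).symm
      have hdeg : s.natDegree < n := by
        have hne : P ≠ 1 := fun h => by rw [h, natDegree_one] at hn; omega
        exact hn ▸ natDegree_modByMonic_lt p hmon hne
      have hsum : s = ∑ k : Fin n, C (s.coeff k) * X ^ (k : ℕ) := by
        conv_lhs => rw [s.as_sum_range_C_mul_X_pow' hdeg]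
        rw [Finset.sum_range]
      have e : aeval M p *ᵥ v = aeval M s *ᵥ v := by
        conv_lhs => rw [hps]
        rw [map_add, map_mul, hΦ, zero_mul, add_zero]
      rw [e, hsum, ← krylov_mulVec, ← hK, hlow, ← hsum]
      conv in p.eval (q : ℤ) => rw [hps]
      rw [eval_add, eval_mul, hN, mul_add, sub_add_cancel_left, dvd_neg]
      exact dvd_mul_of_dvd_right (dvd_mul_right _ _) _
    have hsm : ∀ (k : ℤ) (x : Fin n → ℤ), ε (k • x) = k * ε x := fun k x => by
      simp only [hε]
      rw [mulVec_smul, dotProduct_smul, smul_eq_mul]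
    have hrel : ∀ x, (N : ℤ) ∣ ε (M *ᵥ x) - q * ε x := by
      intro x
      set p : ℤ[X] := ∑ k : Fin n, C ((K.adjugate *ᵥ x) k) * X ^ (k : ℕ) with hp
      have hx : δ • x = aeval M p *ᵥ v := by
        rw [hp, ← krylov_mulVec, ← hK, mulVec_mulVec, mul_adjugate, smul_mulVec, one_mulVec, hδ]
      have h1 := hpoly (X * p)
      rw [map_mul, aeval_X, ← mulVec_mulVec, ← hx, mulVec_smul, hsm, eval_mul, eval_X] at h1
      have h2 := hpoly p
      rw [← hx, hsm] at h2
      have h3 : (N : ℤ) ∣ δ * (ε (M *ᵥ x) - q * ε x) := by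
        have h4 := dvd_sub h1 (dvd_mul_of_dvd_right h2 (q : ℤ))
        refine (congrArg _ ?_).mp h4
        ring
      exact hv.symm.dvd_of_dvd_mul_left h3
    let e : Fin n → ℤ := fun j => ε (Pi.single j 1)
    have hex : ∀ x, e ⬝ᵥ x = ε x := by
      intro x
      simp only [e, hε, dotProduct_mulVec, dotProduct_single, mul_one]
    let c : ↥(twistGroup n A M q) := ⟨fun j => a ^ e j, fun x => by
      rw [chi_zpow_left, chi_zpow_left, hex, hex, ← zpow_natCast, ← _root_.zpow_mul,
        zpow_eq_zpow_iff_modEq, hoa]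
      refine (Int.modEq_iff_dvd.2 ?_).symm
      rw [mul_comm (ε x)]
      exact hrel x⟩
    have hev : ev c = a ^ δ := by
      show chi c.1 v = _
      rw [chi_zpow_left, hex, zpow_eq_zpow_iff_modEq, hoa]
      refine (Int.modEq_iff_dvd.2 ?_).symm
      simpa using hpoly 1
    have hord : orderOf (a ^ δ) = N := by
      refine Nat.dvd_antisymm ?_ ?_
      · rw [← hoa]
        refine orderOf_dvd_of_pow_eq_one ?_
        rw [← zpow_natCast, ← _root_.zpow_mul, mul_comm, _root_.zpow_mul, zpow_natCast,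
          pow_orderOf_eq_one, _root_.one_zpow]
      · rw [← Int.natCast_dvd_natCast]
        have h : a ^ (δ * orderOf (a ^ δ)) = 1 := by
          rw [_root_.zpow_mul, zpow_natCast, pow_orderOf_eq_one]
        have := orderOf_dvd_iff_zpow_eq_one.2 h
        rw [hoa] at this
        exact hv.symm.dvd_of_dvd_mul_left this
    calc N = orderOf (ev c) := by rw [hev, hord]
      _ = orderOf c := orderOf_injective ev hinj c
      _ ≤ _ := orderOf_le_card

theorem twistGroup_cyclic [IsCyclic A] [Finite A] {M : Matrix (Fin n) (Fin n) ℤ}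
    (hn : n = Nat.totient d) (hd : 0 < d)
    (hΦ : aeval M (cyclotomic d ℤ) = 0) {N : ℕ} (hN : (cyclotomic d ℤ).eval (q : ℤ) = N)
    (hNA : N ∣ Nat.card A) {v : Fin n → ℤ} (hv : IsCoprime (krylov M v).det (N : ℤ)) :
    IsCyclic ↥(twistGroup n A M q) ∧ Nat.card ↥(twistGroup n A M q) = N :=
  twistGroup_cyclic_poly (cyclotomic.monic d ℤ) (by rw [natDegree_cyclotomic, hn])
    (hn ▸ Nat.totient_pos.2 hd) hΦ hN hNA hv

/-- The matrix has a nonzero integral eigenvector for the primitive roots. -/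
theorem exists_cyclotomic_vec [Fact r.Prime] {M : Matrix (Fin n) (Fin n) ℤ} {c : Fin n → A}
    {e : ℕ} (he : 0 < e) (hre : ¬ r ∣ e) (hMe : M ^ e = 1)
    (hq : IsPrimitiveRoot ((q : ℤ) : ZMod r) d) (hc : Twist c M q) {j : Fin n} (hj : orderOf (c j) = r) :
    ∃ y ≠ 0, aeval M (cyclotomic d ℤ) *ᵥ y = 0 := by
  classical
  refine exists_mulVec_eq_zero_iff.2 ?_
  set H : ℤ[X] := ∏ k ∈ (Nat.divisors e).erase d, cyclotomic k ℤ with hH
  have hzero : aeval M (cyclotomic d ℤ * H) = 0 := by
    have h1 : aeval M (∏ k ∈ Nat.divisors e, cyclotomic k ℤ) = 0 := by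
      rw [prod_cyclotomic_eq_X_pow_sub_one he, map_sub, map_pow, aeval_X, map_one, hMe, sub_self]
    by_cases hde : d ∈ Nat.divisors e
    · rwa [hH, Finset.mul_prod_erase _ (fun k => cyclotomic k ℤ) hde]
    · rw [hH, Finset.erase_eq_of_notMem hde, map_mul, h1, mul_zero]
  by_contra hdet
  have hH0 : aeval M H = 0 := by
    have h1 := congrArg (fun Z => (aeval M (cyclotomic d ℤ)).adjugate * Z) hzero
    simp only [map_mul, ← Matrix.mul_assoc, adjugate_mul, smul_mul, Matrix.one_mul, Matrix.mul_zero] at h1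
    exact (smul_eq_zero.1 h1).resolve_left hdet
  have hne : ((H.eval (q : ℤ) : ℤ) : ZMod r) ≠ 0 := by
    rw [hH, eval_prod, Int.cast_prod]
    refine Finset.prod_ne_zero_iff.2 fun k hk h => ?_
    obtain ⟨hkd, hk⟩ := Finset.mem_erase.1 hk
    haveI : NeZero ((k : ℕ) : ZMod r) := ⟨fun h0 => hre
      (((ZMod.natCast_eq_zero_iff k r).1 h0).trans (Nat.dvd_of_mem_divisors hk))⟩
    have e1 : IsRoot (cyclotomic k (ZMod r)) ((q : ℤ) : ZMod r) := by
      rw [← map_cyclotomic k (Int.castRingHom (ZMod r)), IsRoot.def,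
        ← eq_intCast (Int.castRingHom (ZMod r)) (q : ℤ), eval_map, eval₂_at_apply, eq_intCast]
      exact h
    exact hkd (hq.unique (isRoot_cyclotomic_iff.1 e1)).symm
  have hdvd := hc.aeval H (Pi.single j 1)
  rw [hH0, zero_mulVec, chi_zero, chi_single] at hdvd
  have := orderOf_dvd_iff_zpow_eq_one.2 hdvd.symm
  rw [hj] at this
  exact hne ((ZMod.intCast_zmod_eq_zero_iff_dvd _ _).2 this)

end Cfsg.Agent.CoxTorus
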