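import Cfsg.Agent.Lib.CoxTorus.Diag
import Cfsg.Agent.Lib.Lie.CovCenter
import Cfsg.Agent.Lib.ChevAut.SubfieldGroup

/-! Field change and the torus in the group given by Steinberg's relations. -/

set_option autoImplicit false
set_option maxRecDepth 8000

namespace Cfsg.Agent.CoxTorus

open Cfsg.Lie Cfsg.Agent.Chev Cfsg.Agent.Chev.Tab Cfsg.Agent.ChevAut
open scoped Matrix

variable {T : Tab} {K : List (List ℕ)} {W : List (ℕ × ℕ × ℕ)} {F E : Type*} [Field F] [Field E]

theorem lift_stX (D : ChevalleyDatum) (φ : F →+* E) (r : ℕ) (t : F) :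
    FreeGroup.map (fun p : Fin D.nroots × F => (p.1, φ p.2)) (D.stX r t) = D.stX r (φ t) := by
  by_cases hr : r < D.nroots
  · simp [ChevalleyDatum.stX, hr]
  · simp [ChevalleyDatum.stX, hr]

theorem lift_stWord (D : ChevalleyDatum) (φ : F →+* E) (w : List (ℕ × F)) :
    FreeGroup.map (fun p : Fin D.nroots × F => (p.1, φ p.2)) (D.stWord w) =
      D.stWord (w.map fun e => (e.1, φ e.2)) := by
  rw [ChevalleyDatum.stWord, map_list_prod, List.map_map, ChevalleyDatum.stWord, List.map_map]
  exact congrArg List.prod (List.map_congr_left fun e _ => lift_stX D φ _ _)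

theorem lift_stH (D : ChevalleyDatum) (φ : F →+* E) (r : ℕ) (t : F) :
    FreeGroup.map (fun p : Fin D.nroots × F => (p.1, φ p.2)) (D.stH r t) = D.stH r (φ t) := by
  rw [ChevalleyDatum.stH, lift_stWord]
  simp [ChevalleyDatum.stH, ChevalleyDatum.hWord, ChevalleyDatum.nWord, map_neg, map_inv₀]

theorem lift_rel (D : ChevalleyDatum) (φ : F →+* E) {x : FreeGroup (Fin D.nroots × F)}
    (hx : x ∈ D.steinbergRels F) :
    FreeGroup.map (fun p : Fin D.nroots × F => (p.1, φ p.2)) x ∈ D.steinbergRels E := by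
  rcases hx with ((⟨r, a, b, hr, rfl⟩ | ⟨r, s, t, u, hr, hs, h1, h2, rfl⟩) | ⟨r, a, b, hr, ha, hb, rfl⟩)
  · refine Or.inl (Or.inl ⟨r, φ a, φ b, hr, ?_⟩)
    simp only [map_mul, map_inv, lift_stX, map_add]
  · refine Or.inl (Or.inr ⟨r, s, φ t, φ u, hr, hs, h1, h2, ?_⟩)
    simp only [map_mul, map_inv, lift_stX, lift_stWord, ChevalleyDatum.commWord, List.map_map,
      Function.comp_def, map_intCast, map_pow, map_neg]
  · refine Or.inr ⟨r, φ a, φ b, hr, ?_, ?_, ?_⟩
    · exact (map_ne_zero φ).2 ha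
    · exact (map_ne_zero φ).2 hb
    · simp only [map_mul, map_inv, lift_stH]

variable (T) in
/-- Change of field on the group of Steinberg's relations. -/
noncomputable def stMap (φ : F →+* E) : T.D.SteinbergGroup F →* T.D.SteinbergGroup E :=
  PresentedGroup.toGroup (rels := T.D.steinbergRels F)
    (f := fun p => (PresentedGroup.of (p.1, φ p.2) : T.D.SteinbergGroup E)) fun x hx => by
      have e : FreeGroup.lift (fun p : Fin T.D.nroots × F =>
          (PresentedGroup.of (p.1, φ p.2) : T.D.SteinbergGroup E)) =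
          (PresentedGroup.mk (T.D.steinbergRels E)).comp
            (FreeGroup.map fun p : Fin T.D.nroots × F => (p.1, φ p.2)) :=
        FreeGroup.ext_hom _ _ fun p => by rw [FreeGroup.lift_apply_of]; simp; rfl
      rw [e]
      exact PresentedGroup.one_of_mem (lift_rel T.D φ hx)

theorem stMap_sx (g : T.Good) (φ : F →+* E) (r : ℕ) (t : F) :
    stMap T φ (sx T F r t) = sx T E r (φ t) := by
  by_cases hr : r < T.D.nroots
  · rw [sx, sx, ChevalleyDatum.stGen, ChevalleyDatum.stGen, ChevalleyDatum.stX, ChevalleyDatum.stX,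
      dif_pos hr, dif_pos hr]
    exact PresentedGroup.toGroup.of _
  · simp [sx, ChevalleyDatum.stGen, ChevalleyDatum.stX, hr]

theorem stMap_sn (g : T.Good) (φ : F →+* E) (r : ℕ) (t : F) :
    stMap T φ (sn T F r t) = sn T E r (φ t) := by
  simp only [sn, map_mul, stMap_sx g, map_neg, map_inv₀]

theorem stMap_sW (g : T.Good) (φ : F →+* E) (L : List ℕ) : stMap T φ (sW T F L) = sW T E L := by
  rw [sW, map_list_prod, List.map_map, sW]
  exact congrArg List.prod (List.map_congr_left fun i _ => by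
    simp [Function.comp_def, stMap_sn g])

theorem stMap_hT (g : T.GoodW K W) (φ : F →+* E) (c : ℕ → Fˣ) :
    stMap T φ (hT g F c) = hT g E fun j => Units.map φ.toMonoidHom (c j) := by
  show stMap T φ (hP T F (List.range T.l) c) = hP T E (List.range T.l) _
  rw [hP, map_list_prod, List.map_map, hP]
  exact congrArg List.prod (List.map_congr_left fun i _ => by
    simp [hb, sh, stMap_sn g.toGood])

theorem θ0_stMap (g : T.GoodA) (φ : F →+* E) (x : T.D.SteinbergGroup F) :
    θ0 g E (stMap T φ x) = fieldMap T φ (θ0 g F x) := by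
  have e : (θ0 g E).comp (stMap T φ) = (fieldMap T φ).comp (θ0 g F) := by
    refine PresentedGroup.ext fun p => ?_
    have hp : (PresentedGroup.of p : T.D.SteinbergGroup F) = sx T F p.1 p.2 := by
      rw [sx, ChevalleyDatum.stGen, ChevalleyDatum.stX, dif_pos p.1.isLt]; rfl
    rw [MonoidHom.comp_apply, MonoidHom.comp_apply, hp, stMap_sx g.toGood, θ0_sx, θ0_sx, fieldMap_xg]
  exact DFunLike.congr_fun e x

theorem stMap_comp {L : Type*} [Field L] (g : T.Good) (φ : F →+* E) (ψ : E →+* L)
    (x : T.D.SteinbergGroup F) : stMap T ψ (stMap T φ x) = stMap T (ψ.comp φ) x := by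
  have e : (stMap T ψ).comp (stMap T φ) = stMap T (ψ.comp φ) := by
    refine PresentedGroup.ext fun p => ?_
    have hp : (PresentedGroup.of p : T.D.SteinbergGroup F) = sx T F p.1 p.2 := by
      rw [sx, ChevalleyDatum.stGen, ChevalleyDatum.stX, dif_pos p.1.isLt]; rfl
    rw [MonoidHom.comp_apply, hp, stMap_sx g, stMap_sx g, stMap_sx g]
    rfl
  exact DFunLike.congr_fun e x

/-- The torus parameters are determined by the element, through the embedding into a unimodular type. -/
theorem hT_inj [Finite F] {U : Tab} {P : ℕ} {MU : List (List ℤ)} (g : T.GoodW K W) (gU : U.GoodA)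
    (hemb : checkEmb T U P = true) (hMU : checkDual U 1 MU = true) {c c' : ℕ → Fˣ}
    (h : hT g F c = hT g F c') {j : ℕ} (hj : j < T.l) : c j = c' j := by
  classical
  have hl : T.l < U.l := by
    simp only [checkEmb, Bool.and_eq_true, nat_blt] at hemb
    exact hemb.1.1
  obtain ⟨Ψ, hΨ⟩ := Cov.exists_emb (F := F) g.toGoodA gU hemb
  set e : ℕ → Fˣ := c / c' with he
  have he1 : hT g F e = 1 := by rw [he, map_div, h, div_self']
  set z := ((List.range T.l).map fun i => Cov.sh T F (T.smp i) ((e i : Fˣ) : F)).prod with hz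
  have hproj : Cov.proj T F z = 1 := by
    rw [hz, map_list_prod, List.map_map, ← he1]
    refine congrArg List.prod (List.map_congr_left fun i _ => ?_)
    show Cov.proj T F (Cov.sh T F (T.smp i) _) = hb T F i (e i)
    simp [Cov.sh, Cov.sn, hb, sh, sn, Cov.proj_sx g.toGood]
  rw [← map_one (Cov.proj T F)] at hproj
  have h2 := congrArg Ψ ((Cov.proj_bijective g).1 hproj)
  rw [hz, map_one, map_list_prod, List.map_map, Function.comp_def,
    List.map_congr_left (g := fun i => tor U F (Pi.mulSingle i (e i)))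
      (fun i hi => hΨ i (List.mem_range.1 hi) _)] at h2
  have h3 : tor U F (((List.range T.l).map fun i => Pi.mulSingle i (e i)).prod) = tor U F 1 := by
    rw [map_list_prod, List.map_map, map_one]; exact h2
  have h4 := tor_inj gU.toGood hMU h3 (show j < U.l by omega)
  have h5 : ∀ n, (((List.range n).map fun i => (Pi.mulSingle i (e i) : ℕ → Fˣ)).prod) j =
      if j < n then e j else 1 := by
    intro n
    induction n with
    | zero => simp
    | succ n ih =>
      rw [List.range_succ, List.map_append, List.prod_append, Pi.mul_apply, ih]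
      simp only [List.map_cons, List.map_nil, List.prod_cons, List.prod_nil, mul_one]
      rcases lt_trichotomy j n with hjn | hjn | hjn
      · rw [if_pos hjn, if_pos (by omega), Pi.mulSingle_eq_of_ne hjn.ne, mul_one]
      · subst hjn; rw [if_neg (lt_irrefl j), if_pos (by omega), Pi.mulSingle_eq_same, one_mul]
      · rw [if_neg (by omega), if_neg (by omega), Pi.mulSingle_eq_of_ne (by omega), mul_one]
  rw [h5, if_pos hj] at h4
  exact div_eq_one.1 h4

theorem hT_congr (g : T.GoodW K W) {c c' : ℕ → Fˣ} (h : ∀ j < T.l, c j = c' j) :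
    hT g F c = hT g F c' := by
  show hP T F (List.range T.l) c = hP T F (List.range T.l) c'
  rw [hP, hP]
  exact congrArg List.prod (List.map_congr_left fun i hi => by rw [h i (List.mem_range.1 hi)])

theorem sn_conj_hT_eq (g : T.GoodW K W) {j : ℕ} (hj : j < T.l) (c : ℕ → Fˣ) :
    sn T F (T.smp j) (1 : F) * hT g F c * (sn T F (T.smp j) (1 : F))⁻¹ =
      hT g F (c * Pi.mulSingle j (wt T F c⁻¹ (T.smp j))) := by
  have hg := g.toGood
  have hp := hg.smp_lt hj
  have h : (hT g F c)⁻¹ * sn T F (T.smp j) 1 * hT g F c =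
      sn T F (T.smp j) ((wt T F c⁻¹ (T.smp j) : Fˣ) : F) := by
    have e : ∀ a x y z : T.D.SteinbergGroup F, a * (x * y * z) * a⁻¹ =
        (a * x * a⁻¹) * (a * y * a⁻¹) * (a * z * a⁻¹) := fun a x y z => by group
    have h2 : hT g F c⁻¹ * sn T F (T.smp j) (1 : F) * (hT g F c⁻¹)⁻¹ =
        sn T F (T.smp j) ((wt T F c⁻¹ (T.smp j) : Fˣ) : F) := by
      rw [sn, e, hT_conj_sx g _ hp, hT_conj_sx g _ (Tab.neg_lt hp), wt_neg hg hp, sn]
      simp [Units.val_inv_eq_inv_val]
    rwa [map_inv, inv_inv] at h2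
  rw [map_mul, hT_single g hj, mul_inv_eq_iff_eq_mul, mul_assoc, hb, ← sn_eq_sh hg, ← h]
  group

theorem chi_conj_simple (c : ℕ → Fˣ) {i : ℕ} (hi : i < T.l) (x : Fin T.l → ℤ) :
    chi (fun j : Fin T.l => (c * Pi.mulSingle i (wt T F c⁻¹ (T.smp i)) : ℕ → Fˣ) j) x =
      chi (fun j : Fin T.l => c j) (rmat T i *ᵥ x) := by
  classical
  have e : rmat T i *ᵥ x = x + (-x ⟨i, hi⟩) • avec T (T.smp i) := by
    funext a
    simp only [Matrix.mulVec, dotProduct, rmat, Matrix.of_apply, sub_mul, ite_mul, one_mul, zero_mul,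
      Finset.sum_sub_distrib, Finset.sum_ite_eq, Finset.mem_univ, if_true, Pi.add_apply, Pi.smul_apply,
      smul_eq_mul]
    rw [Finset.sum_eq_single (⟨i, hi⟩ : Fin T.l)]
    · simp [avec]; ring
    · intro b _ hb
      rw [if_neg fun e => hb (Fin.ext e)]
    · simp
  rw [e, chi_add, chi_smul,
    show (fun j : Fin T.l => (c * Pi.mulSingle i (wt T F c⁻¹ (T.smp i)) : ℕ → Fˣ) j) =
      (fun j : Fin T.l => c j) * fun j : Fin T.l =>
        (Pi.mulSingle i (wt T F c⁻¹ (T.smp i)) : ℕ → Fˣ) j from rfl, chi_mul]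
  congr 1
  rw [chi, Finset.prod_eq_single (⟨i, hi⟩ : Fin T.l)]
  · rw [Pi.mulSingle_eq_same, _root_.zpow_neg, ← wt_eq_chi,
      show wt T F c⁻¹ (T.smp i) = (wt T F c (T.smp i))⁻¹ by simp [wt, Finset.prod_inv_distrib],
      _root_.inv_zpow]
  · intro b _ hb
    rw [Pi.mulSingle_eq_of_ne (fun e => hb (Fin.ext e)), _root_.one_zpow]
  · simp

/-- Conjugation by a word, exactly. -/
theorem sW_conj_hT_eq (g : T.GoodW K W) : ∀ {L : List ℕ}, T.Wd L → ∀ c : ℕ → Fˣ,
    ∃ c', sW T F L * hT g F c * (sW T F L)⁻¹ = hT g F c' ∧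
      ∀ x, chi (fun j : Fin T.l => c' j) x = chi (fun j : Fin T.l => c j) (wmat T L.reverse *ᵥ x)
  | [], _, c => ⟨c, by simp [sW], fun x => by simp⟩
  | i :: L, h, c => by
    obtain ⟨hi, hL⟩ := Wd.cons_iff.1 h
    obtain ⟨c', hc', hchi⟩ := sW_conj_hT_eq g hL c
    refine ⟨_, ?_, fun x => (chi_conj_simple c' hi x).trans ?_⟩
    · rw [sW_cons, show ∀ a b y : T.D.SteinbergGroup F, a * b * y * (a * b)⁻¹ = a * (b * y * b⁻¹) * a⁻¹
        from fun a b y => by group, hc', sn_conj_hT_eq g hi]
    · rw [hchi, List.reverse_cons, wmat_append, wmat_cons, wmat_nil, mul_one, Matrix.mulVec_mulVec]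

end Cfsg.Agent.CoxTorus
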