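import Cfsg.Agent.Lib.CoxTorus.SC
import Cfsg.Agent.Lib.CoxTorus.Main

/-! A cyclic self-centralising torus, through the group of Steinberg's relations. -/

set_option autoImplicit false

namespace Cfsg.Agent.CoxTorus

open Cfsg.Lie Cfsg.Agent.Chev Cfsg.Agent.Chev.Tab Cfsg.Agent.ChevAut Polynomial
open scoped Matrix

variable {T : Tab} {K : List (List ℕ)} {W : List (ℕ × ℕ × ℕ)}

theorem coord_pow_eq_one {E : Type*} [Field E] (g : T.Good) {dd : ℕ} {M : List (List ℤ)}
    (hM : checkDual T dd M = true) {c : ℕ → Eˣ} (h : tor T E c = 1) {j : ℕ} (hj : j < T.l) :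
    c j ^ dd = 1 := by
  rw [pow_coord hM c hj]
  refine Finset.prod_eq_one fun i hi => ?_
  have h1 := (tor_eq_iff_wt (F := E) g (c := c) (d := 1)).1 (by rw [h, map_one]) i (Finset.mem_range.1 hi)
  rw [div_one] at h1
  rw [h1, _root_.one_zpow]

theorem pow_eq_one_of_coprime {G : Type*} [Group G] {x : G} {a b : ℕ} (hab : Nat.Coprime a b)
    (ha : x ^ a = 1) (hb : x ^ b = 1) : x = 1 :=
  orderOf_eq_one_iff.1
    (Nat.eq_one_of_dvd_coprimes hab (orderOf_dvd_of_pow_eq_one ha) (orderOf_dvd_of_pow_eq_one hb))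

theorem exists_torus_sc (g : T.GoodW K W) {U : Tab} {P : ℕ} {MU : List (List ℤ)} (gU : U.GoodA)
    (hemb : checkEmb T U P = true) (hMU : checkDual U 1 MU = true) {dd : ℕ} (hdd : 0 < dd)
    {M : List (List ℤ)} (hM : checkDual T dd M = true) (hcomb : checkComb T M = true)
    {z : List ℤ} (hz : ∀ s < T.n, (∑ j ∈ Finset.range T.l, z.getD j 0 * T.A j s) % (dd : ℤ) = 0)
    (hz1 : ∃ j < T.l, (z.getD j 0).natAbs.Coprime dd)
    {d : ℕ} (hd : 2 < d) (hd6 : d ≠ 6) {C : TorCert} {steps : List (ℕ × List Rep)} {degs : List ℕ}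
    (hC : T.checkTor C = true) (hCd : C.d = dd) (hS : T.checkChain [] steps = true)
    (hP : T.checkPoly steps degs = true) (hdeg : d ∈ degs)
    (hsmall : ∀ r : ℕ, r.Prime → d ∣ r - 1 → ¬ r ∣ dd ∧ ¬ r ∣ Nat.card (wG g.toGood))
    {F : Type*} [Field F] [Fintype F] {q : ℕ} (hF : Fintype.card F = q) {N : ℕ}
    (hN : N ∣ q ^ d - 1)
    (hwork : ∀ {A : Type} [CommGroup A] (L : List ℕ) (c : Fin T.l → A) (r : ℕ), T.Wd L → r.Prime →
      d ∣ r - 1 → ¬ r ∣ Nat.card (wG g.toGood) → IsPrimitiveRoot ((q : ℤ) : ZMod r) d →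
      Twist c (wmat T L) q → (∀ j, c j ^ r = 1) → (∃ j, orderOf (c j) = r) →
      (∀ s < T.n, chi c (avec T s) ≠ 1) ∧ ∃ (Φ : ℤ[X]) (v : Fin T.l → ℤ), Φ.Monic ∧
        Φ.natDegree = T.l ∧ 0 < T.l ∧ aeval (wmat T L) Φ = 0 ∧ Φ.eval (q : ℤ) = N ∧
        IsCoprime (krylov (wmat T L) v).det (N : ℤ)) :
    ∃ H : Subgroup ↥(T.D.group F), IsCyclic ↥H ∧ Nat.card ↥H = N / Nat.gcd dd (q - 1) ∧
      Subgroup.centralizer (H : Set ↥(T.D.group F)) = H := by
  classical
  have gA := g.toGoodA
  have hg := g.toGood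
  have hMd : HasDual T M := ⟨dd, hdd, hM⟩
  have hq : IsPrimePow q := hF ▸ FiniteField.isPrimePow_card F
  have hq2 : 2 ≤ q := hq.one_lt
  obtain ⟨r, hr, hrd, hprim⟩ := LEZsig.zsigmondy q d (by omega) (by omega)
    (fun h => hd6 h.2) (fun h => by omega)
  haveI : Fact r.Prime := ⟨hr⟩
  have hrq : ¬ r ∣ q := fun h => by
    have h1 : r ∣ q ^ d - (q ^ d - 1) := Nat.dvd_sub (dvd_pow h (by omega)) hrd
    rw [Nat.sub_sub_self (Nat.one_le_pow _ _ (by omega))] at h1
    exact hr.one_lt.ne' (Nat.dvd_one.1 h1)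
  have hroot : IsPrimitiveRoot (((q : ℕ) : ℤ) : ZMod r) d := by
    rw [Int.cast_natCast]
    have hcast : ∀ k, (r ∣ q ^ k - 1 ↔ ((q : ℕ) : ZMod r) ^ k = 1) := fun k => by
      rw [← ZMod.natCast_eq_zero_iff, Nat.cast_sub (Nat.one_le_pow _ _ (by omega)), Nat.cast_pow,
        Nat.cast_one, sub_eq_zero]
    exact (IsPrimitiveRoot.iff (by omega)).2
      ⟨(hcast d).1 hrd, fun k hk hkd h => hprim k hk hkd ((hcast k).2 h)⟩
  have hd1 : d ∣ r - 1 := hroot.dvd_of_pow_eq_one _ (ZMod.pow_card_sub_one_eq_one (by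
    rw [Int.cast_natCast, Ne, ZMod.natCast_eq_zero_iff]
    exact hrq))
  obtain ⟨hrdd, hWr⟩ := hsmall r hr hd1
  have hcop : Nat.Coprime r dd := hr.coprime_iff_not_dvd.2 hrdd
  -- the element of order `r`
  have hrG : r ∣ Nat.card (T.D.group F) := by
    have h := card_group_formula (F := F) gA hF hC hS hP
    rw [hCd] at h
    have h1 : r ∣ Nat.gcd dd (q - 1) ^ C.k * Nat.card (T.D.group F) := by
      rw [h]
      exact dvd_mul_of_dvd_right (hrd.trans (List.dvd_prod (List.mem_map.2 ⟨d, hdeg, rfl⟩))) _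
    rcases hr.dvd_mul.1 h1 with h2 | h2
    · exact absurd ((hr.dvd_of_dvd_pow h2).trans (Nat.gcd_dvd_left _ _)) hrdd
    · exact h2
  haveI : Finite F := Finite.of_fintype F
  obtain ⟨x, hx⟩ := exists_prime_orderOf_dvd_card' r hrG
  obtain ⟨k, -, hk⟩ := Nat.exists_mul_mod_eq_one_of_coprime hcop.symm hr.one_lt
  have hkker : ∀ {K' : Type} [Field K'], ∀ y : T.D.SteinbergGroup K', θ0 gA K' y = 1 →
      y ^ dd = 1 := fun y hy => by
    obtain ⟨c, rfl, hc⟩ := ker_mem g hy
    rw [← map_pow, hT_congr g (c := c ^ dd) (c' := 1) (fun j hj => coord_pow_eq_one hg hM hc hj), map_one]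
  have hkerF : ∀ y : T.D.SteinbergGroup F, θ0 gA F y = 1 → y ^ dd = 1 := fun y hy => by
    obtain ⟨c, rfl, hc⟩ := ker_mem g hy
    rw [← map_pow, hT_congr g (c := c ^ dd) (c' := 1) (fun j hj => coord_pow_eq_one hg hM hc hj), map_one]
  obtain ⟨y, hy⟩ := θG_surjective gA x
  set xt : T.D.SteinbergGroup F := y ^ (dd * k) with hxt
  have hθy : θ0 gA F y = x := congrArg Subtype.val hy
  have hxr : (x : GL T.D.Idx F) ^ r = 1 := by
    rw [← SubmonoidClass.coe_pow, ← hx, pow_orderOf_eq_one]; rfl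
  have hθxt : θ0 gA F xt = x := by
    rw [hxt, map_pow, hθy, ← Nat.mod_add_div (dd * k) r, hk, pow_add, pow_one, pow_mul, hxr, one_pow,
      mul_one]
  have hxtr : xt ^ r = 1 := by
    rw [hxt, ← pow_mul, show dd * k * r = r * dd * k by ring, pow_mul, pow_mul,
      hkerF (y ^ r) (by rw [map_pow, hθy, hxr]), one_pow]
  -- the extension
  obtain ⟨p, hp⟩ := CharP.exists F
  haveI : Fact p.Prime := ⟨CharP.char_is_prime F p⟩
  haveI : NeZero d := ⟨by omega⟩
  let E := FiniteField.Extension F p d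
  haveI : Fintype E := Fintype.ofFinite E
  haveI : Finite E := Finite.of_fintype E
  have hcE : Fintype.card E = q ^ d := by
    rw [← Nat.card_eq_fintype_card, FiniteField.natCard_extension, Nat.card_eq_fintype_card, hF]
  obtain ⟨σ, hσ⟩ := TwField.exists_powHom (K := E) hq hcE
  let φ : F →+* E := algebraMap F E
  have hφ : ∀ t, σ (φ t) = φ t := fun t => by rw [hσ, ← map_pow, ← hF, FiniteField.pow_card]
  have hrange : ∀ t : E, σ t = t ↔ ∃ s, φ s = t := fun t =>
    ⟨fun h => exists_range_of_fixed φ (by rw [hF, ← hσ, h]), fun ⟨s, hs⟩ => hs ▸ hφ s⟩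
  let ι : ↥(T.D.group F) →* GL T.D.Idx E := (fieldMap T φ).comp (T.D.group F).subtype
  have hιinj : Function.Injective ι :=
    (Units.map_injective (Matrix.map_injective φ.injective)).comp Subtype.val_injective
  let J := stMap T φ
  let Fr := stMap T σ
  have hJ : ∀ u, Fr (J u) = J u := fun u => by
    show stMap T σ (stMap T φ u) = stMap T φ u
    rw [stMap_comp hg, show σ.comp φ = φ from RingHom.ext hφ]
  have hιθ : ∀ u : T.D.SteinbergGroup F, ι (θG gA F u) = θ0 gA E (J u) := fun u =>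
    (θ0_stMap gA φ u).symm
  have hιmem : ∀ u, ι u ∈ T.D.group E := fun u => by
    obtain ⟨w, rfl⟩ := θG_surjective gA u
    rw [hιθ]
    exact (θG gA E (J w)).2
  -- diagonalisation in the adjoint group
  have hQ : r ∣ Fintype.card E - 1 := by rw [hcE]; exact hrd
  obtain ⟨h, hh, c, hcr, hc⟩ : ∃ h ∈ T.D.group E, ∃ c, (∀ j < T.l, c j ^ r = 1) ∧
      h * ι x * h⁻¹ = tor T E c := by
    obtain ⟨h, hh, c, hc⟩ := exists_conj_tor' gA hr hQ hWr (hιmem x)
      (by rw [← map_pow, ← hx, pow_orderOf_eq_one, map_one])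
    have h1 : tor T E c ^ r = 1 := by rw [← hc, conj_pow, ← map_pow, ← hx, pow_orderOf_eq_one, map_one]; group
    refine ⟨h, hh, c ^ (dd * k), fun j hj => ?_, ?_⟩
    · rw [Pi.pow_apply, ← pow_mul, show dd * k * r = r * dd * k by ring, pow_mul, pow_mul,
        ← Pi.pow_apply c r j, coord_pow_eq_one hg hM (by rw [map_pow, h1]) hj, one_pow]
    · rw [map_pow, ← Nat.mod_add_div (dd * k) r, hk, pow_add, pow_one, pow_mul, h1, one_pow, mul_one, hc]
  obtain ⟨ht, hht⟩ := θG_surjective gA ⟨h, hh⟩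
  have hθh : θ0 gA E ht = h := congrArg Subtype.val hht
  have hkerhT : ∀ u : T.D.SteinbergGroup E, ∀ e, θ0 gA E u = tor T E e → ∃ e', u = hT g E e' := by
    intro u e hu
    obtain ⟨c', hc', -⟩ := ker_mem g (x := u * (hT g E e)⁻¹)
      (by rw [map_mul, map_inv, hu, θ0_hT, mul_inv_cancel])
    exact ⟨c' * e, by rw [map_mul, ← hc', inv_mul_cancel_right]⟩
  have hrtor : ∀ {e : ℕ → Eˣ}, tor T E e = 1 → (∀ j < T.l, e j ^ r = 1) → hT g E e = 1 := fun he her => by
    rw [hT_congr g (c' := 1) (fun j hj => ?_), map_one]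
    exact pow_eq_one_of_coprime hcop (her j hj) (coord_pow_eq_one hg hM he hj)
  have hct : ht * J xt * ht⁻¹ = hT g E c := by
    obtain ⟨e, he⟩ := hkerhT (ht * J xt * ht⁻¹) c (by
      rw [map_mul, map_mul, map_inv, hθh, θ0_stMap, hθxt]
      exact hc)
    have her : ∀ j < T.l, e j ^ r = 1 := fun j hj => by
      have e1 : hT g E (e ^ r) = hT g E 1 := by
        rw [map_pow, ← he, conj_pow, ← map_pow, hxtr, map_one, map_one]; group
      exact hT_inj g gU hemb hMU e1 hj
    have e2 : tor T E (e / c) = 1 := by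
      rw [_root_.map_div, ← θ0_hT g, ← he, map_mul, map_mul, map_inv, hθh, θ0_stMap, hθxt]
      exact div_eq_one.2 hc
    have e3 := hrtor e2 fun j hj => by rw [Pi.div_apply, div_pow, her j hj, hcr j hj, div_one]
    rw [_root_.map_div, div_eq_one] at e3
    rw [he, e3]
  have hσtor : ∀ e : ℕ → Eˣ, Fr (hT g E e) = hT g E (e ^ q) := fun e => by
    show stMap T σ (hT g E e) = _
    rw [stMap_hT]
    congr 1
    funext j
    exact Units.ext (by simp [hσ])
  set m := Fr ht * ht⁻¹ with hm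
  have hmc : ∀ (u) (e : ℕ → Eˣ), ht * J u * ht⁻¹ = hT g E e → m * hT g E e * m⁻¹ = hT g E (e ^ q) :=
    fun u e he => by
      rw [← hσtor, ← he, map_mul, map_mul, hJ, map_inv, hm]
      group
  obtain ⟨L, hL, hn⟩ := exists_word_of_conj (T := T) gA (θG gA E m).2 (c := c) (c' := c ^ q) (by
    have e := congrArg (θ0 gA E) (hmc xt c hct)
    rw [map_mul, map_mul, map_inv, θ0_hT, θ0_hT] at e
    exact e)
  set X' := wmat T L.reverse with hX'
  have hWL : T.Wd L.reverse := hL.reverse
  have htwist : ∀ e : ℕ → Eˣ, sW T E L * hT g E e * (sW T E L)⁻¹ = hT g E (e ^ q) ↔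
      Twist (fun j : Fin T.l => e j) X' q := by
    intro e
    obtain ⟨c', hc', hchi⟩ := sW_conj_hT_eq g hL e
    constructor
    · intro he x'
      rw [hX', ← hchi]
      rw [hc'] at he
      simp only [hT_inj g gU hemb hMU he (Fin.is_lt _), chi, Pi.pow_apply, ← Finset.prod_pow]
      exact Finset.prod_congr rfl fun j _ => by
        rw [← zpow_natCast, ← zpow_natCast, ← _root_.zpow_mul, ← _root_.zpow_mul, mul_comm]
    · intro he
      rw [hc']
      refine hT_congr g fun j hj => ?_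
      have h1 := hchi (Pi.single ⟨j, hj⟩ 1)
      rw [← hX', he, chi_single, chi_single] at h1
      exact h1
  have hcT : Twist (fun j : Fin T.l => c j) X' q := by
    refine (htwist c).1 ?_
    obtain ⟨c', hc', hchi⟩ := sW_conj_hT_eq g hL c
    have e2 : tor T E (c' / c ^ q) = 1 := by
      have e := congrArg (θ0 gA E) hc'
      rw [map_mul, map_mul, map_inv, θ0_sW, θ0_hT, θ0_hT, hn] at e
      rw [_root_.map_div, e, div_self']
    have e3 := hrtor e2 fun j hj => by
      have e4 : c' j ^ r = 1 := by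
        have h1 := hchi (Pi.single ⟨j, hj⟩ 1)
        rw [chi_single] at h1
        rw [show c' j = _ from h1, chi, ← Finset.prod_pow]
        refine Finset.prod_eq_one fun i _ => ?_
        rw [← zpow_natCast, ← _root_.zpow_mul, mul_comm, _root_.zpow_mul, zpow_natCast,
          hcr i i.2, _root_.one_zpow]
      rw [Pi.div_apply, div_pow, e4, Pi.pow_apply, ← pow_mul, mul_comm, pow_mul, hcr j hj, one_pow,
        div_one]
    rw [_root_.map_div, div_eq_one] at e3
    rw [hc', e3]
  have hone : ∃ j < T.l, c j ≠ 1 := by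
    by_contra hcon
    push Not at hcon
    rw [tor_congr hg (d := 1) hcon, map_one, conj_eq_one_iff] at hc
    have : x = 1 := hιinj (by rw [hc, map_one])
    rw [this, orderOf_one] at hx
    exact hr.one_lt.ne hx
  obtain ⟨j₀, hj₀, hne₀⟩ := hone
  have hord : orderOf (c j₀) = r := orderOf_eq_prime (hcr j₀ hj₀) hne₀
  obtain ⟨hreg', Φ, v, hmon, hdeg', hl0, hΦ, hΦN, hv⟩ := hwork (A := Eˣ) L.reverse
    (fun j : Fin T.l => c j) r hWL hr hd1 hWr hroot hcT (fun j => hcr j j.2) ⟨⟨j₀, hj₀⟩, hord⟩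
  have hreg : ∀ s < T.n, wt T E c s ≠ 1 := fun s hs => by rw [wt_eq_chi]; exact hreg' s hs
  have hstab := fun (L' : List ℕ) (hL' : T.Wd L')
      (hfix : ∀ s < T.n, wt T E c (T.rw' L' s) = wt T E c s) =>
    stab_trivial hg hMd hcomb hr hWr hcr (hord ▸ IsPrimitiveRoot.orderOf (c j₀)) hreg hL' hfix
  have hcent : ∀ {u : T.D.SteinbergGroup E}, Commute (hT g E c) u → ∃ e, u = hT g E e := by
    intro u hu
    have h1 : Commute (tor T E c) (θ0 gA E u) := θ0_hT g c ▸ hu.map (θ0 gA E)
    obtain ⟨e, he⟩ := G2Torus.exists_tor_of_commute' gA hstab hreg (θG gA E u).2 h1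
    exact hkerhT u e he
  obtain ⟨t, ht'⟩ := hcent (u := (sW T E L)⁻¹ * m) (by
    have h1 : m * hT g E c * m⁻¹ = sW T E L * hT g E c * (sW T E L)⁻¹ :=
      (hmc xt c hct).trans ((htwist c).2 hcT).symm
    show hT g E c * ((sW T E L)⁻¹ * m) = (sW T E L)⁻¹ * m * hT g E c
    calc _ = (sW T E L)⁻¹ * (sW T E L * hT g E c * (sW T E L)⁻¹) * m := by group
      _ = _ := by rw [← h1]; group)
  have hmn : ∀ e, m * hT g E e * m⁻¹ = sW T E L * hT g E e * (sW T E L)⁻¹ := by
    intro e
    rw [show m = sW T E L * hT g E t by rw [← ht']; group,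
      show ∀ a b y : T.D.SteinbergGroup E, a * b * y * (a * b)⁻¹ = a * (b * y * b⁻¹) * a⁻¹ from
        fun a b y => by group, ← map_inv, ← map_mul, ← map_mul, mul_right_comm, mul_inv_cancel,
      one_mul]
  -- the torus
  let S := twistGroup T.l Eˣ X' q
  let θ : ↥S →* GL T.D.Idx E :=
    (MulAut.conj h⁻¹).toMonoidHom.comp ((tor T E).comp ((extC T E).comp S.subtype))
  have hθ : ∀ s : ↥S, θ s = h⁻¹ * tor T E (extC T E s.1) * h := fun s => by
    simp [θ, MulAut.conj_apply]
  have hext : ∀ (u : Fin T.l → Eˣ) (j : Fin T.l), extC T E u j = u j := fun u j => by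
    simp [extC, j.2]
  let H : Subgroup ↥(T.D.group F) := θ.range.comap ι
  have hsub : θ.range ≤ ι.range := by
    rintro _ ⟨s, rfl⟩
    set u := ht⁻¹ * hT g E (extC T E s.1) * ht with hu
    have hfix : Fr u = u := by
      have hs : Twist (fun j : Fin T.l => extC T E s.1 j) X' q := by
        simp only [hext]; exact s.2
      have h2 : Fr ht = m * ht := by rw [hm]; group
      rw [hu, map_mul, map_mul, map_inv, h2, hσtor, ← ((htwist _).2 hs), ← hmn]
      group
    have hfix' : entryHom T σ (θ0 gA E u) = θ0 gA E u := by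
      conv_rhs => rw [← hfix]
      exact (θ0_stMap gA σ u).symm
    obtain ⟨l, hl, e, -, r', hr', hdec⟩ := fixed_decomp gA (θG gA E u).2 hfix'
    have hfixJ : fixElem hg σ ≤ J.range.map (θ0 gA E) := by
      refine (Subgroup.closure_le _).2 ?_
      rintro _ ⟨i, t₀, ht₀, rfl⟩
      obtain ⟨t₁, rfl⟩ := (hrange t₀).1 ht₀
      exact ⟨J (Tab.sx T F i t₁), ⟨_, rfl⟩, by rw [θ0_stMap, θ0_sx, fieldMap_xg]⟩
    obtain ⟨_, ⟨l', rfl⟩, rfl⟩ := hfixJ hl
    obtain ⟨_, ⟨r'', rfl⟩, rfl⟩ := hfixJ hr'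
    obtain ⟨e', he'⟩ := hkerhT ((J l')⁻¹ * u * (J r'')⁻¹) e (by
      rw [map_mul, map_mul, map_inv, map_inv]
      show _ * θ0 gA E u * _ = _
      rw [show (θ0 gA E u) = _ from hdec]
      group)
    have hfe : hT g E (e' ^ q) = hT g E e' := by
      rw [← hσtor, ← he', map_mul, map_mul, map_inv, map_inv, hJ, hJ, hfix]
    have hco : ∀ j < T.l, ∃ b : Fˣ, Units.map φ.toMonoidHom b = e' j := by
      intro j hj
      have h1 := hT_inj g gU hemb hMU hfe hj
      obtain ⟨b, hb⟩ := exists_range_of_fixed φ (e := ((e' j : Eˣ) : E)) (by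
        rw [hF]; simpa using congrArg Units.val h1)
      exact ⟨Units.mk0 b (fun h0 => (e' j).ne_zero (by rw [← hb, h0, map_zero])), Units.ext hb⟩
    choose b hb using hco
    have he'' : hT g E e' = J (hT g F fun j => if hj : j < T.l then b j hj else 1) := by
      show _ = stMap T φ _
      rw [stMap_hT]
      exact hT_congr g fun j hj => by simp only [dif_pos hj, hb j hj]
    refine ⟨θG gA F (l' * (hT g F fun j => if hj : j < T.l then b j hj else 1) * r''), ?_⟩
    rw [hιθ, map_mul J, map_mul J, ← he'', ← he', hθ, show J l' * ((J l')⁻¹ * u * (J r'')⁻¹) * J r'' = u by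
      group, hu, map_mul, map_mul, map_inv, hθh, θ0_hT]
  have hmap : H.map ι = θ.range := Subgroup.map_comap_eq_self hsub
  let e₀ : ↥H ≃* ↥θ.range := (H.equivMapOfInjective ι hιinj).trans (MulEquiv.subgroupCongr hmap)
  have hNE : N ∣ Nat.card Eˣ := by
    rw [Nat.card_units, Nat.card_eq_fintype_card, hcE]; exact hN
  obtain ⟨hcyc, hcard⟩ := twistGroup_cyclic_poly (A := Eˣ) hmon hdeg' hl0 hΦ hΦN hNE hv
  haveI := hcyc
  set G' := Nat.gcd dd (q - 1) with hG'
  have hG0 : 0 < G' := Nat.gcd_pos_of_pos_left _ hdd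
  -- the kernel
  have hroots : ∀ {e : ↥S}, θ e = 1 → ∀ s < T.n, chi e.1 (avec T s) = 1 := by
    intro e he s hs
    rw [hθ] at he
    have he' : tor T E (extC T E e.1) = 1 := by
      have := congrArg (fun w => h * w * h⁻¹) he
      simpa [mul_assoc] using this
    have h1 := tor_xg hg (extC T E e.1) hs (1 : E)
    rw [he', one_mul, inv_one, mul_one, mul_one] at h1
    have h2 := (Units.ext (xg_injective hg hs h1).symm : wt T E (extC T E e.1) s = 1)
    rw [wt_eq_chi] at h2
    simpa only [hext] using h2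
  have hker_le : ∀ e ∈ θ.ker, e ^ G' = 1 := by
    intro e he
    have he1 : ∀ s < T.n, chi e.1 (avec T s) = 1 := hroots he
    have hfixe : ∀ L', T.Wd L' → ∀ x', chi e.1 (wmat T L' *ᵥ x') = chi e.1 x' := by
      intro L' hL'
      induction L' with
      | nil => simp
      | cons i L' ih =>
        intro x'
        obtain ⟨hi, hL''⟩ := Wd.cons_iff.1 hL'
        rw [wmat_cons, ← Matrix.mulVec_mulVec, ← ih hL'' x']
        have e1 := chi_conj_simple (extC T E e.1) hi (wmat T L' *ᵥ x')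
        simp only [hext] at e1
        rw [← e1]
        have hw : wt T E (extC T E e.1)⁻¹ (T.smp i) = 1 := by
          rw [wt_eq_chi]
          have : (fun j : Fin T.l => (extC T E e.1)⁻¹ j) = e.1⁻¹ := funext fun j => by simp [hext]
          rw [this, chi_inv_left, he1 _ (hg.smp_lt hi), inv_one]
        simp [hw, hext]
    refine Subtype.ext (funext fun j => pow_gcd_eq_one.2 ⟨?_, ?_⟩)
    · have he' : tor T E (extC T E e.1) = 1 := by
        have he2 : θ e = 1 := he
        rw [hθ] at he2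
        have := congrArg (fun w => h * w * h⁻¹) he2
        simpa [mul_assoc] using this
      have := coord_pow_eq_one hg hM he' j.2
      rwa [hext] at this
    · have h1 := e.2 (Pi.single j 1)
      rw [hX', hfixe _ hWL, chi_single] at h1
      show e.1 j ^ (q - 1) = 1
      exact mul_right_cancel (b := e.1 j) (by rw [← pow_succ, Nat.sub_add_cancel (by omega), ← h1, one_mul])
  have hker : Nat.card θ.ker = G' := by
    refine le_antisymm ?_ ?_
    · calc Nat.card θ.ker ≤ Nat.card {a : ↥S // a ^ G' = 1} :=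
            Nat.card_le_card_of_injective (fun e => ⟨e.1, hker_le e.1 e.2⟩)
              fun a b hab => Subtype.ext (congrArg (fun z : {a : ↥S // a ^ G' = 1} => z.1) hab)
        _ ≤ G' := by
          haveI : Fintype ↥S := Fintype.ofFinite _
          rw [Nat.card_eq_fintype_card, Fintype.card_subtype]
          exact IsCyclic.card_pow_eq_one_le hG0
    · obtain ⟨w, hw⟩ := IsCyclic.exists_ofOrder_eq_natCard (α := Eˣ)
      have hGE : G' ∣ Nat.card Eˣ := by
        rw [Nat.card_units, Nat.card_eq_fintype_card, hcE]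
        exact (Nat.gcd_dvd_right _ _).trans ((Nat.sub_dvd_pow_sub_pow q 1 d).trans (by rw [one_pow]))
      set a := w ^ (Nat.card Eˣ / G') with ha
      have hoa : orderOf a = G' := by
        rw [ha, orderOf_pow_of_dvd (Nat.div_pos (Nat.le_of_dvd Nat.card_pos hGE) hG0).ne'
          (by rw [hw]; exact Nat.div_dvd_of_dvd hGE), hw, Nat.div_div_self hGE Nat.card_pos.ne']
      set u : Fin T.l → Eˣ := fun j => a ^ z.getD (j : ℕ) 0 with hu
      have hu1 : ∀ s < T.n, chi u (avec T s) = 1 := fun s hs => by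
        rw [hu, chi_zpow_left, ← orderOf_dvd_iff_zpow_eq_one, hoa]
        refine (Int.natCast_dvd_natCast.2 (Nat.gcd_dvd_left dd (q - 1))).trans ?_
        have := hz s hs
        rw [Finset.sum_range] at this
        exact Int.dvd_of_emod_eq_zero this
      have huS : Twist u X' q := by
        have hfixu : ∀ L', T.Wd L' → ∀ x', chi u (wmat T L' *ᵥ x') = chi u x' := by
          intro L' hL'
          induction L' with
          | nil => simp
          | cons i L' ih =>
            intro x'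
            obtain ⟨hi, hL''⟩ := Wd.cons_iff.1 hL'
            rw [wmat_cons, ← Matrix.mulVec_mulVec, ← ih hL'' x']
            have e1 := chi_conj_simple (extC T E u) hi (wmat T L' *ᵥ x')
            simp only [hext] at e1
            rw [← e1]
            have hw : wt T E (extC T E u)⁻¹ (T.smp i) = 1 := by
              rw [wt_eq_chi]
              have : (fun j : Fin T.l => (extC T E u)⁻¹ j) = u⁻¹ := funext fun j => by simp [hext]
              rw [this, chi_inv_left, hu1 _ (hg.smp_lt hi), inv_one]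
            simp [hw, hext]
        intro x'
        rw [hX', hfixu _ hWL, hu, chi_zpow_left]
        rw [← zpow_natCast, ← _root_.zpow_mul, zpow_eq_zpow_iff_modEq, hoa]
        refine Int.modEq_iff_dvd.2 ?_
        rw [show ∀ b : ℤ, b * (q : ℤ) - b = b * ((q : ℤ) - 1) from fun b => by ring]
        refine dvd_mul_of_dvd_right ?_ _
        have := Int.natCast_dvd_natCast.2 (Nat.gcd_dvd_right dd (q - 1))
        rwa [Nat.cast_sub (show 1 ≤ q by omega), Nat.cast_one, ← hG'] at this
      let e : ↥S := ⟨u, huS⟩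
      have he : e ∈ θ.ker := by
        rw [MonoidHom.mem_ker, hθ]
        have : tor T E (extC T E u) = 1 := by
          rw [← map_one (tor T E), tor_eq_iff_wt hg]
          intro i hi
          rw [div_one, wt_eq_chi]
          simp only [hext]
          exact hu1 _ (hg.smp_lt hi)
        rw [show extC T E e.1 = extC T E u from rfl, this, mul_one, inv_mul_cancel]
      obtain ⟨j, hj, hjc⟩ := hz1
      have hoj : G' ∣ orderOf e := by
        have h1 : (a ^ z.getD j 0) ^ orderOf e = 1 := by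
          have h2 : e.1 ^ orderOf e = 1 := congrArg Subtype.val (pow_orderOf_eq_one e)
          simpa [hu, e] using congrFun h2 ⟨j, hj⟩
        rw [← zpow_natCast, ← _root_.zpow_mul, ← orderOf_dvd_iff_zpow_eq_one, hoa, Int.natCast_dvd,
          Int.natAbs_mul, Int.natAbs_natCast] at h1
        exact (Nat.Coprime.coprime_dvd_left (Nat.gcd_dvd_left dd (q - 1)) hjc.symm).dvd_of_dvd_mul_left h1
      calc G' ≤ orderOf e := Nat.le_of_dvd (orderOf_pos e) hoj
        _ = orderOf (⟨e, he⟩ : θ.ker) := (Subgroup.orderOf_coe (⟨e, he⟩ : θ.ker))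
        _ ≤ _ := orderOf_le_card
  have hcardR : Nat.card θ.range = N / G' := by
    rw [← Subgroup.index_ker, ← hcard, ← θ.ker.card_mul_index, hker, Nat.mul_div_cancel_left _ hG0]
  haveI : IsCyclic ↥θ.range := isCyclic_of_surjective θ.rangeRestrict θ.rangeRestrict_surjective
  haveI hHc : IsCyclic ↥H := e₀.isCyclic.2 inferInstance
  have hmemS : ∀ u e, ht * J u * ht⁻¹ = hT g E e → θG gA F u ∈ H := fun u e he => by
    have hs : Twist (fun j : Fin T.l => e j) X' q :=
      (htwist e).1 (by rw [← hmn]; exact hmc u e he)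
    refine ⟨⟨_, hs⟩, ?_⟩
    rw [hιθ, hθ, tor_congr hg (c := extC T E fun j : Fin T.l => e j) (d := e)
      (fun j hj => hext _ ⟨j, hj⟩), ← θ0_hT g, ← he, map_mul, map_mul, map_inv, hθh]
    group
  refine ⟨H, hHc, (Nat.card_congr e₀.toEquiv).trans hcardR, le_antisymm ?_ ?_⟩
  · intro w hw
    obtain ⟨u, rfl⟩ := θG_surjective gA w
    have hxH : x ∈ H := by
      have h1 := hmemS xt c hct
      rwa [show θG gA F xt = x from Subtype.ext hθxt] at h1
    have hwx := Subgroup.mem_centralizer_iff.1 hw x hxH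
    have hcomm : u * xt * u⁻¹ = xt := by
      obtain ⟨z', hz', hz0⟩ : ∃ z' ∈ Subgroup.center (T.D.SteinbergGroup F), u * xt * u⁻¹ = z' * xt := by
        refine ⟨u * xt * u⁻¹ * xt⁻¹, ?_, by group⟩
        rw [← ker_eq_center g, MonoidHom.mem_ker]
        have h1 : (θG gA F u : GL T.D.Idx F) * x = x * θG gA F u := congrArg Subtype.val hwx.symm
        rw [map_mul, map_mul, map_mul, map_inv, map_inv, hθxt]
        show (θG gA F u : GL T.D.Idx F) * x * (θG gA F u : GL T.D.Idx F)⁻¹ * (x : GL T.D.Idx F)⁻¹ = 1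
        rw [h1]; group
      have hzd : z' ^ dd = 1 := hkerF z' (by
        rw [← ker_eq_center g] at hz'; exact hz')
      have hzr : z' ^ r = 1 := by
        have h1 := congrArg (· ^ r) hz0
        simp only [conj_pow, hxtr, mul_one, mul_inv_cancel] at h1
        rw [(show Commute z' xt from (Subgroup.mem_center_iff.1 hz' xt).symm).mul_pow, hxtr, mul_one] at h1
        exact h1.symm
      rw [hz0, pow_eq_one_of_coprime hcop hzr hzd, one_mul]
    obtain ⟨e, he⟩ := hcent (u := ht * J u * ht⁻¹) (by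
      rw [← hct]
      show ht * J xt * ht⁻¹ * (ht * J u * ht⁻¹) = ht * J u * ht⁻¹ * (ht * J xt * ht⁻¹)
      calc _ = ht * J (xt * u) * ht⁻¹ := by rw [map_mul]; group
        _ = _ := by rw [← mul_inv_eq_iff_eq_mul.1 hcomm, map_mul]; group)
    exact hmemS u e he
  · intro w hw
    refine Subgroup.mem_centralizer_iff.2 fun y' hy' => ?_
    letI := IsCyclic.commGroup (α := ↥H)
    exact congrArg Subtype.val (mul_comm (⟨y', hy'⟩ : ↥H) ⟨w, hw⟩)

end Cfsg.Agent.CoxTorus
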