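import Cfsg.Agent.Lib.CoxTorus.Iso

/-! Isometries of a positive lattice of rank six killed by `Φ₁₂Φ₃`. -/

set_option autoImplicit false

namespace Cfsg.Agent.CoxTorus

open Matrix Polynomial

/-- `Φ₁₂ Φ₃`. -/
noncomputable def sixPoly : ℤ[X] := X ^ 6 + X ^ 5 - X ^ 3 + X + 1

theorem sixPoly_factor : sixPoly = (X ^ 4 - X ^ 2 + 1) * (X ^ 2 + X + 1) := by rw [sixPoly]; ring

theorem sixPoly_monic : sixPoly.Monic := by unfold sixPoly; monicity!

theorem sixPoly_natDegree : sixPoly.natDegree = 6 := by unfold sixPoly; compute_degree!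

theorem cyclotomic_twelve : cyclotomic 12 ℤ = X ^ 4 - X ^ 2 + 1 := by
  have h1 := cyclotomic_expand_eq_cyclotomic_mul (p := 3) (n := 2) Nat.prime_three (by norm_num) ℤ
  rw [cyclotomic_two, map_add, expand_X, map_one, show (2 * 3 : ℕ) = 6 from rfl] at h1
  have h6 : cyclotomic 6 ℤ = X ^ 2 - X + 1 := by
    refine mul_right_cancel₀ (show (X + 1 : ℤ[X]) ≠ 0 from X_add_C_ne_zero 1) ?_
    rw [← h1]; ring
  have h2 := cyclotomic_expand_eq_cyclotomic (p := 2) (n := 6) Nat.prime_two (by norm_num) ℤ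
  rw [h6, map_add, map_sub, map_pow, expand_X, map_one, show (6 * 2 : ℕ) = 12 from rfl] at h2
  rw [← h2]; ring

theorem eigen_eval {n : ℕ} {A : Matrix (Fin n) (Fin n) ℤ} {z : ℂ}
    (hz : (A.charpoly.map (Int.castRingHom ℂ)).eval z = 0) {p : ℤ[X]} (hp : aeval A p = 0) :
    (p.map (Int.castRingHom ℂ)).eval z = 0 := by
  set AC := (Int.castRingHom ℂ).mapMatrix A with hAC
  have hc : AC.charpoly.eval z = 0 := by rwa [hAC, RingHom.mapMatrix_apply, charpoly_map]
  rw [Matrix.eval_charpoly] at hc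
  obtain ⟨w, hw, he⟩ := exists_mulVec_eq_zero_iff.2 hc
  have he' : AC *ᵥ w = z • w := by
    rw [sub_mulVec, sub_eq_zero] at he
    rw [← he]
    funext i
    simp [Matrix.scalar_apply, mulVec_diagonal]
  have hpow : ∀ k : ℕ, AC ^ k *ᵥ w = z ^ k • w := by
    intro k
    induction k with
    | zero => simp
    | succ k ih => rw [pow_succ, ← mulVec_mulVec, he', mulVec_smul, ih, smul_smul, ← pow_succ']
  have hgen : ∀ f : ℂ[X], aeval AC f *ᵥ w = f.eval z • w := by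
    intro f
    induction f using Polynomial.induction_on' with
    | add a b ha hb => rw [map_add, add_mulVec, ha, hb, eval_add, add_smul]
    | monomial k a =>
      rw [aeval_monomial, Algebra.algebraMap_eq_smul_one, smul_mul, one_mul, smul_mulVec, hpow,
        smul_smul, eval_monomial]
  have h0 := hgen (p.map (Int.castRingHom ℂ))
  have e : aeval AC (p.map (Int.castRingHom ℂ)) = (Int.castRingHom ℂ).mapMatrix (aeval A p) := by
    rw [show (Int.castRingHom ℂ) = algebraMap ℤ ℂ from rfl, aeval_map_algebraMap]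
    exact aeval_algHom_apply ((algebraMap ℤ ℂ).mapMatrix (m := Fin n)).toIntAlgHom A p
  rw [e, hp, map_zero, zero_mulVec] at h0
  exact (smul_eq_zero.1 h0.symm).resolve_right hw

/-- A monic quadratic dividing the characteristic polynomial of an element of finite order. -/
theorem quadratic_eq {n : ℕ} {A : Matrix (Fin n) (Fin n) ℤ} {e : ℕ} (he : 0 < e) (hA : A ^ e = 1)
    {ψ : ℤ[X]} (hmon : ψ.Monic) (hdeg : ψ.natDegree = 2) (hdvd : ψ ∣ A.charpoly)
    (h3 : (3 : ℤ) ∣ ψ.eval 1) (h1 : ψ.eval 1 ≠ 0) : ψ = X ^ 2 + X + 1 := by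
  set b := ψ.coeff 1 with hb
  set c := ψ.coeff 0 with hc
  have hψ : ψ = X ^ 2 + C b * X + C c := by
    conv_lhs => rw [ψ.as_sum_range_C_mul_X_pow' (show ψ.natDegree < 3 by omega)]
    have h2 : ψ.coeff 2 = 1 := by rw [← hdeg]; exact hmon
    simp [Finset.sum_range_succ, h2, hb, hc]
    ring
  set ψC := ψ.map (Int.castRingHom ℂ) with hψC
  have hdC : ψC.degree ≠ 0 := by
    rw [hψC, degree_map_eq_of_injective Int.cast_injective, degree_eq_natDegree hmon.ne_zero, hdeg]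
    norm_num
  obtain ⟨z, hz⟩ := IsAlgClosed.exists_root ψC hdC
  have hroot : ∀ w : ℂ, ψC.eval w = w ^ 2 + (b : ℂ) * w + c := fun w => by
    rw [hψC, hψ]
    simp
  rw [IsRoot.def, hroot] at hz
  set w := -(b : ℂ) - z with hw
  have hwz : ψC.eval w = 0 := by rw [hroot, hw]; linear_combination hz
  have hzw : z * w = c := by rw [hw]; linear_combination -hz
  have hnorm : ∀ u : ℂ, ψC.eval u = 0 → ‖u‖ = 1 := by
    intro u hu
    obtain ⟨t, ht⟩ := hdvd
    have h := eigen_eval (A := A) (z := u) (by rw [ht, Polynomial.map_mul, eval_mul, ← hψC, hu, zero_mul])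
      (p := X ^ e - 1) (by rw [map_sub, map_pow, aeval_X, map_one, hA, sub_self])
    simp only [Polynomial.map_sub, Polynomial.map_pow, map_X, Polynomial.map_one, eval_sub, eval_pow,
      eval_X, eval_one, sub_eq_zero] at h
    exact Complex.norm_eq_one_of_pow_eq_one h he.ne'
  have hz1 := hnorm z (by rw [hroot]; exact hz)
  have hw1 := hnorm w hwz
  have hc1 : c = 1 ∨ c = -1 := by
    have h := congrArg (‖·‖) hzw
    simp only [norm_mul, hz1, hw1, mul_one, Complex.norm_intCast] at h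
    have : |c| = 1 := by exact_mod_cast h.symm
    exact (abs_eq zero_le_one).1 this
  have hb2 : |b| ≤ 2 := by
    have h := norm_add_le z w
    rw [hz1, hw1, show z + w = -(b : ℂ) by rw [hw]; ring, norm_neg, Complex.norm_intCast] at h
    have : ((|b| : ℤ) : ℝ) ≤ 2 := by push_cast; linarith
    exact_mod_cast this
  have heval : ψ.eval 1 = 1 + b + c := by rw [hψ]; simp
  rcases hc1 with h | h
  · rw [heval, h] at h3 h1
    have hb' := abs_le.1 hb2
    have : b = 1 := by obtain ⟨t, ht⟩ := h3; omega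
    rw [hψ, this, h]; simp
  · exfalso
    refine h1 ?_
    rw [heval, h]
    have hcj : w = -(starRingEnd ℂ) z := by
      have hz0 : z ≠ 0 := fun h0 => by rw [h0, norm_zero] at hz1; exact zero_ne_one hz1
      refine mul_left_cancel₀ hz0 ?_
      rw [hzw, h, mul_neg, Complex.mul_conj', hz1]
      simp
    have hre : (-(b : ℂ)).re = (z + w).re := by rw [hw]; ring_nf
    rw [hcj] at hre
    simp at hre
    omega

section Gram

variable {n : ℕ} {G A : Matrix (Fin n) (Fin n) ℤ} {v : Fin n → ℤ}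

/-- The inner products of the iterates. -/
def gseq (G A : Matrix (Fin n) (Fin n) ℤ) (v : Fin n → ℤ) (k : ℕ) : ℤ := v ⬝ᵥ (G *ᵥ (A ^ k *ᵥ v))

variable (hiso : ∀ x y, (A *ᵥ x) ⬝ᵥ (G *ᵥ (A *ᵥ y)) = x ⬝ᵥ (G *ᵥ y))
include hiso

theorem iso_pow (k : ℕ) (x y : Fin n → ℤ) :
    (A ^ k *ᵥ x) ⬝ᵥ (G *ᵥ (A ^ k *ᵥ y)) = x ⬝ᵥ (G *ᵥ y) := by
  induction k generalizing x y with
  | zero => simp
  | succ k ih => rw [pow_succ, ← mulVec_mulVec, ← mulVec_mulVec, ih, hiso]

theorem gram_eq (hcomm : ∀ x y, x ⬝ᵥ (G *ᵥ y) = y ⬝ᵥ (G *ᵥ x)) (a b : ℕ) :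
    (A ^ a *ᵥ v) ⬝ᵥ (G *ᵥ (A ^ b *ᵥ v)) = gseq G A v (a - b + (b - a)) := by
  rcases Nat.le_total a b with h | h
  · rw [show a - b + (b - a) = b - a by omega, gseq]
    conv_lhs => rw [show b = a + (b - a) by omega, pow_add, ← mulVec_mulVec, iso_pow hiso]
  · rw [show a - b + (b - a) = a - b by omega, gseq, hcomm]
    conv_lhs => rw [show a = b + (a - b) by omega, pow_add, ← mulVec_mulVec, iso_pow hiso]

theorem gseq_relations (hcomm : ∀ x y, x ⬝ᵥ (G *ᵥ y) = y ⬝ᵥ (G *ᵥ x))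
    (hA : aeval A sixPoly *ᵥ v = 0) :
    2 * gseq G A v 2 + 2 * gseq G A v 3 = gseq G A v 0 ∧
    2 * gseq G A v 4 = -gseq G A v 0 ∧
    2 * gseq G A v 5 = 2 * gseq G A v 2 - 2 * gseq G A v 1 - gseq G A v 0 ∧
    gseq G A v 6 = -2 * gseq G A v 2 := by
  have h : ∀ a : ℕ, gseq G A v (a - 6 + (6 - a)) + gseq G A v (a - 5 + (5 - a)) -
      gseq G A v (a - 3 + (3 - a)) + gseq G A v (a - 1 + (1 - a)) + gseq G A v (a - 0 + (0 - a)) = 0 := by
    intro a
    rw [← gram_eq hiso hcomm, ← gram_eq hiso hcomm, ← gram_eq hiso hcomm, ← gram_eq hiso hcomm,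
      ← gram_eq hiso hcomm, ← dotProduct_add, ← dotProduct_sub, ← dotProduct_add, ← dotProduct_add,
      ← mulVec_add, ← mulVec_sub, ← mulVec_add, ← mulVec_add]
    have e : A ^ 6 *ᵥ v + A ^ 5 *ᵥ v - A ^ 3 *ᵥ v + A ^ 1 *ᵥ v + A ^ 0 *ᵥ v = 0 := by
      rw [← hA, sixPoly]
      simp [add_mulVec, sub_mulVec]
    rw [e, mulVec_zero, dotProduct_zero]
  have h0 := h 0
  have h1 := h 1
  have h2 := h 2
  have h3 := h 3
  norm_num at h0 h1 h2 h3
  refine ⟨?_, ?_, ?_, ?_⟩ <;> linarith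

theorem krylov_gram (hcomm : ∀ x y, x ⬝ᵥ (G *ᵥ y) = y ⬝ᵥ (G *ᵥ x)) :
    (krylov A v)ᵀ * G * krylov A v =
      Matrix.of fun i j : Fin n => gseq G A v ((i : ℕ) - j + ((j : ℕ) - i)) := by
  ext i j
  rw [Matrix.mul_assoc, Matrix.of_apply, ← gram_eq hiso hcomm]
  simp only [mul_apply, transpose_apply, krylov, Matrix.of_apply, dotProduct, mulVec]

end Gram

theorem krylov_det_ne_zero_six {A : Matrix (Fin 6) (Fin 6) ℤ} (hA : aeval A sixPoly = 0)
    {v : Fin 6 → ℤ} (h3 : aeval A (X ^ 2 + X + 1 : ℤ[X]) *ᵥ v ≠ 0)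
    (h12 : aeval A (X ^ 4 - X ^ 2 + 1 : ℤ[X]) *ᵥ v ≠ 0) : (krylov A v).det ≠ 0 := by
  intro h0
  obtain ⟨a, ha, hK⟩ := exists_mulVec_eq_zero_iff.2 h0
  set p : ℤ[X] := ∑ k : Fin 6, C (a k) * X ^ (k : ℕ) with hp
  rw [krylov_mulVec, ← hp] at hK
  set φ := Int.castRingHom ℚ
  have i3 : Irreducible (cyclotomic 3 ℚ) := cyclotomic.irreducible_rat (by norm_num)
  have i12 : Irreducible (cyclotomic 12 ℚ) := cyclotomic.irreducible_rat (by norm_num)
  have e3 : (X ^ 2 + X + 1 : ℤ[X]).map φ = cyclotomic 3 ℚ := by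
    rw [cyclotomic_three]; simp [φ]
  have e12 : (X ^ 4 - X ^ 2 + 1 : ℤ[X]).map φ = cyclotomic 12 ℚ := by
    rw [← cyclotomic_twelve, map_cyclotomic_int]
  have hprod : aeval A (X ^ 4 - X ^ 2 + 1 : ℤ[X]) * aeval A (X ^ 2 + X + 1 : ℤ[X]) = 0 := by
    rw [← map_mul, ← sixPoly_factor, hA]
  have hd3 : cyclotomic 3 ℚ ∣ p.map φ := by
    by_contra hc
    refine h12 (eq_zero_of_coprime (A := A) (p := X ^ 2 + X + 1) (r := p) ?_ ?_ ?_)
    · rw [e3]; exact i3.coprime_iff_not_dvd.2 hc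
    · rw [mulVec_mulVec, ← map_mul, mul_comm, map_mul, hprod, zero_mulVec]
    · rw [mulVec_mulVec, ← map_mul, mul_comm, map_mul, ← mulVec_mulVec, hK, mulVec_zero]
  have hd12 : cyclotomic 12 ℚ ∣ p.map φ := by
    by_contra hc
    refine h3 (eq_zero_of_coprime (A := A) (p := X ^ 4 - X ^ 2 + 1) (r := p) ?_ ?_ ?_)
    · rw [e12]; exact i12.coprime_iff_not_dvd.2 hc
    · rw [mulVec_mulVec, hprod, zero_mulVec]
    · rw [mulVec_mulVec, ← map_mul, mul_comm, map_mul, ← mulVec_mulVec, hK, mulVec_zero]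
  have hp0 : p.map φ ≠ 0 := by
    rw [Ne, Polynomial.map_eq_zero_iff Int.cast_injective]
    intro e
    refine ha (funext fun j => ?_)
    have := congrArg (fun f : ℤ[X] => f.coeff (j : ℕ)) e
    simpa [hp, finsetSum_coeff, coeff_X_pow, Fin.val_inj] using this
  have hlt : (p.map φ).natDegree ≤ 5 := natDegree_map_le.trans
    (natDegree_sum_le_of_forall_le _ _ fun k _ => (natDegree_C_mul_X_pow_le _ _).trans (by omega))
  have hco : IsCoprime (cyclotomic 3 ℚ) (cyclotomic 12 ℚ) :=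
    cyclotomic.isCoprime_rat (by norm_num)
  have := natDegree_le_of_dvd (hco.mul_dvd hd3 hd12) hp0
  rw [natDegree_mul (cyclotomic_ne_zero _ _) (cyclotomic_ne_zero _ _), natDegree_cyclotomic,
    natDegree_cyclotomic] at this
  have h1 : Nat.totient 3 = 2 := by decide
  have h2 : Nat.totient 12 = 4 := by decide
  omega

/-- The Gram determinants that occur. -/
theorem gram_det_six (g : ℕ → ℤ) :
    (g 0 = 4 ∧ g 2 = 1 ∧ g 3 = 1 ∧ g 4 = -2 ∧ ((g 1 = 1 ∧ g 5 = -2) ∨ (g 1 = -2 ∧ g 5 = 1)) →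
      (Matrix.of fun i j : Fin 6 => g ((i : ℕ) - j + ((j : ℕ) - i))).det = 243) ∧
    (g 0 = 6 ∧ g 2 = 0 ∧ g 3 = 3 ∧ g 4 = -3 ∧
      ((g 1 = 3 ∧ g 5 = -6) ∨ (g 1 = 0 ∧ g 5 = -3) ∨ (g 1 = -3 ∧ g 5 = 0) ∨ (g 1 = -6 ∧ g 5 = 3)) →
      (Matrix.of fun i j : Fin 6 => g ((i : ℕ) - j + ((j : ℕ) - i))).det ∈ [243 * 9, 243 * 81]) := by
  have key : ∀ l : List ℤ, (∀ k < 6, g k = l.getD k 0) →
      (Matrix.of fun i j : Fin 6 => g ((i : ℕ) - j + ((j : ℕ) - i))) =
        Matrix.of fun i j : Fin 6 => l.getD ((i : ℕ) - j + ((j : ℕ) - i)) 0 := fun l hl => by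
    ext i j
    exact hl _ (by omega)
  constructor
  · rintro ⟨a, b, c, d, ⟨e, f⟩ | ⟨e, f⟩⟩
    · rw [key [4, 1, 1, 1, -2, -2] fun k hk => by interval_cases k <;> simp [a, b, c, d, e, f]]
      decide +kernel
    · rw [key [4, -2, 1, 1, -2, 1] fun k hk => by interval_cases k <;> simp [a, b, c, d, e, f]]
      decide +kernel
  · rintro ⟨a, b, c, d, ⟨e, f⟩ | ⟨e, f⟩ | ⟨e, f⟩ | ⟨e, f⟩⟩
    · rw [key [6, 3, 0, 3, -3, -6] fun k hk => by interval_cases k <;> simp [a, b, c, d, e, f]]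
      decide +kernel
    · rw [key [6, 0, 0, 3, -3, -3] fun k hk => by interval_cases k <;> simp [a, b, c, d, e, f]]
      decide +kernel
    · rw [key [6, -3, 0, 3, -3, 0] fun k hk => by interval_cases k <;> simp [a, b, c, d, e, f]]
      decide +kernel
    · rw [key [6, -6, 0, 3, -3, 3] fun k hk => by interval_cases k <;> simp [a, b, c, d, e, f]]
      decide +kernel

theorem gram_det_four (g : ℕ → ℤ) (h0 : g 0 = 6) (h2 : g 2 = 3) (h3 : g 3 = 0)
    (h1 : g 1 ∈ [6, 3, 0, -3, -6]) :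
    (Matrix.of fun i j : Fin 4 => g ((i : ℕ) - j + ((j : ℕ) - i))).det ∈ [81, 81 * 4, 81 * 9] := by
  have key : ∀ l : List ℤ, (∀ k < 4, g k = l.getD k 0) →
      (Matrix.of fun i j : Fin 4 => g ((i : ℕ) - j + ((j : ℕ) - i))) =
        Matrix.of fun i j : Fin 4 => l.getD ((i : ℕ) - j + ((j : ℕ) - i)) 0 := fun l hl => by
    ext i j
    exact hl _ (by omega)
  simp only [List.mem_cons, List.not_mem_nil, or_false] at h1
  rcases h1 with e | e | e | e | e
  · rw [key [6, 6, 3, 0] fun k hk => by interval_cases k <;> simp [h0, h2, h3, e]]; decide +kernel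
  · rw [key [6, 3, 3, 0] fun k hk => by interval_cases k <;> simp [h0, h2, h3, e]]; decide +kernel
  · rw [key [6, 0, 3, 0] fun k hk => by interval_cases k <;> simp [h0, h2, h3, e]]; decide +kernel
  · rw [key [6, -3, 3, 0] fun k hk => by interval_cases k <;> simp [h0, h2, h3, e]]; decide +kernel
  · rw [key [6, -6, 3, 0] fun k hk => by interval_cases k <;> simp [h0, h2, h3, e]]; decide +kernel

end Cfsg.Agent.CoxTorus
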