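import Cfsg.Agent.Lib.CoxTorus.Lin
import Cfsg.Agent.Lib.Lie.ChevWGroup
import Cfsg.Agent.Lib.Lie.ChevLong
import Cfsg.Agent.Lib.ChevAut.SubfieldGroup

/-! Matrices of Weyl words on the weight lattice; regular functionals have no stabiliser. -/

set_option autoImplicit false

namespace Cfsg.Agent.CoxTorus

open Cfsg.Lie Cfsg.Agent.Chev Cfsg.Agent.Chev.Tab Cfsg.Agent.ChevAut Matrix

variable {T : Tab}

/-- The Cartan integers of a root. -/
def avec (T : Tab) (s : ℕ) : Fin T.l → ℤ := fun j => T.A j s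

/-- The matrix of a fundamental reflection. -/
def rmat (T : Tab) (i : ℕ) : Matrix (Fin T.l) (Fin T.l) ℤ :=
  Matrix.of fun a b => (if a = b then 1 else 0) - (if (b : ℕ) = i then T.A a (T.smp i) else 0)

/-- The matrix of a word. -/
def wmat (T : Tab) (L : List ℕ) : Matrix (Fin T.l) (Fin T.l) ℤ := (L.map (rmat T)).prod

/-- The coefficients of a root in terms of the fundamental roots. -/
def rootCoef (T : Tab) (M : List (List ℤ)) (s k : ℕ) : ℤ :=
  sumBelow (fun j => (M.getD j []).getD k 0 * T.A j s) T.l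

/-- The positive roots have nonnegative coefficients. -/
def checkComb (T : Tab) (M : List (List ℤ)) : Bool :=
  allBelow (fun m => allBelow (fun k => decide (0 ≤ rootCoef T M (T.N + m) k)) T.l) T.N

@[simp] theorem wmat_nil : wmat T [] = 1 := rfl

theorem wmat_cons (i : ℕ) (L : List ℕ) : wmat T (i :: L) = rmat T i * wmat T L := by simp [wmat]

theorem wmat_append (A B : List ℕ) : wmat T (A ++ B) = wmat T A * wmat T B := by simp [wmat]

theorem rmat_avec (g : T.Good) {i s : ℕ} (hi : i < T.l) (hs : s < T.n) :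
    rmat T i *ᵥ avec T s = avec T (T.ref i s) := by
  funext a
  simp only [mulVec, dotProduct, rmat, Matrix.of_apply, sub_mul, ite_mul, one_mul, zero_mul,
    Finset.sum_sub_distrib, Finset.sum_ite_eq, Finset.mem_univ, if_true]
  rw [Finset.sum_eq_single (⟨i, hi⟩ : Fin T.l)]
  · simp [avec, A_ref g hi a.2 hs]
  · intro b _ hb
    rw [if_neg fun e => hb (Fin.ext e)]
  · simp

theorem wmat_avec (g : T.Good) : ∀ {L : List ℕ}, T.Wd L → ∀ {s : ℕ}, s < T.n →
    wmat T L *ᵥ avec T s = avec T (T.rw' L s)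
  | [], _, _, _ => by simp
  | i :: L, h, s, hs => by
    obtain ⟨hi, hL⟩ := Wd.cons_iff.1 h
    rw [wmat_cons, ← mulVec_mulVec, wmat_avec g hL hs, rmat_avec g hi (rw'_lt g hL hs), rw'_cons]

/-- The table inverts the Cartan matrix up to a positive factor. -/
def HasDual (T : Tab) (M : List (List ℤ)) : Prop := ∃ d : ℕ, 0 < d ∧ checkDual T d M = true

theorem single_eq_sum {d : ℕ} {M : List (List ℤ)} (hM : checkDual T d M = true) (j : Fin T.l) :
    (d : ℤ) • (Pi.single j 1 : Fin T.l → ℤ) =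
      ∑ i : Fin T.l, (M.getD (j : ℕ) []).getD (i : ℕ) 0 • avec T (T.smp i) := by
  funext m
  have h := allBelow_eq_true.1 (allBelow_eq_true.1 hM j j.2) m m.2
  rw [beq_iff_eq, sumBelow_eq_sum, Finset.sum_range] at h
  simp only [Finset.sum_apply, Pi.smul_apply, smul_eq_mul, avec, h]
  rcases eq_or_ne m j with rfl | hne
  · simp [nat_beq.2 rfl]
  · rw [nat_beq_false.2 fun e => hne (Fin.ext e), cond_false, Pi.single_eq_of_ne hne, mul_zero]

theorem matrix_ext_roots (g : T.Good) {M : List (List ℤ)} (hM : HasDual T M)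
    {X Y : Matrix (Fin T.l) (Fin T.l) ℤ} (h : ∀ s < T.n, X *ᵥ avec T s = Y *ᵥ avec T s) : X = Y := by
  obtain ⟨d, hd, hM⟩ := hM
  refine ext_of_mulVec_single fun j => smul_right_injective (Fin T.l → ℤ) (Int.natCast_ne_zero.2 hd.ne') ?_
  simp only [← mulVec_smul, single_eq_sum hM]
  simp only [mulVec_sum, mulVec_smul]
  exact Finset.sum_congr rfl fun i _ => by rw [h _ (g.smp_lt i.2)]

theorem wmat_congr (g : T.Good) {M : List (List ℤ)} (hM : HasDual T M) {A B : List ℕ}
    (hA : T.Wd A) (hB : T.Wd B) (h : ∀ s < T.n, T.rw' A s = T.rw' B s) : wmat T A = wmat T B :=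
  matrix_ext_roots g hM fun s hs => by rw [wmat_avec g hA hs, wmat_avec g hB hs, h s hs]

theorem wmat_reverse_mul (g : T.Good) {M : List (List ℤ)} (hM : HasDual T M) {L : List ℕ}
    (hL : T.Wd L) : wmat T L.reverse * wmat T L = 1 := by
  rw [← wmat_append, ← wmat_nil]
  exact wmat_congr g hM (Wd.append_iff.2 ⟨hL.reverse, hL⟩) (by simp [Wd]) fun s hs => by
    rw [rw'_append, rw'_rev g hL hs, rw'_nil]

/-- A word repeated. -/
def rep (k : ℕ) (L : List ℕ) : List ℕ := (List.replicate k L).flatten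

theorem rep_wd {L : List ℕ} (hL : T.Wd L) (k : ℕ) : T.Wd (rep k L) := by
  intro i hi
  obtain ⟨A, hA, hiA⟩ := List.mem_flatten.1 hi
  rw [List.eq_of_mem_replicate hA] at hiA
  exact hL i hiA

theorem wmat_rep (L : List ℕ) : ∀ k, wmat T (rep k L) = wmat T L ^ k
  | 0 => by simp [rep]
  | k + 1 => by
    rw [rep, List.replicate_succ, List.flatten_cons, wmat_append, pow_succ']
    rw [← rep, wmat_rep L k]

theorem pL_rep (g : T.Good) (L : List ℕ) : ∀ k, pL g (rep k L) = pL g L ^ k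
  | 0 => by simp [rep, pL_nil]
  | k + 1 => by
    rw [rep, List.replicate_succ, List.flatten_cons, pL_append, pow_succ']
    rw [← rep, pL_rep g L k]

theorem wmat_pow_card (g : T.Good) {M : List (List ℤ)} (hM : HasDual T M) {L : List ℕ}
    (hL : T.Wd L) : wmat T L ^ Nat.card (wG g) = 1 := by
  rw [← wmat_rep, ← wmat_nil]
  refine wmat_congr g hM (rep_wd hL _) (by simp [Wd]) ?_
  rw [← pL_eq_iff g (rep_wd hL _) (by simp [Wd]), pL_rep, pL_nil]
  exact congrArg Subtype.val (pow_card_eq_one' (x := (⟨pL g L, L, hL, rfl⟩ : ↥(wG g))))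

variable {F : Type*} [Field F]

theorem wt_eq_chi (c : ℕ → Fˣ) (s : ℕ) :
    wt T F c s = chi (fun j : Fin T.l => c j) (avec T s) := by
  rw [wt, Finset.prod_range]
  rfl

theorem twist_of_roots (g : T.Good) {M : List (List ℤ)} (hM : checkDual T 1 M = true)
    {A : Type*} [CommGroup A] {c : Fin T.l → A} {X : Matrix (Fin T.l) (Fin T.l) ℤ} {q : ℕ}
    (h : ∀ s < T.n, chi c (X *ᵥ avec T s) = chi c (avec T s) ^ q) : Twist c X q := by
  rw [twist_iff]
  intro j
  have e := congrArg (fun x => chi c (X *ᵥ x)) ((one_zsmul _).symm.trans (single_eq_sum hM j))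
  simp only [mulVec_single_one, mulVec_sum, mulVec_smul, chi_sum, chi_smul] at e
  rw [show (fun i => X i j) = X.col j from rfl, e, ← chi_single c j, (one_zsmul _).symm.trans (single_eq_sum hM j), chi_sum,
    ← Finset.prod_pow]
  refine Finset.prod_congr rfl fun i _ => ?_
  rw [h _ (g.smp_lt i.2), chi_smul, ← zpow_natCast, ← zpow_natCast, ← _root_.zpow_mul,
    ← _root_.zpow_mul, mul_comm]

/-! ### Regular functionals -/

theorem dot_avec {d : ℕ} {M : List (List ℤ)} (hM : checkDual T d M = true) (φ : Fin T.l → ℤ)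
    (s : ℕ) : (d : ℤ) * (φ ⬝ᵥ avec T s) =
      ∑ k : Fin T.l, rootCoef T M s k * (φ ⬝ᵥ avec T (T.smp k)) := by
  have h : (d : ℤ) • avec T s = ∑ k : Fin T.l, rootCoef T M s k • avec T (T.smp k) := by
    calc (d : ℤ) • avec T s = ∑ j : Fin T.l, avec T s j • ((d : ℤ) • (Pi.single j 1 : Fin T.l → ℤ)) := by
          funext m
          simp [Finset.sum_apply, Pi.single_apply, mul_comm]
      _ = ∑ j : Fin T.l, ∑ k : Fin T.l,
          (avec T s j * (M.getD (j : ℕ) []).getD (k : ℕ) 0) • avec T (T.smp k) := by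
        refine Finset.sum_congr rfl fun j _ => ?_
        rw [single_eq_sum hM j, Finset.smul_sum]
        exact Finset.sum_congr rfl fun k _ => smul_smul _ _ _
      _ = _ := by
        rw [Finset.sum_comm]
        refine Finset.sum_congr rfl fun k _ => ?_
        rw [rootCoef, sumBelow_eq_sum, Finset.sum_range, Finset.sum_smul]
        exact Finset.sum_congr rfl fun j _ => by rw [mul_comm]; rfl
  rw [← smul_eq_mul, ← dotProduct_smul, h, dotProduct_sum]
  exact Finset.sum_congr rfl fun k _ => by rw [dotProduct_smul, smul_eq_mul]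

theorem avec_dot_pos (g : T.Good) {M : List (List ℤ)} (hM : HasDual T M)
    (hcomb : checkComb T M = true) {φ : Fin T.l → ℤ}
    (hφ : ∀ k < T.l, 0 < φ ⬝ᵥ avec T (T.smp k)) {s : ℕ} (hN : T.N ≤ s) (hs : s < T.n) :
    0 < φ ⬝ᵥ avec T s := by
  obtain ⟨m, rfl⟩ : ∃ m, s = T.N + m := ⟨s - T.N, by omega⟩
  obtain ⟨d, hd, hM⟩ := hM
  refine pos_of_mul_pos_right (b := φ ⬝ᵥ avec T (T.N + m)) ?_ (Int.natCast_nonneg d)
  rw [dot_avec hM φ (T.N + m)]
  have hnn : ∀ k < T.l, 0 ≤ rootCoef T M (T.N + m) k := fun k hk => by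
    have := allBelow_eq_true.1 (allBelow_eq_true.1 hcomb m (by have := n_def (T := T); omega)) k hk
    exact mem_decide this
  obtain ⟨j, hne⟩ : ∃ j : Fin T.l, rootCoef T M (T.N + m) j ≠ 0 := by
    by_contra hc
    push Not at hc
    have h2 := (g.sign' hs).2.1
    rw [Finset.sum_eq_zero fun i hi => ?_] at h2
    · omega
    · have := dot_avec hM (Pi.single (⟨i, Finset.mem_range.1 hi⟩ : Fin T.l) 1) (T.N + m)
      rw [single_one_dotProduct, Finset.sum_eq_zero (fun k _ => by rw [hc k, zero_mul])] at this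
      rw [show T.A i (T.N + m) = 0 from
        (mul_eq_zero.1 this).resolve_left (Int.natCast_ne_zero.2 hd.ne'), mul_zero]
  exact Finset.sum_pos' (fun k _ => mul_nonneg (hnn k k.2) (hφ k k.2).le)
    ⟨j, Finset.mem_univ _, mul_pos (lt_of_le_of_ne (hnn j j.2) (Ne.symm hne)) (hφ j j.2)⟩

theorem sum_vecMul_rmat (φ : Fin T.l → ℤ) {i : ℕ} (hi : i < T.l) :
    ∑ j, (φ ᵥ* rmat T i) j = (∑ j, φ j) - φ ⬝ᵥ avec T (T.smp i) := by
  simp only [vecMul, dotProduct, rmat, Matrix.of_apply, mul_sub, mul_ite, mul_one, mul_zero,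
    Finset.sum_sub_distrib, Finset.sum_ite_eq', Finset.mem_univ, if_true]
  congr 1
  rw [Finset.sum_eq_single (⟨i, hi⟩ : Fin T.l)]
  · simp [avec]
  · intro b _ hb
    exact Finset.sum_eq_zero fun a _ => by rw [if_neg fun e => hb (Fin.ext e)]
  · simp

theorem vecMul_dot_avec (g : T.Good) (φ : Fin T.l → ℤ) {L : List ℕ} (hL : T.Wd L) {s : ℕ}
    (hs : s < T.n) : (φ ᵥ* wmat T L) ⬝ᵥ avec T s = φ ⬝ᵥ avec T (T.rw' L s) := by
  rw [← dotProduct_mulVec, wmat_avec g hL hs]

theorem rw'_id_of_regular (g : T.Good) {M : List (List ℤ)} (hM : HasDual T M)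
    (hcomb : checkComb T M = true) {ψ : Fin T.l → ℤ}
    (hreg : ∀ s < T.n, ψ ⬝ᵥ avec T s ≠ 0) {L : List ℕ} (hL : T.Wd L)
    (hfix : ∀ s < T.n, ψ ⬝ᵥ avec T (T.rw' L s) = ψ ⬝ᵥ avec T s) :
    ∀ s < T.n, T.rw' L s = s := by
  classical
  haveI : Fintype ↥(wG g) := Fintype.ofFinite _
  let h : ↥(wG g) → ℤ := fun w => ∑ j, (ψ ᵥ* wmat T w.2.choose) j
  obtain ⟨w, -, hw⟩ := Finset.exists_max_image Finset.univ h ⟨1, Finset.mem_univ _⟩
  set u := w.2.choose with hu
  have huW : T.Wd u := w.2.choose_spec.1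
  have hpos : ∀ k < T.l, 0 < (ψ ᵥ* wmat T u) ⬝ᵥ avec T (T.smp k) := by
    intro k hk
    rw [vecMul_dot_avec g ψ huW (g.smp_lt hk)]
    refine lt_of_le_of_ne ?_ (Ne.symm (hreg _ (rw'_lt g huW (g.smp_lt hk))))
    have hWd : T.Wd (u ++ [k]) := Wd.append_iff.2 ⟨huW, by simp [Wd, hk]⟩
    let w' : ↥(wG g) := ⟨pL g (u ++ [k]), u ++ [k], hWd, rfl⟩
    have h1 := hw w' (Finset.mem_univ _)
    have h2 : wmat T w'.2.choose = wmat T (u ++ [k]) :=
      wmat_congr g hM w'.2.choose_spec.1 hWd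
        ((pL_eq_iff g w'.2.choose_spec.1 hWd).1 w'.2.choose_spec.2)
    simp only [h, h2, ← hu, wmat_append, wmat_cons, wmat_nil, mul_one, ← vecMul_vecMul] at h1
    rw [sum_vecMul_rmat _ hk, vecMul_dot_avec g ψ huW (g.smp_lt hk)] at h1
    linarith
  have hL' : T.Wd (u.reverse ++ L ++ u) :=
    Wd.append_iff.2 ⟨Wd.append_iff.2 ⟨huW.reverse, hL⟩, huW⟩
  have hid := (nWd_torus_of_pos (F := ℚ) g _ le_rfl hL' fun s hN hs => by
    have hu1 := rw'_lt g huW hs
    have hLu := rw'_lt g hL hu1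
    have ht := rw'_lt g hL' hs
    have e : (ψ ᵥ* wmat T u) ⬝ᵥ avec T (T.rw' (u.reverse ++ L ++ u) s) =
        (ψ ᵥ* wmat T u) ⬝ᵥ avec T s := by
      rw [vecMul_dot_avec g ψ huW ht, vecMul_dot_avec g ψ huW hs, rw'_append, rw'_append,
        rw'_rev' g huW hLu, hfix _ hu1]
    by_contra hc
    rw [not_le] at hc
    have h1 := avec_dot_pos g hM hcomb hpos hN hs
    have h2 := avec_dot_pos g hM hcomb hpos ((N_le_neg_iff ht).2 hc) (by
      have := n_def (T := T)
      simp only [Tab.neg, Nat.sub_eq]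
      omega)
    have h3 : avec T (T.neg (T.rw' (u.reverse ++ L ++ u) s)) =
        -avec T (T.rw' (u.reverse ++ L ++ u) s) := by
      funext j
      exact ((g.sign' ht).1 j j.2).2.2.2
    rw [h3, dotProduct_neg] at h2
    linarith).2
  intro t ht
  have hs := rw'_lt g huW.reverse ht
  have := congrArg (T.rw' u) (hid _ hs)
  rwa [rw'_append, rw'_append, rw'_rev' g huW ht, rw'_rev' g huW (rw'_lt g hL ht)] at this

/-- A regular character of prime order coprime to the Weyl group has no stabiliser. -/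
theorem stab_trivial (g : T.Good) {M : List (List ℤ)} (hM : HasDual T M)
    (hcomb : checkComb T M = true) {r : ℕ} (hr : r.Prime) (hre : ¬ r ∣ Nat.card (wG g))
    {c : ℕ → Fˣ} (hord : ∀ j < T.l, c j ^ r = 1) {ζ : Fˣ} (hζ : IsPrimitiveRoot ζ r)
    (hne : ∀ s < T.n, wt T F c s ≠ 1)
    {L : List ℕ} (hL : T.Wd L) (hfix : ∀ s < T.n, wt T F c (T.rw' L s) = wt T F c s) :
    ∀ s < T.n, T.rw' L s = s := by
  classical
  haveI : NeZero r := ⟨hr.ne_zero⟩
  have hex : ∀ j : Fin T.l, ∃ m : ℕ, ζ ^ m = c j := fun j => by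
    have h1 : ((c j : Fˣ) : F) ^ r = 1 := by
      rw [← Units.val_pow_eq_pow_val, hord j j.2, Units.val_one]
    obtain ⟨m, -, hm⟩ := (IsPrimitiveRoot.coe_units_iff.2 hζ).eq_pow_of_pow_eq_one h1
    exact ⟨m, Units.ext (by rw [Units.val_pow_eq_pow_val, hm])⟩
  choose m hm using hex
  set γ : Fin T.l → ℤ := fun j => (m j : ℤ) with hγ
  set cc : Fin T.l → Fˣ := fun j => c j with hcc
  have hcζ : ∀ x, chi cc x = ζ ^ (γ ⬝ᵥ x) := by
    intro x
    rw [← chi_zpow_left]
    congr 1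
    funext j
    rw [zpow_natCast, hm]
  set W := wmat T L with hW
  set e := Nat.card (wG g) with he
  have hWe : W ^ e = 1 := wmat_pow_card g hM hL
  set ψ : Fin T.l → ℤ := ∑ k ∈ Finset.range e, γ ᵥ* W ^ k with hψ
  refine rw'_id_of_regular g hM hcomb (ψ := ψ) (fun s hs h0 => ?_) hL fun s hs => ?_
  · have h1 : ζ ^ (ψ ⬝ᵥ avec T s) = wt T F c s ^ e := by
      have hk : ∀ k : ℕ, chi cc (W ^ k *ᵥ avec T s) = chi cc (avec T s) := by
        intro k
        induction k with
        | zero => simp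
        | succ k ih =>
          have e : W ^ k *ᵥ avec T s = avec T (T.rw' (rep k L) s) := by
            rw [hW, ← wmat_rep, wmat_avec g (rep_wd hL k) hs]
          have hk' := rw'_lt g (rep_wd hL k) hs
          rw [e, ← wt_eq_chi, ← wt_eq_chi] at ih
          rw [pow_succ', ← mulVec_mulVec, e, hW, wmat_avec g hL hk', ← wt_eq_chi, ← wt_eq_chi,
            hfix _ hk', ih]
      have hg : ∀ n : ℕ, ζ ^ (∑ k ∈ Finset.range n, (γ ᵥ* W ^ k) ⬝ᵥ avec T s) =
          wt T F c s ^ n := by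
        intro n
        induction n with
        | zero => simp
        | succ n ih =>
          rw [Finset.sum_range_succ, _root_.zpow_add, ih, ← dotProduct_mulVec, ← hcζ, hk, wt_eq_chi,
            pow_succ]
      rw [hψ, sum_dotProduct, hg]
    rw [h0, _root_.zpow_zero] at h1
    have h2 : wt T F c s ^ r = 1 := by
      rw [wt, ← Finset.prod_pow]
      refine Finset.prod_eq_one fun j hj => ?_
      rw [← zpow_natCast, ← _root_.zpow_mul, mul_comm, _root_.zpow_mul, zpow_natCast,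
        hord j (Finset.mem_range.1 hj), _root_.one_zpow]
    have h3 := Nat.dvd_gcd (orderOf_dvd_of_pow_eq_one h1.symm) (orderOf_dvd_of_pow_eq_one h2)
    rw [Nat.Coprime.gcd_eq_one ((hr.coprime_iff_not_dvd.2 hre).symm), Nat.dvd_one,
      orderOf_eq_one_iff] at h3
    exact hne s hs h3
  · rw [← wmat_avec g hL hs, ← hW, dotProduct_mulVec]
    congr 1
    rw [hψ, sum_vecMul]
    simp only [vecMul_vecMul, ← pow_succ]
    have h1 := Finset.sum_range_succ (fun k => γ ᵥ* W ^ k) e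
    rw [Finset.sum_range_succ' (fun k => γ ᵥ* W ^ k) e, hWe, pow_zero] at h1
    exact add_right_cancel h1

end Cfsg.Agent.CoxTorus
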